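import Mathlib
import Cfsg.Agent.Lib.H15.AC2
import Cfsg.Agent.S4022
import Cfsg.Agent.Lib.H06.Basic
import Cfsg.Agent.Lib.H12.Core
import Cfsg.Agent.Lib.H01.Fitting
import Cfsg.Agent.Lib.H01.Solv2

/-!
# A quaternion Sylow subgroup acting on a normal elementary abelian Sylow subgroup
-/

set_option autoImplicit false
set_option linter.unusedSectionVars false

namespace Cfsg.Agent.H15.AC

open Cfsg
open scoped commutatorElement
open Cfsg.Agent.H18 (HProp)
open QuaternionGroup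

universe u

theorem q8_decide : (∀ x : QuaternionGroup 2, x ^ 4 = 1) ∧ (∀ x : QuaternionGroup 2, x ^ 2 = 1 ∨ x ^ 2 = a 2) ∧
    (∀ x : QuaternionGroup 2, x ^ 2 = 1 → x = 1 ∨ x = a 2) ∧
    (∀ x y : QuaternionGroup 2, x * y * x⁻¹ * y⁻¹ = 1 ∨ x * y * x⁻¹ * y⁻¹ = a 2) ∧
    (∀ x : QuaternionGroup 2, x * a 2 = a 2 * x) ∧
    (∀ x : QuaternionGroup 2, ∃ m ∈ Finset.range 4, ∃ n ∈ Finset.range 2, x = (a 1) ^ m * (xa 0) ^ n) ∧
    (a 1 : QuaternionGroup 2) ^ 2 = a 2 ∧ (xa 0 : QuaternionGroup 2) ^ 2 = a 2 ∧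
    (a 1 * xa 0 : QuaternionGroup 2) ^ 2 = a 2 ∧
    (xa 0 * a 1 * (xa 0)⁻¹ : QuaternionGroup 2) = (a 1)⁻¹ ∧ (a 2 : QuaternionGroup 2) ≠ 1 ∧
    (a 2 : QuaternionGroup 2) ^ 2 = 1 := by
  decide

variable {G : Type*} [Group G] [Finite G]

/-- The elements of a quaternion subgroup. -/
theorem q8_data (S : Subgroup G) (φ : ↥S ≃* QuaternionGroup 2) :
    ∃ i j : G, i ∈ S ∧ j ∈ S ∧ orderOf i = 4 ∧ orderOf j = 4 ∧ orderOf (i * j) = 4 ∧ j ^ 2 = i ^ 2 ∧
      j * i * j⁻¹ = i⁻¹ ∧ (∀ x ∈ S, ∃ m n : ℕ, x = i ^ m * j ^ n) ∧ (∀ x ∈ S, x ^ 4 = 1) ∧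
      (∀ x ∈ S, x ^ 2 = 1 ∨ x ^ 2 = i ^ 2) ∧ (∀ x ∈ S, x ^ 2 = 1 → x = 1 ∨ x = i ^ 2) ∧
      (∀ x ∈ S, ∀ y ∈ S, x * y * x⁻¹ * y⁻¹ = 1 ∨ x * y * x⁻¹ * y⁻¹ = i ^ 2) ∧
      (∀ x ∈ S, x * i ^ 2 = i ^ 2 * x) := by
  obtain ⟨h1, h2, h3, h4, h5, h6, h7, h8, h9, h10, h11, h12⟩ := q8_decide
  haveI : Fact (Nat.Prime 2) := ⟨Nat.prime_two⟩
  let ψ : QuaternionGroup 2 →* G := S.subtype.comp φ.symm.toMonoidHom
  have hψinj : Function.Injective ψ := S.subtype_injective.comp φ.symm.injective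
  have hψS : ∀ x, ψ x ∈ S := fun x => (φ.symm x).2
  have hsurj : ∀ x ∈ S, ∃ y, ψ y = x := fun x hx => ⟨φ ⟨x, hx⟩, by simp [ψ]⟩
  have hord : ∀ x : QuaternionGroup 2, x ^ 2 = a 2 → orderOf (ψ x) = 4 := by
    intro x hx
    rw [orderOf_injective ψ hψinj]
    have := orderOf_eq_prime_pow (p := 2) (n := 1) (x := x) (by rw [pow_one, hx]; exact h11)
      (by have h0 := h1 x; norm_num; exact h0)
    simpa using this
  have hz : ψ (a 1) ^ 2 = ψ (a 2) := by rw [← map_pow, h7]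
  refine ⟨ψ (a 1), ψ (xa 0), hψS _, hψS _, hord _ h7, hord _ h8, ?_, ?_, ?_, ?_, ?_, ?_, ?_, ?_, ?_⟩
  · rw [← map_mul]
    exact hord _ h9
  · rw [hz, ← map_pow, h8]
  · rw [← map_mul, ← map_inv, ← map_mul, h10, map_inv]
  · intro x hx
    obtain ⟨y, rfl⟩ := hsurj x hx
    obtain ⟨m, -, n, -, e⟩ := h6 y
    exact ⟨m, n, by rw [e, map_mul, map_pow, map_pow]⟩
  · intro x hx
    obtain ⟨y, rfl⟩ := hsurj x hx
    rw [← map_pow, h1, map_one]
  · intro x hx
    obtain ⟨y, rfl⟩ := hsurj x hx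
    rcases h2 y with e | e
    · left
      rw [← map_pow, e, map_one]
    · right
      rw [hz, ← map_pow, e]
  · intro x hx hx2
    obtain ⟨y, rfl⟩ := hsurj x hx
    have e : y ^ 2 = 1 := by
      apply hψinj
      rw [map_pow, hx2, map_one]
    rcases h3 y e with e | e
    · left
      rw [e, map_one]
    · right
      rw [hz, e]
  · intro x hx y hy
    obtain ⟨x', rfl⟩ := hsurj x hx
    obtain ⟨y', rfl⟩ := hsurj y hy
    rcases h4 x' y' with e | e
    · left
      rw [← map_inv, ← map_inv, ← map_mul, ← map_mul, ← map_mul, e, map_one]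
    · right
      rw [hz, ← map_inv, ← map_inv, ← map_mul, ← map_mul, ← map_mul, e]
  · intro x hx
    obtain ⟨y, rfl⟩ := hsurj x hx
    rw [hz, ← map_mul, ← map_mul, h5]

section abstract

variable {W : Type*} [Group W]

/-- Sign lemma: commuting involutions with the same fixed points as their product are trivial. -/
theorem sign_W (hW : ∀ a b : W, a * b = b * a) (hodd : ∀ w : W, w ^ 2 = 1 → w = 1) (ι jj : W →* W)
    (h1 : ∀ w, ι (ι w) = w) (h2 : ∀ w, jj (jj w) = w) (h3 : ∀ w, ι (jj w) = jj (ι w))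
    (hij : ∀ w, ι w = w ↔ jj w = w) (hik : ∀ w, ι w = w ↔ ι (jj w) = w) : ∀ w, ι w = w := by
  letI : CommGroup W := { (inferInstance : Group W) with mul_comm := hW }
  intro y
  obtain ⟨w, hw⟩ : ∃ w, w = y * (ι y)⁻¹ := ⟨_, rfl⟩
  have hιw : ι w = w⁻¹ := by
    rw [hw, map_mul, map_inv, h1, mul_inv, inv_inv]
    exact mul_comm _ _
  have hjw : jj (w * jj w) = w * jj w := by
    rw [map_mul, h2, mul_comm]
  have hιj : ι (w * jj w) = w * jj w := (hij _).2 hjw
  have h4 : ι (w * jj w) = (w * jj w)⁻¹ := by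
    rw [map_mul, h3, hιw, map_inv, mul_inv]
  rw [h4] at hιj
  have h5 : (w * jj w) ^ 2 = 1 := by
    rw [sq]
    nth_rewrite 1 [← hιj]
    simp
  have h6 : w * jj w = 1 := hodd _ h5
  have h7 : jj w = w⁻¹ := eq_inv_of_mul_eq_one_right h6
  have h8 : ι (jj w) = w := by
    rw [h7, map_inv, hιw, inv_inv]
  have h9 : ι w = w := (hik w).2 h8
  have h10 : w⁻¹ = w := by rw [← hιw, h9]
  have h11 : w ^ 2 = 1 := by
    rw [sq]
    nth_rewrite 1 [← h10]
    simp
  have h12 : w = 1 := hodd _ h11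
  rw [hw] at h12
  have h13 : y = ι y := mul_inv_eq_one.1 h12
  exact h13.symm

/-- Endomorphisms of a cyclic group commute. -/
theorem cyclic_endo_comm [IsCyclic W] (f g : W →* W) (w : W) : f (g w) = g (f w) := by
  obtain ⟨c, hc⟩ := IsCyclic.exists_generator (α := W)
  obtain ⟨n, rfl⟩ := Subgroup.mem_zpowers_iff.1 (hc w)
  obtain ⟨a, ha⟩ := Subgroup.mem_zpowers_iff.1 (hc (f c))
  obtain ⟨b, hb⟩ := Subgroup.mem_zpowers_iff.1 (hc (g c))
  simp only [map_zpow, ← ha, ← hb]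
  rw [← zpow_mul, ← zpow_mul, ← zpow_mul, ← zpow_mul]
  congr 1
  ring

/-- Line-preserving endomorphisms commute. -/
theorem line_comm (τ σ : W →* W) (hτ : ∀ v, τ v ∈ Subgroup.zpowers v) (hσ : ∀ v, σ v ∈ Subgroup.zpowers v) (v : W) :
    τ (σ v) = σ (τ v) := by
  obtain ⟨m, hm⟩ := Subgroup.mem_zpowers_iff.1 (hσ v)
  obtain ⟨n, hn⟩ := Subgroup.mem_zpowers_iff.1 (hτ v)
  rw [← hm, ← hn, map_zpow, map_zpow, ← hm, ← hn, ← zpow_mul, ← zpow_mul, mul_comm]

theorem two_over [Finite W] (hW : ∀ a b : W, a * b = b * a) {p : ℕ} [hp : Fact p.Prime] (hexp : ∀ w : W, w ^ p = 1)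
    (L : Subgroup W) (hL : Nat.card L * p ^ 2 ≤ Nat.card W) :
    ∃ L₁ L₂ : Subgroup W, Nat.card L₁ = p * Nat.card L ∧ Nat.card L₂ = p * Nat.card L ∧ L₁ ⊓ L₂ = L := by
  classical
  have hpg : IsPGroup p W := fun w => ⟨1, by simpa using hexp w⟩
  have hpos : 0 < Nat.card L := Nat.card_pos
  have hp2 : 2 ≤ p := hp.out.two_le
  have hne : L ≠ ⊤ := by
    intro hLt
    have hL' := hL
    rw [hLt, Subgroup.card_top] at hL'
    have hW0 : 0 < Nat.card W := Nat.card_pos
    have hp4 : 2 ^ 2 ≤ p ^ 2 := Nat.pow_le_pow_left hp2 2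
    nlinarith
  obtain ⟨U, hLU, -, hU⟩ := Cfsg.Agent.S4022.exists_between (hpg.to_subgroup ⊤) le_top hne.symm.symm
  have hUne : U ≠ ⊤ := by
    intro hUt
    have hU' := hU
    rw [hUt, Subgroup.card_top] at hU'
    have hL' := hL
    rw [hU'] at hL'
    have hp4 : 2 ^ 2 ≤ p ^ 2 := Nat.pow_le_pow_left hp2 2
    have hpp : 0 < p := by omega
    nlinarith [Nat.mul_pos hpos hpp]
  obtain ⟨b, hb⟩ : ∃ b, b ∉ U := by
    by_contra hcon
    push Not at hcon
    exact hUne (eq_top_iff.2 fun x _ => hcon x)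
  have hb1 : b ≠ 1 := fun h => hb (h ▸ U.one_mem)
  have hbord : orderOf b = p := orderOf_eq_prime (hexp b) hb1
  haveI hLn : L.Normal := ⟨fun n hn g => by
    rw [hW g n, mul_assoc, mul_inv_cancel, mul_one]
    exact hn⟩
  have hzc : Nat.card (Subgroup.zpowers b) = p := by rw [Nat.card_zpowers, hbord]
  have hinf : Nat.card ↥(Subgroup.zpowers b ⊓ L) = 1 := by
    have h1 : Nat.card ↥(Subgroup.zpowers b ⊓ L) ∣ p := hzc ▸ Subgroup.card_dvd_of_le inf_le_left
    rcases (Nat.dvd_prime hp.out).1 h1 with h | h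
    · exact h
    · exfalso
      have h2 : Subgroup.zpowers b ⊓ L = Subgroup.zpowers b :=
        Subgroup.eq_of_le_of_card_ge inf_le_left (by rw [h, hzc])
      have h3 : b ∈ Subgroup.zpowers b ⊓ L := by
        rw [h2]
        exact Subgroup.mem_zpowers b
      exact hb (hLU h3.2)
  have hsup := Cfsg.Agent.H18.card_sup_mul_card_inf (Subgroup.zpowers b) L
  rw [hinf, mul_one, hzc] at hsup
  refine ⟨U, Subgroup.zpowers b ⊔ L, hU, hsup, ?_⟩
  have hLI : L ≤ U ⊓ (Subgroup.zpowers b ⊔ L) := le_inf hLU le_sup_right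
  have hIne : U ⊓ (Subgroup.zpowers b ⊔ L) ≠ U := by
    intro h
    have h1 : U ≤ Subgroup.zpowers b ⊔ L := inf_eq_left.1 h
    have h2 := Subgroup.eq_of_le_of_card_ge h1 (by rw [hU, hsup])
    apply hb
    rw [h2]
    exact (le_sup_left : Subgroup.zpowers b ≤ _) (Subgroup.mem_zpowers b)
  obtain ⟨t, ht⟩ := Subgroup.card_dvd_of_le hLI
  have hdvd : Nat.card ↥(U ⊓ (Subgroup.zpowers b ⊔ L)) ∣ Nat.card U := Subgroup.card_dvd_of_le inf_le_left
  rw [ht, hU, mul_comm p] at hdvd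
  have ht' : t ∣ p := Nat.dvd_of_mul_dvd_mul_left hpos hdvd
  rcases (Nat.dvd_prime hp.out).1 ht' with h | h
  · rw [h, mul_one] at ht
    exact (Subgroup.eq_of_le_of_card_ge hLI ht.le).symm
  · exfalso
    apply hIne
    apply Subgroup.eq_of_le_of_card_ge inf_le_left
    rw [ht, hU, h, mul_comm]

theorem descent [Finite W] (hW : ∀ a b : W, a * b = b * a) {p : ℕ} [hp : Fact p.Prime] (hexp : ∀ w : W, w ^ p = 1)
    (τ : W →* W) (k n : ℕ) (hcard : Nat.card W = p ^ n) (hk : 1 ≤ k) (hkn : k < n)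
    (hP : ∀ L : Subgroup W, Nat.card L = p ^ k → ∀ l ∈ L, τ l ∈ L) : ∀ v, τ v ∈ Subgroup.zpowers v := by
  have key : ∀ j, j ≤ k - 1 → ∀ L : Subgroup W, Nat.card L = p ^ (k - j) → ∀ l ∈ L, τ l ∈ L := by
    intro j
    induction j with
    | zero =>
      intro _ L hL
      exact hP L (by simpa using hL)
    | succ j ih =>
      intro hj L hL l hl
      have e : k - j = k - (j + 1) + 1 := by omega
      have hle : Nat.card L * p ^ 2 ≤ Nat.card W := by
        rw [hL, hcard, ← pow_add]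
        exact Nat.pow_le_pow_right hp.out.pos (by omega)
      obtain ⟨L₁, L₂, h1, h2, h3⟩ := two_over hW hexp L hle
      have hc : ∀ M : Subgroup W, Nat.card M = p * Nat.card L → Nat.card M = p ^ (k - j) := by
        intro M hM
        rw [hM, hL, e, pow_succ, mul_comm]
      have hl' : l ∈ L₁ ⊓ L₂ := by
        rw [h3]
        exact hl
      have h4 := ih (by omega) L₁ (hc _ h1) l hl'.1
      have h5 := ih (by omega) L₂ (hc _ h2) l hl'.2
      rw [← h3]
      exact ⟨h4, h5⟩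
  intro v
  by_cases hv : v = 1
  · rw [hv, map_one]
    exact Subgroup.one_mem _
  · apply key (k - 1) le_rfl (Subgroup.zpowers v) _ v (Subgroup.mem_zpowers v)
    rw [Nat.card_zpowers, orderOf_eq_prime (hexp v) hv]
    have : k - (k - 1) = 1 := by omega
    rw [this, pow_one]

theorem sign_V [Finite W] (hW : ∀ a b : W, a * b = b * a) (hodd : ∀ w : W, w ^ 2 = 1 → w = 1) {p : ℕ} [hp : Fact p.Prime]
    (hexp : ∀ w : W, w ^ p = 1) (τ : W →* W) (hτ : ∀ v, τ v ∈ Subgroup.zpowers v) (hττ : ∀ v, τ (τ v) = v) :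
    (∀ v, τ v = v) ∨ (∀ v, τ v = v⁻¹) := by
  letI : CommGroup W := { (inferInstance : Group W) with mul_comm := hW }
  have h1 : ∀ v, τ v = v ∨ τ v = v⁻¹ := by
    intro v
    obtain ⟨u, hu⟩ : ∃ u, u = v * τ v := ⟨_, rfl⟩
    have hτu : τ u = u := by
      rw [hu, map_mul, hττ, mul_comm]
    by_cases hu1 : u = 1
    · right
      rw [hu] at hu1
      exact eq_inv_of_mul_eq_one_right hu1
    · left
      have huv : u ∈ Subgroup.zpowers v := by
        rw [hu]
        exact Subgroup.mul_mem _ (Subgroup.mem_zpowers v) (hτ v)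
      have hv1 : v ≠ 1 := by
        rintro rfl
        rw [map_one, mul_one] at hu
        exact hu1 hu
      have hle : Subgroup.zpowers u ≤ Subgroup.zpowers v := Subgroup.zpowers_le.2 huv
      have heq : Subgroup.zpowers u = Subgroup.zpowers v := by
        apply Subgroup.eq_of_le_of_card_ge hle
        rw [Nat.card_zpowers, Nat.card_zpowers, orderOf_eq_prime (hexp u) hu1, orderOf_eq_prime (hexp v) hv1]
      have hvu : v ∈ Subgroup.zpowers u := by
        rw [heq]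
        exact Subgroup.mem_zpowers v
      obtain ⟨m, rfl⟩ := Subgroup.mem_zpowers_iff.1 hvu
      rw [map_zpow, hτu]
  by_cases hall : ∀ v, τ v = v
  · exact Or.inl hall
  · right
    push Not at hall
    obtain ⟨w₀, hw₀⟩ := hall
    have hw₀' : τ w₀ = w₀⁻¹ := (h1 w₀).resolve_left hw₀
    intro v
    rcases h1 v with h | h
    · have h2 : τ (v * w₀) = v * w₀⁻¹ := by rw [map_mul, h, hw₀']
      rcases h1 (v * w₀) with h3 | h3
      · exfalso
        rw [h2] at h3
        have h4 : w₀⁻¹ = w₀ := mul_left_cancel h3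
        exact hw₀ (by rw [hw₀', h4])
      · rw [h2, mul_inv] at h3
        have h4 : v = v⁻¹ := mul_right_cancel h3
        rw [h]
        exact h4
    · exact h

end abstract

/-- Power of `α` centralizes when conjugations commute and `β` inverts `α`. -/
theorem sq_central {X : Type*} [Group X] (Y : Subgroup X) [hY : Y.Normal] (α β : X) (hrel : β * α * β⁻¹ = α⁻¹)
    (hc : ∀ w ∈ Y, α * (β * w * β⁻¹) * α⁻¹ = β * (α * w * α⁻¹) * β⁻¹) : ∀ w ∈ Y, α ^ 2 * w * (α ^ 2)⁻¹ = w := by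
  intro w hw
  have hw' : β⁻¹ * w * β ∈ Y := by
    have := hY.conj_mem w hw β⁻¹
    simpa using this
  have h1 := hc _ hw'
  have e1 : β * (β⁻¹ * w * β) * β⁻¹ = w := by group
  rw [e1] at h1
  have e2 : β * (α * (β⁻¹ * w * β) * α⁻¹) * β⁻¹ = (β * α * β⁻¹) * w * (β * α * β⁻¹)⁻¹ := by group
  rw [e2, hrel, inv_inv] at h1
  calc α ^ 2 * w * (α ^ 2)⁻¹ = α * (α * w * α⁻¹) * α⁻¹ := by
        simp only [pow_two, mul_inv_rev, mul_assoc]
    _ = α * (α⁻¹ * w * α) * α⁻¹ := by rw [h1]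
    _ = w := by group

theorem cent_eq_of_zpowers_eq {X : Type*} [Group X] {x y : X} (h : Subgroup.zpowers x = Subgroup.zpowers y) :
    Subgroup.centralizer {x} = Subgroup.centralizer {y} := by
  ext e
  rw [Subgroup.mem_centralizer_singleton_iff, Subgroup.mem_centralizer_singleton_iff]
  have hx : x ∈ Subgroup.zpowers y := h ▸ Subgroup.mem_zpowers x
  have hy : y ∈ Subgroup.zpowers x := h ▸ Subgroup.mem_zpowers y
  obtain ⟨i, hi⟩ := Subgroup.mem_zpowers_iff.1 hx
  obtain ⟨j, hj⟩ := Subgroup.mem_zpowers_iff.1 hy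
  constructor
  · intro he
    have : Commute e x := he
    rw [← hj]
    exact this.zpow_right j
  · intro he
    have : Commute e y := he
    rw [← hi]
    exact this.zpow_right i

/-- Fixed points of generators of conjugate cyclic subgroups in a normal subgroup. -/
theorem card_fix_eq {X : Type*} [Group X] [Finite X] (Y : Subgroup X) [hY : Y.Normal] (α β γ : X)
    (h : Subgroup.zpowers β = (Subgroup.zpowers α).map (MulAut.conj γ).toMonoidHom) :
    Nat.card ↥(Y ⊓ Subgroup.centralizer {α}) = Nat.card ↥(Y ⊓ Subgroup.centralizer {β}) := by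
  have h1 : Subgroup.zpowers β = Subgroup.zpowers (γ * α * γ⁻¹) := by
    rw [h, MonoidHom.map_zpowers]
    simp [MulAut.conj_apply]
  rw [cent_eq_of_zpowers_eq h1]
  have h2 : Y ⊓ Subgroup.centralizer {γ * α * γ⁻¹} =
      (Y ⊓ Subgroup.centralizer {α}).map (MulAut.conj γ).toMonoidHom := by
    ext e
    constructor
    · rintro ⟨he1, he2'⟩
      have he2 : e ∈ Subgroup.centralizer {γ * α * γ⁻¹} := he2'
      rw [Subgroup.mem_centralizer_singleton_iff] at he2
      refine ⟨γ⁻¹ * e * γ, ⟨?_, ?_⟩, by simp [MulAut.conj_apply, mul_assoc]⟩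
      · have := hY.conj_mem e he1 γ⁻¹
        simpa using this
      · change γ⁻¹ * e * γ ∈ Subgroup.centralizer {α}
        rw [Subgroup.mem_centralizer_singleton_iff]
        calc γ⁻¹ * e * γ * α = γ⁻¹ * (e * (γ * α * γ⁻¹)) * γ := by group
          _ = γ⁻¹ * ((γ * α * γ⁻¹) * e) * γ := by rw [he2]
          _ = α * (γ⁻¹ * e * γ) := by group
    · rintro ⟨e', ⟨he1, he2'⟩, rfl⟩
      have he2 : e' ∈ Subgroup.centralizer {α} := he2'
      rw [Subgroup.mem_centralizer_singleton_iff] at he2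
      refine ⟨hY.conj_mem e' he1 γ, ?_⟩
      change (MulAut.conj γ).toMonoidHom e' ∈ Subgroup.centralizer {γ * α * γ⁻¹}
      rw [Subgroup.mem_centralizer_singleton_iff]
      simp only [MulEquiv.toMonoidHom_eq_coe, MonoidHom.coe_coe, MulAut.conj_apply]
      calc γ * e' * γ⁻¹ * (γ * α * γ⁻¹) = γ * (e' * α) * γ⁻¹ := by group
        _ = γ * (α * e') * γ⁻¹ := by rw [he2]
        _ = γ * α * γ⁻¹ * (γ * e' * γ⁻¹) := by group
  rw [h2]
  exact (Subgroup.card_map_of_injective (MulAut.conj γ).injective).symm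

/-- Quaternion action on a cyclic normal subgroup of odd order is trivial. -/
theorem centralizes_cyclic {X : Type*} [Group X] [Finite X] (Y : Subgroup X) [hYn : Y.Normal] (hYc : IsCyclic Y)
    (hYodd : ∀ w ∈ Y, w ^ 2 = 1 → w = 1) (α β γ₁ γ₂ : X)
    (h1 : Subgroup.zpowers β = (Subgroup.zpowers α).map (MulAut.conj γ₁).toMonoidHom)
    (h2 : Subgroup.zpowers (α * β) = (Subgroup.zpowers α).map (MulAut.conj γ₂).toMonoidHom)
    (hsq : β ^ 2 = α ^ 2) (hrel : β * α * β⁻¹ = α⁻¹) :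
    ∀ w ∈ Y, α * w = w * α ∧ β * w = w * β := by
  have hF1 : Y ⊓ Subgroup.centralizer {α} = Y ⊓ Subgroup.centralizer {β} :=
    Cfsg.Agent.H06.eq_of_card_eq_of_le_cyclic hYc inf_le_left inf_le_left (card_fix_eq Y α β γ₁ h1)
  have hF2 : Y ⊓ Subgroup.centralizer {α} = Y ⊓ Subgroup.centralizer {α * β} :=
    Cfsg.Agent.H06.eq_of_card_eq_of_le_cyclic hYc inf_le_left inf_le_left (card_fix_eq Y α (α * β) γ₂ h2)
  let ι : ↥Y →* ↥Y := (MulAut.conjNormal α).toMonoidHom
  let jj : ↥Y →* ↥Y := (MulAut.conjNormal β).toMonoidHom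
  have hι : ∀ w : ↥Y, ((ι w : ↥Y) : X) = α * w * α⁻¹ := fun w => rfl
  have hjj : ∀ w : ↥Y, ((jj w : ↥Y) : X) = β * w * β⁻¹ := fun w => rfl
  have hcomm : ∀ w, ι (jj w) = jj (ι w) := fun w => cyclic_endo_comm ι jj w
  have hcomm' : ∀ w ∈ Y, α * (β * w * β⁻¹) * α⁻¹ = β * (α * w * α⁻¹) * β⁻¹ := by
    intro w hw
    have := congrArg Subtype.val (hcomm ⟨w, hw⟩)
    simpa [hι, hjj] using this
  have hz1 := sq_central Y α β hrel hcomm'
  have hsq1 : ∀ w, ι (ι w) = w := by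
    intro w
    apply Subtype.ext
    rw [hι, hι]
    have := hz1 w w.2
    calc α * (α * (w : X) * α⁻¹) * α⁻¹ = α ^ 2 * (w : X) * (α ^ 2)⁻¹ := by
          simp only [pow_two, mul_inv_rev, mul_assoc]
      _ = w := this
  have hsq2 : ∀ w, jj (jj w) = w := by
    intro w
    apply Subtype.ext
    rw [hjj, hjj]
    have := hz1 w w.2
    rw [← hsq] at this
    calc β * (β * (w : X) * β⁻¹) * β⁻¹ = β ^ 2 * (w : X) * (β ^ 2)⁻¹ := by
          simp only [pow_two, mul_inv_rev, mul_assoc]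
      _ = w := this
  have hfixι : ∀ w : ↥Y, ι w = w ↔ (w : X) ∈ Y ⊓ Subgroup.centralizer {α} := by
    intro w
    constructor
    · intro h
      refine ⟨w.2, ?_⟩
      change (w : X) ∈ Subgroup.centralizer {α}
      rw [Subgroup.mem_centralizer_singleton_iff]
      have h3 : α * (w : X) * α⁻¹ = w := congrArg Subtype.val h
      exact (mul_inv_eq_iff_eq_mul.1 h3).symm
    · rintro ⟨-, h'⟩
      have h3 : (w : X) ∈ Subgroup.centralizer {α} := h'
      rw [Subgroup.mem_centralizer_singleton_iff] at h3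
      apply Subtype.ext
      rw [hι, ← h3]
      simp
  have hfixjj : ∀ w : ↥Y, jj w = w ↔ (w : X) ∈ Y ⊓ Subgroup.centralizer {β} := by
    intro w
    constructor
    · intro h
      refine ⟨w.2, ?_⟩
      change (w : X) ∈ Subgroup.centralizer {β}
      rw [Subgroup.mem_centralizer_singleton_iff]
      have h3 : β * (w : X) * β⁻¹ = w := congrArg Subtype.val h
      exact (mul_inv_eq_iff_eq_mul.1 h3).symm
    · rintro ⟨-, h'⟩
      have h3 : (w : X) ∈ Subgroup.centralizer {β} := h'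
      rw [Subgroup.mem_centralizer_singleton_iff] at h3
      apply Subtype.ext
      rw [hjj, ← h3]
      simp
  have hfixk : ∀ w : ↥Y, ι (jj w) = w ↔ (w : X) ∈ Y ⊓ Subgroup.centralizer {α * β} := by
    intro w
    constructor
    · intro h
      refine ⟨w.2, ?_⟩
      change (w : X) ∈ Subgroup.centralizer {α * β}
      rw [Subgroup.mem_centralizer_singleton_iff]
      have h3 : α * (β * (w : X) * β⁻¹) * α⁻¹ = w := congrArg Subtype.val h
      calc (w : X) * (α * β) = (α * (β * (w : X) * β⁻¹) * α⁻¹) * (α * β) := by rw [h3]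
        _ = α * β * w := by simp only [mul_assoc, inv_mul_cancel_left, inv_mul_cancel, mul_one]
    · rintro ⟨-, h'⟩
      have h3 : (w : X) ∈ Subgroup.centralizer {α * β} := h'
      rw [Subgroup.mem_centralizer_singleton_iff] at h3
      apply Subtype.ext
      rw [hι, hjj]
      calc α * (β * (w : X) * β⁻¹) * α⁻¹ = (α * β) * (w : X) * (α * β)⁻¹ := by group
        _ = (w : X) * (α * β) * (α * β)⁻¹ := by rw [h3]
        _ = w := mul_inv_cancel_right _ _
  haveI := hYc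
  have hWcomm : ∀ a b : ↥Y, a * b = b * a := fun a b => by
    obtain ⟨c, hc⟩ := IsCyclic.exists_generator (α := ↥Y)
    obtain ⟨m, rfl⟩ := Subgroup.mem_zpowers_iff.1 (hc a)
    obtain ⟨n, rfl⟩ := Subgroup.mem_zpowers_iff.1 (hc b)
    rw [← zpow_add, ← zpow_add, add_comm]
  have hsignfix := sign_W hWcomm (fun w hw => Subtype.ext (hYodd w w.2 (by simpa using congrArg Subtype.val hw))) ι jj
    hsq1 hsq2 hcomm
    (fun w => by rw [hfixι, hfixjj, hF1])
    (fun w => by rw [hfixι, hfixk, hF2])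
  intro w hw
  have h3 := hsignfix ⟨w, hw⟩
  have h4 := (hfixι ⟨w, hw⟩).1 h3
  have h5 : (w : X) ∈ Y ⊓ Subgroup.centralizer {β} := by
    rw [← hF1]
    exact h4
  have h6 : w ∈ Subgroup.centralizer {α} := h4.2
  have h7 : w ∈ Subgroup.centralizer {β} := h5.2
  rw [Subgroup.mem_centralizer_singleton_iff] at h6 h7
  exact ⟨h6.symm, h7.symm⟩

end Cfsg.Agent.H15.AC
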