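import Mathlib
import Cfsg.Agent.Lib.H15.AC3

/-!
# A quaternion Sylow subgroup normalizing a proper subgroup of an exceptional Sylow subgroup
-/

set_option autoImplicit false
set_option linter.unusedSectionVars false

namespace Cfsg.Agent.H15.AC

open Cfsg
open Cfsg.Agent.H18 (HProp)

universe u

section
variable {X : Type u} [Group X] [Finite X]

theorem two_elem_in_core (a : X) (haF : a ∈ fittingSubgroup X) (t : ℕ) (ht : orderOf a = 2 ^ t) :
    a ∈ pCore 2 X := by
  classical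
  haveI : Fact (Nat.Prime 2) := ⟨Nat.prime_two⟩
  haveI hFn : (fittingSubgroup X).Normal := Cfsg.Agent.H01.fitting_normal
  haveI hFnil : Group.IsNilpotent (fittingSubgroup X) := Cfsg.Agent.H01.fitting_nilpotent
  have hz : IsPGroup 2 (Subgroup.zpowers (⟨a, haF⟩ : fittingSubgroup X)) := by
    apply IsPGroup.of_card (n := t)
    rw [Nat.card_zpowers, Subgroup.orderOf_mk, ht]
  obtain ⟨P, hP⟩ := hz.exists_le_sylow
  have h1 : (P : Subgroup (fittingSubgroup X)) ≤ pCore 2 (fittingSubgroup X) :=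
    Cfsg.Agent.H01.le_pCore inferInstance P.2
  have h2 := Cfsg.Agent.H12.map_pCore_le_of_normal (p := 2) (fittingSubgroup X)
  exact h2 ⟨⟨a, haF⟩, h1 (hP (Subgroup.mem_zpowers _)), rfl⟩

theorem core2 (hH : HProp X) (hsol : Group.IsSolvable X) (S' : Sylow 2 X)
    (h4 : ∀ a ∈ (S' : Subgroup X), a ^ 4 = 1)
    (hcent : ∀ a ∈ (S' : Subgroup X), a ^ 2 = 1 → ∀ b ∈ (S' : Subgroup X), a * b = b * a)
    (hodd : ∀ r : ℕ, r.Prime → r ≠ 2 → ∀ a ∈ (S' : Subgroup X), ∀ w ∈ pCore r X, a * w = w * a) :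
    (S' : Subgroup X) ≤ pCore 2 X := by
  classical
  haveI : Fact (Nat.Prime 2) := ⟨Nat.prime_two⟩
  haveI := hsol
  haveI hn2 : (pCore 2 X).Normal := Cfsg.Agent.H01.pCore_normal 2
  by_cases hy : ∃ y ∈ pCore 2 X, orderOf y = 4
  · obtain ⟨y, hy, hy4⟩ := hy
    intro a ha
    apply (Cfsg.Agent.S3909.result hH (pCore 2 X)).1 a
    have hd : orderOf a ∣ 2 ^ 2 := orderOf_dvd_of_pow_eq_one (by simpa using h4 a ha)
    obtain ⟨k, hk, hk'⟩ := (Nat.dvd_prime_pow Nat.prime_two).1 hd
    interval_cases k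
    · exact ⟨1, Subgroup.one_mem _, by rw [orderOf_one, hk']; norm_num⟩
    · refine ⟨y ^ 2, Subgroup.pow_mem _ hy 2, ?_⟩
      rw [hk', orderOf_pow_of_dvd (by norm_num) (by rw [hy4]; norm_num), hy4]
      norm_num
    · exact ⟨y, hy, by rw [hy4, hk']; norm_num⟩
  · push Not at hy
    have hF2 : ∀ w ∈ pCore 2 X, w ^ 2 = 1 := by
      intro w hw
      have h1 := (IsPGroup.iff_orderOf.1 (Cfsg.Agent.H01.pCore_isPGroup (G := X) 2)) ⟨w, hw⟩
      obtain ⟨t, ht⟩ := h1
      rw [Subgroup.orderOf_mk] at ht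
      by_cases ht2 : 2 ≤ t
      · exfalso
        have h2 := Cfsg.Agent.H18.exists_pow_order_four w t ht ht2
        exact hy _ (Subgroup.pow_mem _ hw _) h2
      · have h3 : t = 0 ∨ t = 1 := by omega
        have h5 : orderOf w ∣ 2 := by
          rw [ht]
          rcases h3 with rfl | rfl <;> norm_num
        exact orderOf_dvd_iff_pow_eq_one.1 h5
    intro a ha
    have hle : fittingSubgroup X ≤ Subgroup.centralizer {a} := by
      rw [Cfsg.Agent.H01.fitting_eq_iSup_pCore]
      apply iSup_le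
      rintro ⟨r, hr⟩ w hw
      change w ∈ pCore r X at hw
      rw [Subgroup.mem_centralizer_singleton_iff]
      by_cases hr2 : r = 2
      · subst hr2
        have hwS : w ∈ (S' : Subgroup X) := Cfsg.Agent.H01.pCore_le_sylow 2 S' hw
        exact hcent w hwS (hF2 w hw) a ha
      · exact (hodd r hr hr2 a ha w hw).symm
    have hc : a ∈ Subgroup.centralizer (fittingSubgroup X : Set X) := by
      rw [Subgroup.mem_centralizer_iff]
      intro w hw
      have := hle hw
      rw [Subgroup.mem_centralizer_singleton_iff] at this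
      exact this
    have haF := Cfsg.Agent.H01.centralizer_fitting_le hc
    have h1 := (IsPGroup.iff_orderOf.1 S'.2) ⟨a, ha⟩
    obtain ⟨t, ht⟩ := h1
    rw [Subgroup.orderOf_mk] at ht
    exact two_elem_in_core a haF t ht

end

variable {G : Type u} [Group G] [Finite G]

/-- The odd cores of the quotient by the centralizer of an exceptional Sylow subgroup are cyclic. -/
theorem core_cyclic (hH : HProp G) (hsol : Group.IsSolvable G) {p : ℕ} [hp : Fact p.Prime] (V : Sylow p G)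
    (hVc : ¬ IsCyclic (V : Subgroup G)) (hVe : ∀ x ∈ (V : Subgroup G), x ^ p = 1)
    (C : Subgroup G) [hCn : C.Normal] (hCm : ∀ a, a ∈ C ↔ ∀ v ∈ (V : Subgroup G), a * v = v * a)
    {r : ℕ} [hr : Fact r.Prime] (hr2 : r ≠ 2) : IsCyclic ↥(pCore r (G ⧸ C)) := by
  classical
  obtain ⟨hVn, hVa⟩ := sylow_normal' hsol hH V hVc hVe
  haveI := hVn
  obtain ⟨R⟩ : Nonempty (Sylow r G) := inferInstance
  let T : Sylow r (G ⧸ C) := R.mapSurjective (QuotientGroup.mk'_surjective C)
  have hT : (T : Subgroup (G ⧸ C)) = (R : Subgroup G).map (QuotientGroup.mk' C) := rfl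
  have hle : pCore r (G ⧸ C) ≤ (T : Subgroup (G ⧸ C)) := Cfsg.Agent.H01.pCore_le_sylow r T
  have himg : IsCyclic (R : Subgroup G) → IsCyclic (T : Subgroup (G ⧸ C)) := by
    intro hc
    rw [hT]
    exact isCyclic_of_surjective ((QuotientGroup.mk' C).subgroupMap (R : Subgroup G))
      ((QuotientGroup.mk' C).subgroupMap_surjective _)
  have key : IsCyclic (T : Subgroup (G ⧸ C)) := by
    by_cases hc : IsCyclic (R : Subgroup G)
    · exact himg hc
    · have he := ((Cfsg.Agent.S3908.result hH).2 r hr2 R).resolve_left hc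
      obtain ⟨hn, ha⟩ := sylow_normal' hsol hH R hc he
      have hRC : (R : Subgroup G) ≤ C := by
        intro x hx
        rw [hCm]
        intro v hv
        by_cases hrp : r = p
        · subst hrp
          have h1 : R = V := by
            haveI := Sylow.unique_of_normal V hVn
            exact Subsingleton.elim _ _
          rw [h1] at hx
          have := mul_comm' (⟨x, hx⟩ : (V : Subgroup G)) (⟨v, hv⟩ : (V : Subgroup G))
          exact congrArg Subtype.val this
        · have hdis : Disjoint (R : Subgroup G) (V : Subgroup G) :=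
            IsPGroup.disjoint_of_ne r p hrp _ _ R.2 V.2
          exact Subgroup.commute_of_normal_of_disjoint _ _ hn hVn hdis x v hx hv
      have hbot : (T : Subgroup (G ⧸ C)) = ⊥ := by
        rw [hT]
        rw [Subgroup.map_eq_bot_iff, QuotientGroup.ker_mk']
        exact hRC
      rw [hbot]
      exact isCyclic_of_subsingleton
  exact Subgroup.isCyclic_of_le hle

/-- Generators of order four act trivially on cyclic normal subgroups of odd order in quotients. -/
theorem act_core (hH : HProp G) (M : Subgroup G) [hM : M.Normal] (i j : G) (hi : orderOf i = 4) (hj : orderOf j = 4)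
    (hk : orderOf (i * j) = 4) (hsq : j ^ 2 = i ^ 2) (hrel : j * i * j⁻¹ = i⁻¹)
    (Y : Subgroup (G ⧸ M)) [hYn : Y.Normal] (hYc : IsCyclic Y) (hodd : ∀ w ∈ Y, w ^ 2 = 1 → w = 1) :
    ∀ w ∈ Y, QuotientGroup.mk' M i * w = w * QuotientGroup.mk' M i ∧
      QuotientGroup.mk' M j * w = w * QuotientGroup.mk' M j := by
  obtain ⟨g₁, hg₁⟩ := hH (Subgroup.zpowers i) (Subgroup.zpowers j) (zpowers_comm i) (zpowers_comm j)
    (by rw [Nat.card_zpowers, Nat.card_zpowers, hi, hj])
  obtain ⟨g₂, hg₂⟩ := hH (Subgroup.zpowers i) (Subgroup.zpowers (i * j)) (zpowers_comm i) (zpowers_comm _)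
    (by rw [Nat.card_zpowers, Nat.card_zpowers, hi, hk])
  have h1 : Subgroup.zpowers (QuotientGroup.mk' M j) =
      (Subgroup.zpowers (QuotientGroup.mk' M i)).map (MulAut.conj (QuotientGroup.mk' M g₁)).toMonoidHom := by
    rw [← MonoidHom.map_zpowers, ← MonoidHom.map_zpowers, hg₁]
    exact Cfsg.Agent.S4022.map_cj (QuotientGroup.mk' M) g₁ (Subgroup.zpowers i)
  have h2 : Subgroup.zpowers (QuotientGroup.mk' M i * QuotientGroup.mk' M j) =
      (Subgroup.zpowers (QuotientGroup.mk' M i)).map (MulAut.conj (QuotientGroup.mk' M g₂)).toMonoidHom := by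
    rw [← map_mul, ← MonoidHom.map_zpowers, ← MonoidHom.map_zpowers, hg₂]
    exact Cfsg.Agent.S4022.map_cj (QuotientGroup.mk' M) g₂ (Subgroup.zpowers i)
  exact centralizes_cyclic Y hYc hodd _ _ _ _ h1 h2 (by rw [← map_pow, ← map_pow, hsq])
    (by rw [← map_mul, ← map_inv, ← map_mul, hrel, map_inv])

/-- The image of a quaternion Sylow subgroup in a quotient with cyclic odd cores is normal. -/
theorem quot_sylow_normal (hH : HProp G) (hsol : Group.IsSolvable G) (S : Sylow 2 G)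
    (φ : ↥(S : Subgroup G) ≃* QuaternionGroup 2) (M : Subgroup G) [hM : M.Normal]
    (hcyc : ∀ r : ℕ, r.Prime → r ≠ 2 → IsCyclic ↥(pCore r (G ⧸ M))) :
    ((S : Subgroup G).map (QuotientGroup.mk' M)).Normal := by
  classical
  haveI : Fact (Nat.Prime 2) := ⟨Nat.prime_two⟩
  haveI := hsol
  obtain ⟨i, j, hiS, hjS, hi, hj, hk, hsq, hrel, hgen, h4, hsq', hinv, hcomm, hcen⟩ := q8_data (S : Subgroup G) φ
  let S' : Sylow 2 (G ⧸ M) := S.mapSurjective (QuotientGroup.mk'_surjective M)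
  have hS' : (S' : Subgroup (G ⧸ M)) = (S : Subgroup G).map (QuotientGroup.mk' M) := rfl
  have hHX : HProp (G ⧸ M) := Cfsg.Agent.H18.quot_hProp_solvable hH hsol M
  have hcore : (S' : Subgroup (G ⧸ M)) ≤ pCore 2 (G ⧸ M) := by
    apply core2 hHX inferInstance S'
    · rw [hS']
      rintro _ ⟨a, ha, rfl⟩
      rw [← map_pow, h4 a ha, map_one]
    · rw [hS']
      rintro _ ⟨q, hq, rfl⟩ hq2 _ ⟨b, hb, rfl⟩
      rcases hsq' q hq with h | h
      · rcases hinv q hq h with rfl | rfl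
        · simp
        · rw [← map_mul, ← map_mul, hcen b hb]
      · have hz : QuotientGroup.mk' M (i ^ 2) = 1 := by
          rw [← h, map_pow]
          exact hq2
        have hfin : QuotientGroup.mk' M (q * b * q⁻¹ * b⁻¹) = 1 := by
          rcases hcomm q hq b hb with h' | h'
          · rw [h', map_one]
          · rw [h', hz]
        rw [map_mul, map_mul, map_mul, map_inv, map_inv] at hfin
        have e1 := mul_inv_eq_one.1 hfin
        exact mul_inv_eq_iff_eq_mul.1 e1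
    · intro r hr hr2
      rw [hS']
      rintro _ ⟨a, ha, rfl⟩ w hw
      haveI : Fact r.Prime := ⟨hr⟩
      haveI hYn : (pCore r (G ⧸ M)).Normal := Cfsg.Agent.H01.pCore_normal r
      have hoddY : ∀ w ∈ pCore r (G ⧸ M), w ^ 2 = 1 → w = 1 := by
        intro w hw hw2
        obtain ⟨t, ht⟩ := (IsPGroup.iff_orderOf.1 (Cfsg.Agent.H01.pCore_isPGroup (G := G ⧸ M) r)) ⟨w, hw⟩
        rw [Subgroup.orderOf_mk] at ht
        have h1 : orderOf w ∣ 2 := orderOf_dvd_of_pow_eq_one hw2
        rw [ht] at h1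
        have h2 : r ^ t = 1 := by
          have h3 : Nat.Coprime (r ^ t) 2 :=
            Nat.Coprime.pow_left t ((Nat.coprime_primes hr Nat.prime_two).2 hr2)
          exact Nat.Coprime.eq_one_of_dvd h3 h1
        rw [h2] at ht
        exact orderOf_eq_one_iff.1 ht
      have hact := act_core hH M i j hi hj hk hsq hrel (pCore r (G ⧸ M)) (hcyc r hr hr2) hoddY w hw
      obtain ⟨m, n, rfl⟩ := hgen a ha
      rw [map_mul, map_pow, map_pow]
      have hc1 : Commute (QuotientGroup.mk' M i) w := hact.1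
      have hc2 : Commute (QuotientGroup.mk' M j) w := hact.2
      exact Commute.mul_left (hc1.pow_left m) (hc2.pow_left n)
  have hle2 : pCore 2 (G ⧸ M) ≤ (S' : Subgroup (G ⧸ M)) := Cfsg.Agent.H01.pCore_le_sylow 2 S'
  rw [← hS', le_antisymm hcore hle2]
  exact Cfsg.Agent.H01.pCore_normal 2

/-- A quaternion Sylow subgroup normalizing a non-trivial proper subgroup of an exceptional Sylow subgroup
centralizes it. -/
theorem fq (hH : HProp G) (hsol : Group.IsSolvable G) {p : ℕ} [hp : Fact p.Prime] (V : Sylow p G)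
    (hVc : ¬ IsCyclic (V : Subgroup G)) (hVe : ∀ x ∈ (V : Subgroup G), x ^ p = 1)
    (S : Sylow 2 G) (φ : ↥(S : Subgroup G) ≃* QuaternionGroup 2)
    (Y₀ : Subgroup G) (hY₀V : Y₀ ≤ V) (hY₀1 : Y₀ ≠ ⊥) (hY₀2 : Y₀ ≠ V)
    (hSY : ∀ a ∈ (S : Subgroup G), ∀ y ∈ Y₀, a * y * a⁻¹ ∈ Y₀) :
    ∀ a ∈ (S : Subgroup G), ∀ v ∈ (V : Subgroup G), a * v = v * a := by
  classical
  haveI : Fact (Nat.Prime 2) := ⟨Nat.prime_two⟩
  haveI := hsol
  obtain ⟨hVn, hVa⟩ := sylow_normal' hsol hH V hVc hVe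
  haveI := hVn
  obtain ⟨i, j, hiS, hjS, hi, hj, hk, hsq, hrel, hgen, h4, hsq', hinv, hcomm, hcen⟩ := q8_data (S : Subgroup G) φ
  have hp2 : p ≠ 2 := by
    rintro rfl
    haveI := Sylow.unique_of_normal V hVn
    have h1 : S = V := Subsingleton.elim _ _
    have h2 := hVe i (h1 ▸ hiS)
    have h3 := orderOf_le_of_pow_eq_one (by norm_num) h2
    rw [hi] at h3
    norm_num at h3
  have hVcomm : ∀ a ∈ (V : Subgroup G), ∀ b ∈ (V : Subgroup G), a * b = b * a := by
    intro a ha b hb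
    have := mul_comm' (⟨a, ha⟩ : (V : Subgroup G)) (⟨b, hb⟩ : (V : Subgroup G))
    exact congrArg Subtype.val this
  let C : Subgroup G := Subgroup.centralizer ((V : Subgroup G) : Set G)
  haveI hCn : C.Normal := Subgroup.normal_centralizer
  have hCm : ∀ a, a ∈ C ↔ ∀ v ∈ (V : Subgroup G), a * v = v * a := by
    intro a
    rw [Subgroup.mem_centralizer_iff]
    constructor
    · intro h v hv
      exact (h v hv).symm
    · intro h v hv
      exact (h v hv).symm
  have hcyc : ∀ r : ℕ, r.Prime → r ≠ 2 → IsCyclic ↥(pCore r (G ⧸ C)) := fun r hr hr2 => by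
    haveI : Fact r.Prime := ⟨hr⟩
    exact core_cyclic hH hsol V hVc hVe C hCm hr2
  have hSn := quot_sylow_normal hH hsol S φ C hcyc
  have hstepd : ∀ a ∈ (S : Subgroup G), ∀ g : G, ∃ b ∈ (S : Subgroup G), ∀ v ∈ (V : Subgroup G),
      (g⁻¹ * a * g) * v * (g⁻¹ * a * g)⁻¹ = b * v * b⁻¹ := by
    intro a ha g
    have h1 : QuotientGroup.mk' C (g⁻¹ * a * g) ∈ (S : Subgroup G).map (QuotientGroup.mk' C) := by
      have := hSn.conj_mem (QuotientGroup.mk' C a) ⟨a, ha, rfl⟩ (QuotientGroup.mk' C g⁻¹)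
      simpa [map_mul, map_inv] using this
    obtain ⟨b, hb, hbe⟩ := h1
    refine ⟨b, hb, ?_⟩
    have hc : b⁻¹ * (g⁻¹ * a * g) ∈ C := QuotientGroup.eq.1 hbe
    intro v hv
    have h2 := (hCm _).1 hc v hv
    obtain ⟨c, hcdef⟩ : ∃ c, c = b⁻¹ * (g⁻¹ * a * g) := ⟨_, rfl⟩
    have h3 : g⁻¹ * a * g = b * c := by
      rw [hcdef]
      group
    rw [← hcdef] at h2
    rw [h3]
    calc b * c * v * (b * c)⁻¹ = b * (c * v) * c⁻¹ * b⁻¹ := by group
      _ = b * (v * c) * c⁻¹ * b⁻¹ := by rw [h2]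
      _ = b * v * b⁻¹ := by group
  have hinvar : ∀ a ∈ (S : Subgroup G), ∀ Y : Subgroup G, Y ≤ V → Nat.card Y = Nat.card Y₀ →
      ∀ y ∈ Y, a * y * a⁻¹ ∈ Y := by
    intro a ha Y hYV hYc y hy
    have hcomY : ∀ Z : Subgroup G, Z ≤ V → IsMulCommutative Z := by
      intro Z hZ
      refine ⟨⟨?_⟩⟩
      rintro ⟨x, hx⟩ ⟨z, hz⟩
      exact Subtype.ext (hVcomm x (hZ hx) z (hZ hz))
    obtain ⟨g, hg⟩ := hH Y₀ Y (hcomY _ hY₀V) (hcomY _ hYV) hYc.symm
    have hy' : g⁻¹ * y * g ∈ Y₀ := by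
      rw [hg] at hy
      exact Cfsg.Agent.S4022.mem_cj.1 hy
    rw [hg]
    apply Cfsg.Agent.S4022.mem_cj.2
    obtain ⟨b, hb, hbe⟩ := hstepd a ha g
    have e : g⁻¹ * (a * y * a⁻¹) * g = (g⁻¹ * a * g) * (g⁻¹ * y * g) * (g⁻¹ * a * g)⁻¹ := by group
    rw [e, hbe _ (hY₀V hy')]
    exact hSY b hb _ hy'
  obtain ⟨n, hn⟩ := IsPGroup.iff_card.1 V.2
  obtain ⟨k, hkc⟩ := IsPGroup.iff_card.1 (V.2.to_le hY₀V)
  have hk1 : 1 ≤ k := by
    by_contra hcon
    have hk0 : k = 0 := by omega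
    rw [hk0, pow_zero] at hkc
    exact hY₀1 (Subgroup.eq_bot_of_card_eq _ hkc)
  have hkn : k < n := by
    have h1 : p ^ k ∣ p ^ n := by
      rw [← hkc, ← hn]
      exact Subgroup.card_dvd_of_le hY₀V
    have h2 : k ≤ n := (Nat.pow_dvd_pow_iff_le_right hp.out.one_lt).1 h1
    rcases Nat.lt_or_ge k n with h | h
    · exact h
    · exfalso
      apply hY₀2
      apply Subgroup.eq_of_le_of_card_ge hY₀V
      rw [hkc, hn]
      exact Nat.pow_le_pow_right hp.out.pos h
  have hWc : ∀ a b : ↥(V : Subgroup G), a * b = b * a := fun a b => Subtype.ext (hVcomm a a.2 b b.2)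
  have hWe : ∀ w : ↥(V : Subgroup G), w ^ p = 1 := fun w => Subtype.ext (by simpa using hVe w w.2)
  let τ : G → (↥(V : Subgroup G) →* ↥(V : Subgroup G)) := fun a => (MulAut.conjNormal a).toMonoidHom
  have hτ : ∀ (a : G) (w : ↥(V : Subgroup G)), ((τ a w : ↥(V : Subgroup G)) : G) = a * w * a⁻¹ := fun _ _ => rfl
  have hline : ∀ a ∈ (S : Subgroup G), ∀ v, τ a v ∈ Subgroup.zpowers v := by
    intro a ha
    apply descent hWc hWe (τ a) k n hn hk1 hkn
    intro L hL l hl
    have h1 := hinvar a ha (L.map (V : Subgroup G).subtype)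
      (by
        rintro _ ⟨x, -, rfl⟩
        exact x.2)
      (by rw [Subgroup.card_map_of_injective (V : Subgroup G).subtype_injective, hL, hkc]) l ⟨l, hl, rfl⟩
    obtain ⟨l', hl', e⟩ := h1
    have h2 : τ a l = l' := Subtype.ext (by rw [hτ]; exact e.symm)
    rw [h2]
    exact hl'
  have hcommτ : ∀ w ∈ (V : Subgroup G), i * (j * w * j⁻¹) * i⁻¹ = j * (i * w * i⁻¹) * j⁻¹ := by
    intro w hw
    have := line_comm (τ i) (τ j) (hline i hiS) (hline j hjS) ⟨w, hw⟩
    exact congrArg Subtype.val this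
  have hz1 := sq_central (V : Subgroup G) i j hrel hcommτ
  have hii : ∀ v, τ i (τ i v) = v := by
    intro v
    apply Subtype.ext
    rw [hτ, hτ]
    have := hz1 v v.2
    calc i * (i * (v : G) * i⁻¹) * i⁻¹ = i ^ 2 * (v : G) * (i ^ 2)⁻¹ := by
          simp only [pow_two, mul_inv_rev, mul_assoc]
      _ = v := this
  have hjj : ∀ v, τ j (τ j v) = v := by
    intro v
    apply Subtype.ext
    rw [hτ, hτ]
    have := hz1 v v.2
    rw [← hsq] at this
    calc j * (j * (v : G) * j⁻¹) * j⁻¹ = j ^ 2 * (v : G) * (j ^ 2)⁻¹ := by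
          simp only [pow_two, mul_inv_rev, mul_assoc]
      _ = v := this
  have hodd : ∀ w : ↥(V : Subgroup G), w ^ 2 = 1 → w = 1 := by
    intro w hw
    have h1 := Nat.dvd_gcd (orderOf_dvd_of_pow_eq_one hw) (orderOf_dvd_of_pow_eq_one (hWe w))
    rw [(Nat.coprime_primes Nat.prime_two hp.out).2 (Ne.symm hp2)] at h1
    exact orderOf_eq_one_iff.1 (Nat.dvd_one.1 h1)
  have hi1 := sign_V hWc hodd hWe (τ i) (hline i hiS) hii
  have hj1 := sign_V hWc hodd hWe (τ j) (hline j hjS) hjj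
  have hcentral : ∀ (a : G), (∀ v, τ a v = v) → ∀ v ∈ (V : Subgroup G), a * v = v * a := by
    intro a h v hv
    have h1 := congrArg Subtype.val (h ⟨v, hv⟩)
    rw [hτ] at h1
    exact mul_inv_eq_iff_eq_mul.1 h1
  have hic : ∀ v ∈ (V : Subgroup G), i * v = v * i := by
    by_contra hcon
    have hin : ∀ v, τ i v = v⁻¹ := hi1.resolve_left (fun h => hcon (hcentral i h))
    have hjn : ∀ v, τ j v = v⁻¹ := hj1.resolve_left (fun h => hcon
      (central_of_same_order hH (V : Subgroup G) (hj.trans hi.symm) (hcentral j h)))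
    have hijc : ∀ v ∈ (V : Subgroup G), (i * j) * v = v * (i * j) := by
      intro v hv
      have h1 : τ i (τ j ⟨v, hv⟩) = ⟨v, hv⟩ := by
        rw [hjn, map_inv, hin, inv_inv]
      have h2 : i * (j * v * j⁻¹) * i⁻¹ = v := congrArg Subtype.val h1
      have h3 : (i * j) * v * (i * j)⁻¹ = v := by
        calc (i * j) * v * (i * j)⁻¹ = i * (j * v * j⁻¹) * i⁻¹ := by
              simp only [mul_inv_rev, mul_assoc]
          _ = v := h2
      exact mul_inv_eq_iff_eq_mul.1 h3
    exact hcon (central_of_same_order hH (V : Subgroup G) (hk.trans hi.symm) hijc)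
  have hjc := central_of_same_order hH (V : Subgroup G) (hi.trans hj.symm) hic
  intro a ha v hv
  obtain ⟨m, n', rfl⟩ := hgen a ha
  have hc1 : Commute i v := hic v hv
  have hc2 : Commute j v := hjc v hv
  exact Commute.mul_left (hc1.pow_left m) (hc2.pow_left n')

end Cfsg.Agent.H15.AC
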