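import Mathlib
import Cfsg.Agent.Lib.H15.AC4

/-!
# Conjugacy of four-subgroups of a quaternion Sylow subgroup in a normalizer
-/

set_option autoImplicit false
set_option linter.unusedSectionVars false

namespace Cfsg.Agent.H15.AC

open Cfsg
open Cfsg.Agent.H18 (HProp)
open Cfsg.Agent.S4022 (cj mem_cj card_cj)

universe u

variable {G : Type u} [Group G] [Finite G]

theorem le_of_prime_power (U W : Subgroup G)
    (h : ∀ x ∈ U, ∀ q k : ℕ, q.Prime → orderOf x = q ^ k → x ∈ W) : U ≤ W := by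
  have key : ∀ n (x : G), orderOf x = n → x ∈ U → x ∈ W := by
    intro n
    induction n using Nat.strong_induction_on with
    | _ n ih =>
    intro x hn hx
    have hnpos : 0 < n := hn ▸ orderOf_pos x
    by_cases hn1 : n = 1
    · exact h x hx 2 0 Nat.prime_two (by rw [hn, hn1, pow_zero])
    obtain ⟨q, hq, hqn⟩ := Nat.exists_prime_and_dvd hn1
    obtain ⟨k, m, hqm, hnm⟩ := Nat.exists_eq_pow_mul_and_not_dvd hnpos.ne' q hq.ne_one
    by_cases hm1 : m = 1
    · exact h x hx q k hq (by rw [hn, hnm, hm1, mul_one])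
    have hk0 : k ≠ 0 := by
      rintro rfl
      apply hqm
      rwa [hnm, pow_zero, one_mul] at hqn
    have hm0 : m ≠ 0 := by
      rintro rfl
      exact hqm (dvd_zero q)
    have hqk : 2 ≤ q ^ k := by
      calc 2 ≤ q := hq.two_le
        _ = q ^ 1 := (pow_one q).symm
        _ ≤ q ^ k := Nat.pow_le_pow_right hq.pos (by omega)
    have hcop : (q ^ k).Coprime m := Nat.Coprime.pow_left k ((Nat.Prime.coprime_iff_not_dvd hq).2 hqm)
    have hy : orderOf (x ^ (q ^ k)) = m := by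
      rw [orderOf_pow_of_dvd (by omega) (by rw [hn, hnm]; exact Dvd.intro _ rfl), hn, hnm]
      exact Nat.mul_div_cancel_left _ (by omega)
    have hz : orderOf (x ^ m) = q ^ k := by
      rw [orderOf_pow_of_dvd hm0 (by rw [hn, hnm]; exact Dvd.intro_left _ rfl), hn, hnm]
      exact Nat.mul_div_cancel _ (by omega)
    have h1 := ih m (by rw [hnm]; nlinarith) (x ^ (q ^ k)) hy (U.pow_mem hx _)
    have h2 := ih (q ^ k) (by
      have : 2 ≤ m := by omega
      rw [hnm]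
      nlinarith) (x ^ m) hz (U.pow_mem hx _)
    have hb := Nat.gcd_eq_gcd_ab (q ^ k) m
    rw [hcop.gcd_eq_one] at hb
    have e : x = (x ^ (q ^ k)) ^ (Nat.gcdA (q ^ k) m) * (x ^ m) ^ (Nat.gcdB (q ^ k) m) := by
      rw [← zpow_natCast, ← zpow_natCast, ← zpow_mul, ← zpow_mul, ← zpow_add, ← hb]
      simp
    rw [e]
    exact W.mul_mem (W.zpow_mem h1 _) (W.zpow_mem h2 _)
  exact fun x hx => key _ x rfl hx

theorem mem_sup_comm (T U : Subgroup G) (h : ∀ t ∈ T, ∀ u ∈ U, t * u = u * t) :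
    ∀ x ∈ T ⊔ U, ∃ t ∈ T, ∃ u ∈ U, t * u = x := by
  intro x hx
  have e : T ⊔ U = Subgroup.closure ((T : Set G) ∪ U) := by
    rw [Subgroup.closure_union, Subgroup.closure_eq, Subgroup.closure_eq]
  rw [e] at hx
  induction hx using Subgroup.closure_induction with
  | mem x hx =>
    rcases hx with hx | hx
    · exact ⟨x, hx, 1, U.one_mem, mul_one x⟩
    · exact ⟨1, T.one_mem, x, hx, one_mul x⟩
  | one => exact ⟨1, T.one_mem, 1, U.one_mem, mul_one 1⟩
  | mul x y _ _ ihx ihy =>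
    obtain ⟨t, ht, u, hu, rfl⟩ := ihx
    obtain ⟨t', ht', u', hu', rfl⟩ := ihy
    refine ⟨t * t', T.mul_mem ht ht', u * u', U.mul_mem hu hu', ?_⟩
    calc t * t' * (u * u') = t * (t' * u) * u' := by group
      _ = t * (u * t') * u' := by rw [h t' ht' u hu]
      _ = t * u * (t' * u') := by group
  | inv x _ ih =>
    obtain ⟨t, ht, u, hu, rfl⟩ := ih
    refine ⟨t⁻¹, T.inv_mem ht, u⁻¹, U.inv_mem hu, ?_⟩
    have hc : Commute t⁻¹ u⁻¹ := (show Commute t u from h t ht u hu).inv_inv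
    rw [mul_inv_rev]
    exact hc

theorem DD_odd (hH : HProp G) (hsol : Group.IsSolvable G) (S : Sylow 2 G)
    (φ : ↥(S : Subgroup G) ≃* QuaternionGroup 2) : (Nat.card (DD G)).Coprime 2 := by
  classical
  haveI : Fact (Nat.Prime 2) := ⟨Nat.prime_two⟩
  obtain ⟨i, j, hiS, hjS, hi, hj, hk, hsq, hrel, hgen, h4, hsq', hinv, hcomm, hcen⟩ := q8_data (S : Subgroup G) φ
  rw [Nat.coprime_comm, Nat.Prime.coprime_iff_not_dvd Nat.prime_two]
  intro hd
  obtain ⟨x, hx⟩ := exists_prime_orderOf_dvd_card' 2 hd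
  have h1 : orderOf (x : G) = 2 := by
    rw [Subgroup.orderOf_coe]
    exact hx
  obtain ⟨_, E, hE1, hE2⟩ := DD_primes hsol hH x x.2 2 Nat.prime_two (by rw [h1])
  obtain ⟨hn, -⟩ := sylow_normal' hsol hH E hE1 hE2
  haveI := Sylow.unique_of_normal E hn
  have h3 : S = E := Subsingleton.elim _ _
  have h5 := hE2 i (h3 ▸ hiS)
  have h6 := orderOf_le_of_pow_eq_one (by norm_num) h5
  rw [hi] at h6
  norm_num at h6

theorem fq' (hH : HProp G) (hsol : Group.IsSolvable G) (S : Sylow 2 G)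
    (φ : ↥(S : Subgroup G) ≃* QuaternionGroup 2) (U : Subgroup G) (hUD : U ≤ DD G)
    (hSU : (S : Subgroup G) ≤ Subgroup.normalizer (U : Set G)) (T₁ T₂ : Subgroup G)
    (hT₁ : T₁ ≤ S) (hT₂ : T₂ ≤ S) (hc₁ : Nat.card T₁ = 4) (hc₂ : Nat.card T₂ = 4) :
    ∃ g ∈ Subgroup.normalizer (U : Set G), T₂ = cj g T₁ := by
  classical
  haveI : Fact (Nat.Prime 2) := ⟨Nat.prime_two⟩
  obtain ⟨i, j, hiS, hjS, hi, hj, hk, hsq, hrel, hgen, h4, hsq', hinv, hcomm, hcen⟩ := q8_data (S : Subgroup G) φ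
  let Z : Subgroup G := U ⊓ Subgroup.centralizer ((S : Subgroup G) : Set G)
  have hZU : Z ≤ U := inf_le_left
  have hZmem : ∀ z, z ∈ U → (∀ a ∈ (S : Subgroup G), a * z = z * a) → z ∈ Z := by
    intro z hz h
    refine ⟨hz, ?_⟩
    change z ∈ Subgroup.centralizer ((S : Subgroup G) : Set G)
    rw [Subgroup.mem_centralizer_iff]
    exact fun a ha => h a ha
  have hZcent : ∀ z ∈ Z, ∀ a ∈ (S : Subgroup G), a * z = z * a := by
    intro z hz a ha
    have h1 : z ∈ Subgroup.centralizer ((S : Subgroup G) : Set G) := hz.2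
    rw [Subgroup.mem_centralizer_iff] at h1
    exact h1 a ha
  have hDc := DD_odd hH hsol S φ
  have hZodd : (Nat.card Z).Coprime 2 :=
    Nat.Coprime.coprime_dvd_left (Subgroup.card_dvd_of_le (hZU.trans hUD)) hDc
  have hZ4 : (Nat.card Z).Coprime 4 := by
    have : (4 : ℕ) = 2 ^ 2 := by norm_num
    rw [this]
    exact Nat.Coprime.pow_right 2 hZodd
  have hZpow : ∀ z ∈ Z, z ^ Nat.card Z = 1 := by
    intro z hz
    have := pow_card_eq_one' (x := (⟨z, hz⟩ : Z))
    exact congrArg Subtype.val this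
  have hZDcomm : ∀ a ∈ Z, ∀ b ∈ Z, a * b = b * a := fun a ha b hb =>
    DD_comm' hsol hH a (hUD (hZU ha)) b (hUD (hZU hb))
  have hTab : ∀ T : Subgroup G, Nat.card T = 4 → ∀ a ∈ T, ∀ b ∈ T, a * b = b * a := by
    intro T hTc a ha b hb
    have h1 : Nat.card T = 2 ^ 2 := by rw [hTc]; norm_num
    have h2 := IsPGroup.commutative_of_card_eq_prime_sq h1 (⟨a, ha⟩ : T) (⟨b, hb⟩ : T)
    exact congrArg Subtype.val h2
  have hAab : ∀ T : Subgroup G, T ≤ S → Nat.card T = 4 → IsMulCommutative ↥(T ⊔ Z) := by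
    intro T hTS hTc
    have e : T ⊔ Z = Subgroup.closure ((T : Set G) ∪ Z) := by
      rw [Subgroup.closure_union, Subgroup.closure_eq, Subgroup.closure_eq]
    rw [e]
    apply Subgroup.isMulCommutative_closure
    rintro x (hx | hx) y (hy | hy)
    · exact hTab T hTc x hx y hy
    · exact hZcent y hy x (hTS hx)
    · exact (hZcent x hx y (hTS hy)).symm
    · exact hZDcomm x hx y hy
  have hAcard : ∀ T : Subgroup G, T ≤ S → Nat.card T = 4 → Nat.card ↥(T ⊔ Z) = 4 * Nat.card Z := by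
    intro T hTS hTc
    have hle : T ≤ Subgroup.normalizer (Z : Set G) := by
      intro a ha
      rw [Subgroup.mem_normalizer_iff]
      intro z
      have h1 : ∀ w ∈ Z, a * w * a⁻¹ = w := by
        intro w hw
        rw [hZcent w hw a (hTS ha)]
        simp
      constructor
      · intro hz
        rw [h1 z hz]
        exact hz
      · intro hz
        have h3 : z = a⁻¹ * (a * z * a⁻¹) * a := by group
        rw [h3, hZcent _ hz a⁻¹ (S.inv_mem (hTS ha))]
        simpa using hz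
    have h5 := Cfsg.Agent.H01.card_sup_of_le_normalizer hle (by rw [hTc]; exact hZ4)
    rw [sup_comm, ← h5, hTc, mul_comm]
  obtain ⟨g, hg⟩ := hH (T₁ ⊔ Z) (T₂ ⊔ Z) (hAab T₁ hT₁ hc₁) (hAab T₂ hT₂ hc₂)
    (by rw [hAcard T₁ hT₁ hc₁, hAcard T₂ hT₂ hc₂])
  have hsplit := mem_sup_comm T₂ Z (fun t ht u hu => hZcent u hu t (hT₂ ht))
  have hconj : ∀ x ∈ T₁ ⊔ Z, g * x * g⁻¹ ∈ T₂ ⊔ Z := by
    intro x hx
    rw [hg]
    apply mem_cj.2
    have e : g⁻¹ * (g * x * g⁻¹) * g = x := by group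
    rw [e]
    exact hx
  have hT1T2 : ∀ x ∈ T₁, g * x * g⁻¹ ∈ T₂ := by
    intro x hx
    obtain ⟨t, ht, u, hu, e⟩ := hsplit _ (hconj x ((le_sup_left : T₁ ≤ _) hx))
    have hcomm' : Commute t u := hZcent u hu t (hT₂ ht)
    have h1 : (t * u) ^ 4 = 1 := by
      rw [e, conj_pow, h4 x (hT₁ hx)]
      simp
    rw [hcomm'.mul_pow, h4 t (hT₂ ht), one_mul] at h1
    have h2 := Nat.dvd_gcd (orderOf_dvd_of_pow_eq_one (hZpow u hu)) (orderOf_dvd_of_pow_eq_one h1)
    rw [hZ4] at h2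
    have h3 : u = 1 := orderOf_eq_one_iff.1 (Nat.dvd_one.1 h2)
    rw [← e, h3, mul_one]
    exact ht
  have hZZ : ∀ z ∈ Z, g * z * g⁻¹ ∈ Z := by
    intro z hz
    obtain ⟨t, ht, u, hu, e⟩ := hsplit _ (hconj z ((le_sup_right : Z ≤ _) hz))
    have hcomm' : Commute t u := hZcent u hu t (hT₂ ht)
    have h1 : (t * u) ^ Nat.card Z = 1 := by
      rw [e, conj_pow, hZpow z hz]
      simp
    rw [hcomm'.mul_pow, hZpow u hu, mul_one] at h1
    have h2 := Nat.dvd_gcd (orderOf_dvd_of_pow_eq_one h1) (orderOf_dvd_of_pow_eq_one (h4 t (hT₂ ht)))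
    rw [hZ4] at h2
    have h3 : t = 1 := orderOf_eq_one_iff.1 (Nat.dvd_one.1 h2)
    rw [← e, h3, one_mul]
    exact hu
  have hT2eq : T₂ = cj g T₁ := by
    symm
    apply Subgroup.eq_of_le_of_card_ge
    · rintro _ ⟨x, hx, rfl⟩
      exact hT1T2 x hx
    · rw [card_cj, hc₁, hc₂]
  have hUU : U ≤ cj g⁻¹ U := by
    apply le_of_prime_power
    intro x hx q k hq hk
    apply mem_cj.2
    rw [inv_inv]
    by_cases hk0 : k = 0
    · have h1 : x = 1 := by
        rw [hk0, pow_zero] at hk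
        exact orderOf_eq_one_iff.1 hk
      rw [h1]
      simp
    have hqd : q ∣ orderOf x := by
      rw [hk]
      exact dvd_pow_self q hk0
    obtain ⟨hqF, E, hE1, hE2⟩ := DD_primes hsol hH x (hUD hx) q hq hqd
    obtain ⟨hEn, -⟩ := sylow_normal' hsol hH E hE1 hE2
    have hxE : x ∈ (E : Subgroup G) := by
      have hz : IsPGroup q (Subgroup.zpowers x) := IsPGroup.of_card (n := k) (by rw [Nat.card_zpowers, hk])
      obtain ⟨Q, hQ⟩ := hz.exists_le_sylow
      haveI := Sylow.unique_of_normal E hEn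
      have h1 : Q = E := Subsingleton.elim _ _
      rw [← h1]
      exact hQ (Subgroup.mem_zpowers x)
    by_cases hEU : (E : Subgroup G) ≤ U
    · exact hEU (hEn.conj_mem x hxE g)
    · have hx1 : x ≠ 1 := by
        rintro rfl
        rw [orderOf_one] at hk
        have h2 : 1 < q ^ k := Nat.one_lt_pow hk0 hq.one_lt
        omega
      have hSY : ∀ a ∈ (S : Subgroup G), ∀ y ∈ U ⊓ (E : Subgroup G), a * y * a⁻¹ ∈ U ⊓ (E : Subgroup G) := by
        rintro a ha y ⟨hy1, hy2⟩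
        exact ⟨(Subgroup.mem_normalizer_iff.1 (hSU ha) y).1 hy1, hEn.conj_mem y hy2 a⟩
      have hfq := fq hH hsol E hE1 hE2 S φ (U ⊓ (E : Subgroup G)) inf_le_right
        (fun h => hx1 (Subgroup.mem_bot.1 (h ▸ (⟨hx, hxE⟩ : x ∈ U ⊓ (E : Subgroup G)))))
        (fun h => hEU (inf_eq_right.1 h)) hSY
      have hxZ : x ∈ Z := hZmem x hx (fun a ha => hfq a ha x hxE)
      exact hZU (hZZ x hxZ)
  have hgN : g ∈ Subgroup.normalizer (U : Set G) := by
    have h1 : cj g⁻¹ U = U := by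
      symm
      exact Subgroup.eq_of_le_of_card_ge hUU (by rw [card_cj])
    rw [Subgroup.mem_normalizer_iff]
    intro h
    constructor
    · intro hh
      have h2 : h ∈ cj g⁻¹ U := hUU hh
      have h3 := mem_cj.1 h2
      rwa [inv_inv] at h3
    · intro hh
      have h2 : h ∈ cj g⁻¹ U := by
        apply mem_cj.2
        rwa [inv_inv]
      rwa [h1] at h2
  exact ⟨g, hgN, hT2eq⟩

end Cfsg.Agent.H15.AC
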