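import Mathlib
import Cfsg.Agent.Lib.H15.AC5

/-!
# Solvable groups in which abelian subgroups of equal order are conjugate
-/

set_option autoImplicit false
set_option linter.unusedSectionVars false

namespace Cfsg.Agent.H15.AC

open Cfsg
open Cfsg.Agent.H18 (HProp)
open Cfsg.Agent.S4022 (cj mem_cj card_cj cj_le cj_one cj_mul cj_inf cj_sup cj_normal map_cj)

universe u

variable {G : Type u} [Group G] [Finite G]

/-- A non-cyclic subgroup of a quaternion group of order eight is everything. -/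
theorem noncyc_eq (S : Subgroup G) (φ : ↥S ≃* QuaternionGroup 2) (X : Subgroup G) (hX : X ≤ S)
    (hc : ¬ IsCyclic X) : X = S := by
  classical
  obtain ⟨i, j, hiS, hjS, hi, hj, hk, hsq, hrel, hgen, h4, hsq', hinv, hcomm, hcen⟩ := q8_data S φ
  haveI : Fact (Nat.Prime 2) := ⟨Nat.prime_two⟩
  have hS8 : Nat.card S = 8 := by
    rw [Nat.card_congr φ.toEquiv, Nat.card_eq_fintype_card, QuaternionGroup.card]
  by_cases hx : ∃ x ∈ X, x ^ 2 ≠ 1
  · obtain ⟨x, hxX, hx2⟩ := hx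
    have hx4 := h4 x (hX hxX)
    have hord : orderOf x = 4 := by
      have := orderOf_eq_prime_pow (p := 2) (n := 1) (x := x) (by simpa using hx2) (by norm_num; exact hx4)
      simpa using this
    have hz : Subgroup.zpowers x ≤ X := Subgroup.zpowers_le.2 hxX
    have h4d : 4 ∣ Nat.card X := by
      have := Subgroup.card_dvd_of_le hz
      rwa [Nat.card_zpowers, hord] at this
    have h8d : Nat.card X ∣ 8 := hS8 ▸ Subgroup.card_dvd_of_le hX
    have hle : Nat.card X ≤ 8 := Nat.le_of_dvd (by norm_num) h8d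
    have hcases : Nat.card X = 4 ∨ Nat.card X = 8 := by
      obtain ⟨c, hc'⟩ := h4d
      rw [hc'] at h8d hle ⊢
      have hc2 : c ≤ 2 := by omega
      interval_cases c
      · simp at hc'
        exact absurd hc' Nat.card_pos.ne'
      · left; rfl
      · right; rfl
    rcases hcases with h | h
    · exfalso
      have h1 : Subgroup.zpowers x = X := Subgroup.eq_of_le_of_card_ge hz (by rw [h, Nat.card_zpowers, hord])
      apply hc
      rw [← h1]
      infer_instance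
    · exact Subgroup.eq_of_le_of_card_ge hX (by rw [h, hS8])
  · push Not at hx
    exfalso
    apply hc
    have hle : X ≤ Subgroup.zpowers (i ^ 2) := by
      intro x hxX
      rcases hinv x (hX hxX) (hx x hxX) with rfl | rfl
      · exact Subgroup.one_mem _
      · exact Subgroup.mem_zpowers _
    exact Subgroup.isCyclic_of_le hle

/-- Conjugacy of equal-order subgroups of a quaternion Sylow subgroup lying in `J`. -/
theorem two_conj_in_S (hH : HProp G) (hsol : Group.IsSolvable G) (S : Sylow 2 G)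
    (φ : ↥(S : Subgroup G) ≃* QuaternionGroup 2) (U : Subgroup G) (hUD : U ≤ DD G) (J : Subgroup G)
    (hJM : J ≤ Subgroup.normalizer (U : Set G)) (hSJ : (S : Subgroup G) ≤ J)
    (hJc : (Nat.card J).Coprime (Nat.card (DD G)))
    (hJD : ∀ g ∈ Subgroup.normalizer (U : Set G), ∃ d ∈ DD G, ∃ j ∈ J, g = d * j)
    (T₁ T₂ : Subgroup G) (hT₁ : T₁ ≤ S) (hT₂ : T₂ ≤ S) (hc : Nat.card T₁ = Nat.card T₂) :
    ∃ j ∈ J, T₂ = cj j T₁ := by
  classical
  haveI : Fact (Nat.Prime 2) := ⟨Nat.prime_two⟩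
  haveI hDn : (DD G).Normal := DD_normal hsol hH
  obtain ⟨i, j, hiS, hjS, hi, hj, hk, hsq, hrel, hgen, h4, hsq', hinv, hcomm, hcen⟩ := q8_data (S : Subgroup G) φ
  have hS8 : Nat.card (S : Subgroup G) = 8 := by
    rw [Nat.card_congr φ.toEquiv, Nat.card_eq_fintype_card, QuaternionGroup.card]
  have h8d : Nat.card T₁ ∣ 2 ^ 3 := by
    have := Subgroup.card_dvd_of_le hT₁
    rw [hS8] at this
    simpa using this
  obtain ⟨k, hkle, hk'⟩ := (Nat.dvd_prime_pow Nat.prime_two).1 h8d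
  have hi2 : orderOf (i ^ 2) = 2 := by
    rw [orderOf_pow_of_dvd (by norm_num) (by rw [hi]; norm_num), hi]
  have hcc : ∀ T : Subgroup G, T ≤ S → Nat.card T = 2 → T = Subgroup.zpowers (i ^ 2) := by
    intro T hTS hTc
    have h1 : ∃ x ∈ T, x ≠ 1 := by
      by_contra hcon
      push Not at hcon
      have h2 : T = ⊥ := (Subgroup.eq_bot_iff_forall T).2 hcon
      rw [h2, Subgroup.card_bot] at hTc
      omega
    obtain ⟨x, hxT, hx1⟩ := h1
    have hx2 : x ^ 2 = 1 := by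
      have := pow_card_eq_one' (x := (⟨x, hxT⟩ : T))
      rw [hTc] at this
      exact congrArg Subtype.val this
    have hxz : x = i ^ 2 := (hinv x (hTS hxT) hx2).resolve_left hx1
    symm
    apply Subgroup.eq_of_le_of_card_ge
    · rw [Subgroup.zpowers_le, ← hxz]
      exact hxT
    · rw [hTc, Nat.card_zpowers, hi2]
  interval_cases k
  · refine ⟨1, J.one_mem, ?_⟩
    have h1 : T₁ = ⊥ := Subgroup.eq_bot_of_card_eq T₁ (by rw [hk']; rfl)
    have h2 : T₂ = ⊥ := Subgroup.eq_bot_of_card_eq T₂ (by rw [← hc, hk']; rfl)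
    rw [h1, h2, cj_one]
  · refine ⟨1, J.one_mem, ?_⟩
    rw [cj_one, hcc T₁ hT₁ (by rw [hk']; rfl), hcc T₂ hT₂ (by rw [← hc, hk']; rfl)]
  · obtain ⟨g, hgN, hg⟩ := fq' hH hsol S φ U hUD (hSJ.trans hJM) T₁ T₂ hT₁ hT₂ (by rw [hk']; rfl)
      (by rw [← hc, hk']; rfl)
    obtain ⟨d, hd, j', hj', rfl⟩ := hJD g hgN
    refine ⟨j', hj', ?_⟩
    symm
    apply Subgroup.eq_of_le_of_card_ge
    · rintro _ ⟨t, ht, rfl⟩
      obtain ⟨t', ht'def⟩ : ∃ t', t' = j' * t * j'⁻¹ := ⟨_, rfl⟩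
      have ht'e : (MulAut.conj j').toMonoidHom t = t' := by
        rw [ht'def]
        rfl
      rw [ht'e]
      have ht'J : t' ∈ J := by
        rw [ht'def]
        exact J.mul_mem (J.mul_mem hj' (hSJ (hT₁ ht))) (J.inv_mem hj')
      have h2 : d * t' * d⁻¹ ∈ T₂ := by
        rw [hg]
        refine ⟨t, ht, ?_⟩
        rw [ht'def]
        simp only [MulEquiv.toMonoidHom_eq_coe, MonoidHom.coe_coe, MulAut.conj_apply]
        group
      have hcJ : d * t' * d⁻¹ * t'⁻¹ ∈ J := J.mul_mem (hSJ (hT₂ h2)) (J.inv_mem ht'J)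
      have hcD : d * t' * d⁻¹ * t'⁻¹ ∈ DD G := by
        have h3 := hDn.conj_mem d⁻¹ ((DD G).inv_mem hd) t'
        have e : d * t' * d⁻¹ * t'⁻¹ = d * (t' * d⁻¹ * t'⁻¹) := by group
        rw [e]
        exact (DD G).mul_mem hd h3
      have hdis : Disjoint J (DD G) := Subgroup.disjoint_of_coprime_natCard hJc
      have h5 : d * t' * d⁻¹ * t'⁻¹ = 1 := Subgroup.mem_bot.1 (hdis.le_bot ⟨hcJ, hcD⟩)
      have h6 : d * t' * d⁻¹ = t' := mul_inv_eq_one.1 h5
      rw [← h6]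
      exact h2
    · rw [card_cj, hc]
  · refine ⟨1, J.one_mem, ?_⟩
    have h1 : T₁ = S := Subgroup.eq_of_le_of_card_ge hT₁ (by rw [hS8, hk']; norm_num)
    have h2 : T₂ = S := Subgroup.eq_of_le_of_card_ge hT₂ (by rw [hS8, ← hc, hk']; norm_num)
    rw [h1, h2, cj_one]

/-- Conjugacy of equal-order `2`-subgroups inside the complement `J`. -/
theorem hD2 (hH : HProp G) (hsol : Group.IsSolvable G) (U : Subgroup G) (hUD : U ≤ DD G) (J : Subgroup G)
    (hJM : J ≤ Subgroup.normalizer (U : Set G)) (hJc : (Nat.card J).Coprime (Nat.card (DD G)))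
    (hJD : ∀ g ∈ Subgroup.normalizer (U : Set G), ∃ d ∈ DD G, ∃ j ∈ J, g = d * j)
    (H' K' : Subgroup J) (hH' : IsPGroup 2 H') (hK' : IsPGroup 2 K') (hcc : Nat.card H' = Nat.card K') :
    ∃ g : J, K' = cj g H' := by
  classical
  haveI : Fact (Nat.Prime 2) := ⟨Nat.prime_two⟩
  obtain ⟨P₁, hP₁⟩ := hH'.exists_le_sylow
  obtain ⟨P₂, hP₂⟩ := hK'.exists_le_sylow
  obtain ⟨x, hx⟩ := MulAction.exists_smul_eq J P₁ P₂
  have h5 : cj x H' ≤ P₂ := by
    rw [← hx]
    exact cj_le hP₁ x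
  by_cases hPc : IsCyclic (P₂ : Subgroup J)
  · exact ⟨x, (Cfsg.Agent.H06.eq_of_card_eq_of_le_cyclic hPc h5 hP₂ (by rw [card_cj, hcc])).symm⟩
  have hQ2 : IsPGroup 2 ((P₂ : Subgroup J).map J.subtype) := P₂.2.map _
  obtain ⟨S, hS⟩ := hQ2.exists_le_sylow
  have hQnc : ¬ IsCyclic ((P₂ : Subgroup J).map J.subtype) := by
    intro h
    apply hPc
    exact isCyclic_of_injective ((J.subtype).subgroupMap (P₂ : Subgroup J))
      (fun a b hab => by
        have h1 : ((((J.subtype).subgroupMap (P₂ : Subgroup J)) a : _) : G) =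
            (((J.subtype).subgroupMap (P₂ : Subgroup J)) b : _) := by rw [hab]
        exact Subtype.ext (Subtype.ext h1))
  have hSnc : ¬ IsCyclic (S : Subgroup G) := fun h => hQnc (Subgroup.isCyclic_of_le hS)
  have h2J : 2 ∣ Nat.card J := by
    obtain ⟨n, hn⟩ := IsPGroup.iff_card.1 P₂.2
    have hn0 : n ≠ 0 := by
      rintro rfl
      apply hPc
      rw [pow_zero] at hn
      haveI : Subsingleton (P₂ : Subgroup J) := (Nat.card_eq_one_iff_unique.1 hn).1
      exact isCyclic_of_subsingleton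
    exact (dvd_pow_self 2 hn0).trans (hn ▸ Subgroup.card_subgroup_dvd_card _)
  rcases (Cfsg.Agent.S3908.result hH).1 S with h | h | ⟨k, ⟨φ⟩⟩
  · exact absurd h hSnc
  · exact absurd h.2 (not_piP_of_dvd hJc h2J S hSnc)
  · have hk : k ≤ 1 := Cfsg.Agent.H18.quat_k_le_one _ G hsol hH rfl S k ⟨φ⟩
    have hk0 : k ≠ 0 := by
      rintro rfl
      apply hSnc
      haveI : IsCyclic (QuaternionGroup (2 ^ 0)) := QuaternionGroup.quaternionGroup_one_isCyclic
      exact isCyclic_of_injective φ.toMonoidHom φ.injective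
    have hk1 : k = 1 := by omega
    subst hk1
    have φ' : ↥(S : Subgroup G) ≃* QuaternionGroup 2 := φ
    have hQS : (P₂ : Subgroup J).map J.subtype = S := noncyc_eq S φ' _ hS hQnc
    have hSJ : (S : Subgroup G) ≤ J := by
      rw [← hQS]
      rintro _ ⟨y, -, rfl⟩
      exact y.2
    obtain ⟨j, hj, e⟩ := two_conj_in_S hH hsol S φ' U hUD J hJM hSJ hJc hJD
      ((cj x H').map J.subtype) (K'.map J.subtype)
      (by
        rw [← hQS]
        exact Subgroup.map_mono h5)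
      (by
        rw [← hQS]
        exact Subgroup.map_mono hP₂)
      (by
        rw [Subgroup.card_map_of_injective J.subtype_injective, Subgroup.card_map_of_injective J.subtype_injective,
          card_cj, hcc])
    refine ⟨⟨j, hj⟩ * x, ?_⟩
    rw [cj_mul]
    apply Subgroup.map_injective J.subtype_injective
    change K'.map J.subtype = (cj ⟨j, hj⟩ (cj x H')).map J.subtype
    rw [e]
    exact (map_cj J.subtype (⟨j, hj⟩ : J) (cj x H')).symm

/-- Subgroups of equal order inside the complement `J` are conjugate in `J`. -/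
theorem J_conj (hH : HProp G) (hsol : Group.IsSolvable G) (U : Subgroup G) (hUD : U ≤ DD G) (J : Subgroup G)
    (hJM : J ≤ Subgroup.normalizer (U : Set G)) (hJc : (Nat.card J).Coprime (Nat.card (DD G)))
    (hJD : ∀ g ∈ Subgroup.normalizer (U : Set G), ∃ d ∈ DD G, ∃ j ∈ J, g = d * j)
    (X Y : Subgroup G) (hX : X ≤ J) (hY : Y ≤ J) (hc : Nat.card X = Nat.card Y) : ∃ j ∈ J, Y = cj j X := by
  classical
  haveI := hsol
  have hcycJ : ∀ p : ℕ, p.Prime → p ≠ 2 → ∀ P : Subgroup J, IsPGroup p P → IsCyclic P := by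
    intro p hp hp2 P hP
    haveI : Fact p.Prime := ⟨hp⟩
    by_cases hpJ : p ∣ Nat.card J
    · have hP' : IsPGroup p (P.map J.subtype) := hP.map _
      obtain ⟨Q, hQ⟩ := hP'.exists_le_sylow
      have hQc : IsCyclic (Q : Subgroup G) := by
        by_contra hnc
        exact not_piP_of_dvd hJc hpJ Q hnc (((Cfsg.Agent.S3908.result hH).2 p hp2 Q).resolve_left hnc)
      haveI := hQc
      let f : P →* Q :=
        { toFun := fun x => ⟨((x : J) : G), hQ ⟨(x : J), x.2, rfl⟩⟩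
          map_one' := rfl
          map_mul' := fun _ _ => rfl }
      refine isCyclic_of_injective f ?_
      intro x y hxy
      have h7 : ((f x : Q) : G) = ((f y : Q) : G) := by rw [hxy]
      exact Subtype.ext (Subtype.ext h7)
    · obtain ⟨k, hk⟩ := IsPGroup.iff_card.1 hP
      have hk0 : k = 0 := by
        by_contra hk0
        exact hpJ ((dvd_pow_self p hk0).trans (hk ▸ Subgroup.card_subgroup_dvd_card P))
      have h6 : Nat.card P = 1 := by rw [hk, hk0, pow_zero]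
      haveI : Subsingleton P := (Nat.card_eq_one_iff_unique.1 h6).1
      exact isCyclic_of_subsingleton
  have hDJ : ∀ p : ℕ, p.Prime → ∀ H' K' : Subgroup J, IsPGroup p H' → IsPGroup p K' →
      Nat.card H' = Nat.card K' → ∃ g : J, K' = cj g H' := by
    intro p hp H' K' hH' hK' hcc
    haveI : Fact p.Prime := ⟨hp⟩
    by_cases hp2 : p = 2
    · subst hp2
      exact hD2 hH hsol U hUD J hJM hJc hJD H' K' hH' hK' hcc
    · obtain ⟨P₁, hP₁⟩ := hH'.exists_le_sylow
      obtain ⟨P₂, hP₂⟩ := hK'.exists_le_sylow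
      obtain ⟨x, hx⟩ := MulAction.exists_smul_eq J P₁ P₂
      have hPc := hcycJ p hp hp2 P₂ P₂.2
      refine ⟨x, ?_⟩
      have h5 : cj x H' ≤ P₂ := by
        rw [← hx]
        exact cj_le hP₁ x
      exact (Cfsg.Agent.H06.eq_of_card_eq_of_le_cyclic hPc h5 hP₂ (by rw [card_cj, hcc])).symm
  have hc3 : Nat.card (X.subgroupOf J) = Nat.card X :=
    Nat.card_congr (Subgroup.subgroupOfEquivOfLe hX).toEquiv
  have hc4 : Nat.card (Y.subgroupOf J) = Nat.card Y :=
    Nat.card_congr (Subgroup.subgroupOfEquivOfLe hY).toEquiv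
  obtain ⟨j, hj⟩ := Cfsg.Agent.S4022.main_thm _ J rfl hDJ 2 (fun p hp hne P => hcycJ p hp hne P P.2)
    (X.subgroupOf J) (Y.subgroupOf J) (by rw [hc3, hc4, hc])
  exact ⟨j, j.2, Cfsg.Agent.S4022.eq_cj_of_subgroupOf hX hY j hj hc.symm⟩

/-- Hall subgroups in a subgroup, with prescribed order. -/
theorem hall_pair [Group.IsSolvable G] (M : Subgroup G) (l n : ℕ) (hM : Nat.card M = l * n) (hcop : l.Coprime n)
    (A B : Subgroup G) (hA : A ≤ M) (hB : B ≤ M) (hAc : (Nat.card A).Coprime n) (hBc : (Nat.card B).Coprime n) :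
    ∃ J : Subgroup G, J ≤ M ∧ ∃ μ ∈ M, A ≤ J ∧ cj μ B ≤ J ∧ Nat.card J = l := by
  classical
  have hcA : Nat.card (A.subgroupOf M) = Nat.card A :=
    Nat.card_congr (Subgroup.subgroupOfEquivOfLe hA).toEquiv
  have hcB : Nat.card (B.subgroupOf M) = Nat.card B :=
    Nat.card_congr (Subgroup.subgroupOfEquivOfLe hB).toEquiv
  obtain ⟨J₁, hJ₁, hAJ⟩ := Cfsg.Agent.H01.hall_containment _ M rfl _ _ hM hcop (A.subgroupOf M)
    (by rw [hcA]; exact hAc)
  obtain ⟨J₂, hJ₂, hBJ⟩ := Cfsg.Agent.H01.hall_containment _ M rfl _ _ hM hcop (B.subgroupOf M)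
    (by rw [hcB]; exact hBc)
  obtain ⟨μ, hμ⟩ := Cfsg.Agent.H01.hall_conj _ M rfl _ _ hM hcop J₂ J₁ hJ₂ hJ₁
  refine ⟨J₁.map M.subtype, ?_, (μ : G), μ.2, ?_, ?_, ?_⟩
  · rintro _ ⟨x, -, rfl⟩
    exact x.2
  · intro x hx
    exact ⟨⟨x, hA hx⟩, hAJ (by simpa [Subgroup.mem_subgroupOf] using hx), rfl⟩
  · intro x hx
    rw [mem_cj] at hx
    have hxB : (μ : G)⁻¹ * x * μ ∈ B := hx
    have hxM : (μ : G)⁻¹ * x * μ ∈ M := hB hxB
    have h1 : (⟨(μ : G)⁻¹ * x * μ, hxM⟩ : M) ∈ J₂ := hBJ (by simpa [Subgroup.mem_subgroupOf] using hxB)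
    have h2 : μ * ⟨(μ : G)⁻¹ * x * μ, hxM⟩ * μ⁻¹ ∈ J₁ := by
      rw [← hμ]
      exact Subgroup.mem_map_of_mem _ h1
    refine ⟨_, h2, ?_⟩
    simp [mul_assoc]
  · rw [Subgroup.card_map_of_injective M.subtype_injective, hJ₁]

/-- **Main theorem**: in a finite solvable group in which abelian subgroups of equal order are conjugate,
all subgroups of equal order are conjugate. -/
theorem all_conj (hH : HProp G) (hsol : Group.IsSolvable G) (A B : Subgroup G) (hc : Nat.card A = Nat.card B) :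
    ∃ g : G, B = cj g A := by
  classical
  haveI := hsol
  haveI hDn : (DD G).Normal := DD_normal hsol hH
  have hDa : IsMulCommutative (DD G) := DD_comm hsol hH
  have hcop : (Nat.card (DD G)).Coprime (DD G).index := DD_coprime hsol hH
  have hidx : ∀ X : Subgroup G, Nat.card (X.map (QuotientGroup.mk' (DD G))) ∣ (DD G).index := fun X =>
    Subgroup.card_subgroup_dvd_card _
  have hinf : ∀ X : Subgroup G, Nat.card ↥(X ⊓ DD G) ∣ Nat.card (DD G) := fun X =>
    Subgroup.card_dvd_of_le inf_le_right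
  have hAi : Nat.card ↥(A ⊓ DD G) = Nat.card ↥(B ⊓ DD G) := by
    have h1 := Cfsg.Agent.S4022.card_map_mk_mul A (DD G)
    have h2 := Cfsg.Agent.S4022.card_map_mk_mul B (DD G)
    rw [hc, ← h2] at h1
    apply Nat.dvd_antisymm
    · have h3 : Nat.card ↥(A ⊓ DD G) ∣ Nat.card (B.map (QuotientGroup.mk' (DD G))) * Nat.card ↥(B ⊓ DD G) := by
        rw [← h1]
        exact Dvd.intro_left _ rfl
      have h4 : (Nat.card ↥(A ⊓ DD G)).Coprime (Nat.card (B.map (QuotientGroup.mk' (DD G)))) :=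
        Nat.Coprime.coprime_dvd_left (hinf A) (Nat.Coprime.coprime_dvd_right (hidx B) hcop)
      exact h4.dvd_of_dvd_mul_left h3
    · have h3 : Nat.card ↥(B ⊓ DD G) ∣ Nat.card (A.map (QuotientGroup.mk' (DD G))) * Nat.card ↥(A ⊓ DD G) := by
        rw [h1]
        exact Dvd.intro_left _ rfl
      have h4 : (Nat.card ↥(B ⊓ DD G)).Coprime (Nat.card (A.map (QuotientGroup.mk' (DD G)))) :=
        Nat.Coprime.coprime_dvd_left (hinf B) (Nat.Coprime.coprime_dvd_right (hidx A) hcop)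
      exact h4.dvd_of_dvd_mul_left h3
  have hcomminf : ∀ X : Subgroup G, IsMulCommutative ↥(X ⊓ DD G) := by
    intro X
    refine ⟨⟨?_⟩⟩
    rintro ⟨x, hx⟩ ⟨y, hy⟩
    exact Subtype.ext (DD_comm' hsol hH x hx.2 y hy.2)
  obtain ⟨g₀, hg₀⟩ := hH (A ⊓ DD G) (B ⊓ DD G) (hcomminf A) (hcomminf B) hAi
  have hg₀' : B ⊓ DD G = cj g₀ A ⊓ DD G := by
    have hg₁ : B ⊓ DD G = cj g₀ (A ⊓ DD G) := hg₀
    rw [hg₁, cj_inf, cj_normal (DD G) g₀]
  obtain ⟨H, hHdef⟩ : ∃ H, H = cj g₀ A := ⟨_, rfl⟩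
  rw [← hHdef] at hg₀'
  have hHc : Nat.card H = Nat.card B := by rw [hHdef, card_cj, hc]
  obtain ⟨U, hUdef⟩ : ∃ U, U = B ⊓ DD G := ⟨_, rfl⟩
  have hUB : U = H ⊓ DD G := by rw [hUdef, hg₀']
  have hUD : U ≤ DD G := by
    rw [hUdef]
    exact inf_le_right
  -- the quotient order
  obtain ⟨m, hm⟩ : ∃ m, m = Nat.card (B.map (QuotientGroup.mk' (DD G))) := ⟨_, rfl⟩
  have hBm : Nat.card B = m * Nat.card U := by
    rw [hm, hUdef]
    exact (Cfsg.Agent.S4022.card_map_mk_mul B (DD G)).symm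
  have hmD : m.Coprime (Nat.card (DD G)) := by
    rw [hm]
    exact (Nat.Coprime.coprime_dvd_right (hidx B) hcop).symm
  have hUdvd : Nat.card U ∣ Nat.card (DD G) := Subgroup.card_dvd_of_le hUD
  have hmU : m.Coprime (Nat.card U) := Nat.Coprime.coprime_dvd_right hUdvd hmD
  obtain ⟨C₂, hC₂, hC₂c⟩ := Cfsg.Agent.S4022.exists_compl B m (Nat.card U) hBm hmU
  obtain ⟨C₁, hC₁, hC₁c⟩ := Cfsg.Agent.S4022.exists_compl H m (Nat.card U) (by rw [hHc]; exact hBm) hmU
  have hU₂ : U ≤ B := by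
    rw [hUdef]
    exact inf_le_left
  have hU₁ : U ≤ H := by
    rw [hUB]
    exact inf_le_left
  have hsup₂ : U ⊔ C₂ = B := Cfsg.Agent.S4022.sup_eq_of_coprime hU₂ hC₂
    (by rw [hC₂c]; exact hmU.symm) (by rw [hC₂c, hBm, mul_comm])
  have hsup₁ : U ⊔ C₁ = H := Cfsg.Agent.S4022.sup_eq_of_coprime hU₁ hC₁
    (by rw [hC₁c]; exact hmU.symm) (by rw [hC₁c, hHc, hBm, mul_comm])
  obtain ⟨M, hMdef⟩ : ∃ M : Subgroup G, M = Subgroup.normalizer (U : Set G) := ⟨_, rfl⟩
  have hC₂M : C₂ ≤ M := by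
    rw [hMdef, hUdef]
    exact hC₂.trans (Cfsg.Agent.S4022.le_normalizer_inf B (DD G))
  have hC₁M : C₁ ≤ M := by
    rw [hMdef, hUB]
    exact hC₁.trans (Cfsg.Agent.S4022.le_normalizer_inf H (DD G))
  have hDM : DD G ≤ M := by
    rw [hMdef]
    exact Cfsg.Agent.S4022.le_normalizer_of_le_comm hUD hDa
  obtain ⟨l, hl⟩ : ∃ l, l = Nat.card (M.map (QuotientGroup.mk' (DD G))) := ⟨_, rfl⟩
  have hMc : Nat.card M = l * Nat.card (DD G) := by
    have h1 := Cfsg.Agent.S4022.card_map_mk_mul M (DD G)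
    rw [inf_eq_right.2 hDM, ← hl] at h1
    exact h1.symm
  have hlD : l.Coprime (Nat.card (DD G)) := by
    rw [hl]
    exact (Nat.Coprime.coprime_dvd_right (hidx M) hcop).symm
  obtain ⟨J, hJM, μ, hμ, hC₂J, hC₁J, hJc⟩ := hall_pair M l (Nat.card (DD G)) hMc hlD C₂ C₁ hC₂M hC₁M
    (by rw [hC₂c]; exact hmD) (by rw [hC₁c]; exact hmD)
  have hJD' : (Nat.card J).Coprime (Nat.card (DD G)) := by
    rw [hJc]
    exact hlD
  have hsupM : DD G ⊔ J = M := Cfsg.Agent.S4022.sup_eq_of_coprime hDM hJM hJD'.symm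
    (by rw [hJc, hMc, mul_comm])
  have hJD : ∀ g ∈ Subgroup.normalizer (U : Set G), ∃ d ∈ DD G, ∃ j ∈ J, g = d * j := by
    intro g hg
    rw [← hMdef, ← hsupM] at hg
    obtain ⟨d, hd, j, hj, e⟩ := Subgroup.mem_sup_of_normal_left.1 hg
    exact ⟨d, hd, j, hj, e.symm⟩
  obtain ⟨j, hj, hje⟩ := J_conj hH hsol U hUD J (by rw [← hMdef]; exact hJM) hJD' hJD (cj μ C₁) C₂ hC₁J hC₂J
    (by rw [card_cj, hC₁c, hC₂c])
  have hjU : cj j U = U :=
    Cfsg.Agent.S4022.cj_self_of_mem_normalizer (by rw [← hMdef]; exact hJM hj)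
  have hμU : cj μ U = U :=
    Cfsg.Agent.S4022.cj_self_of_mem_normalizer (by rw [← hMdef]; exact hμ)
  refine ⟨j * (μ * g₀), ?_⟩
  rw [cj_mul, cj_mul, ← hHdef]
  calc B = U ⊔ C₂ := hsup₂.symm
    _ = cj j (cj μ U) ⊔ cj j (cj μ C₁) := by rw [hμU, hjU, ← hje]
    _ = cj j (cj μ (U ⊔ C₁)) := by rw [cj_sup, cj_sup]
    _ = cj j (cj μ H) := by rw [hsup₁]

end Cfsg.Agent.H15.AC
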