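import Mathlib
import Cfsg.Agent.Lib.H15.EarlyChar2
import Cfsg.Agent.Lib.H15.ZStar1
import Cfsg.Agent.Lib.H15.Cyc2

set_option autoImplicit false
set_option linter.style.haveILetI false
set_option linter.unusedSectionVars false

namespace Cfsg.Agent.H15

open Cfsg Cfsg.Agent.H05
open scoped commutatorElement

/-- The conjugating element for two involutions whose product has odd order lies in the cyclic group
generated by the product. -/
theorem invol_odd_conj_zpowers {X : Type*} [Group X] {a b : X} (ha : a * a = 1) (hb : b * b = 1)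
    (h : Odd (orderOf (a * b))) :
    ∃ k ∈ Subgroup.zpowers (a * b), k * a * k⁻¹ = b := by
  obtain ⟨l, hl⟩ := h
  set t := a * b with ht
  have hai : a⁻¹ = a := inv_eq_of_mul_eq_one_left ha
  have hbi : b⁻¹ = b := inv_eq_of_mul_eq_one_left hb
  have hinv : a * t * a⁻¹ = t⁻¹ := by
    rw [ht, hai, mul_inv_rev, hai, hbi]
    calc a * (a * b) * a = (a * a) * b * a := by group
      _ = b * a := by rw [ha, one_mul]
  have h1 : t ^ (l + l) * t = 1 := by
    rw [← pow_succ, show l + l + 1 = orderOf t by omega, pow_orderOf_eq_one]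
  have h2 : t ^ (l + l) = t⁻¹ := eq_inv_of_mul_eq_one_left h1
  have h3 := conj_eq_of_inv (inv_pow_of_conj hinv l)
  refine ⟨t ^ l, Subgroup.pow_mem _ (Subgroup.mem_zpowers t) l, ?_⟩
  rw [h3, ← pow_add, h2, ht, mul_inv_rev, hai, hbi, mul_assoc, ha, mul_one]

section signalizer

variable {H : Type*} [Group H] [Finite H]

/-- An odd subgroup centralized by an involution `t` and normalized by `C_H(t)`, in a `2`-constrained
group, lies in `O(H)`. -/
theorem signalizer_le_oddCore (hC : IsPConstrained 2 H) (Y : Subgroup H) (hY : Odd (Nat.card Y))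
    (t : H) (ht : t * t = 1) (hYt : ∀ y ∈ Y, y * t = t * y)
    (hn : ∀ w : H, w * t = t * w → ∀ y ∈ Y, w * y * w⁻¹ ∈ Y) : Y ≤ oddCore H := by
  classical
  haveI : Fact (Nat.Prime 2) := ⟨Nat.prime_two⟩
  haveI hKn : (pPrimeCore 2 H).Normal := H05.pp_normal (G := H) 2
  set K := pPrimeCore 2 H with hK
  let π := QuotientGroup.mk' K
  set R := pCore 2 (H ⧸ K) with hR
  haveI hRn : R.Normal := H01.pCore_normal 2
  have hRp : IsPGroup 2 R := H01.pCore_isPGroup 2
  have hCR := centralizer_pCore_le_of_constrained hC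
  let Q := Y.map π
  have hQdvd : Nat.card Q ∣ Nat.card Y := Subgroup.card_map_dvd Y π
  have hQodd : Odd (Nat.card Q) := Odd.of_dvd_nat hY hQdvd
  have hQc : (Nat.card Q).Coprime 2 := Nat.coprime_two_right.mpr hQodd
  have hpit : π t * π t = 1 := by rw [← map_mul, ht, map_one]
  have hPp : IsPGroup 2 (Subgroup.zpowers (π t)) := by
    rw [IsPGroup.iff_card, Nat.card_zpowers]
    have h1 : orderOf (π t) ∣ 2 ^ 1 := orderOf_dvd_of_pow_eq_one (by rw [pow_one, sq]; exact hpit)
    obtain ⟨k, -, hk⟩ := (Nat.dvd_prime_pow Nat.prime_two).mp h1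
    exact ⟨k, hk⟩
  have hQR : ∀ u, u ∈ Q → u ∈ R → u = 1 := by
    intro u huQ huR
    obtain ⟨k, hk⟩ := hRp ⟨u, huR⟩
    have h1 : u ^ 2 ^ k = 1 := by simpa using congrArg Subtype.val hk
    have h2 : orderOf u ∣ Nat.card Q := Subgroup.orderOf_dvd_natCard Q huQ
    exact eq_one_of_pow_of_coprime h1 (Nat.Coprime.coprime_dvd_left h2 hQc)
  have hkey := H01.thompson_PxQ 2 (Subgroup.zpowers (π t)) Q R hPp hQc hRp ?_ ?_ ?_ ?_
  · -- conclude
    intro y hy
    have hyQ : π y ∈ Q := ⟨y, hy, rfl⟩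
    have h1 : π y ∈ R := by
      apply hCR
      rw [Subgroup.mem_centralizer_iff]
      intro r hr
      have := Subgroup.mem_centralizer_iff.mp (hkey hyQ) r hr
      exact this
    have h2 := hQR _ hyQ h1
    exact (QuotientGroup.eq_one_iff y).mp h2
  · rw [Subgroup.zpowers_le, Subgroup.mem_centralizer_iff]
    rintro _ ⟨y, hy, rfl⟩
    have := hYt y hy
    show π y * π t = π t * π y
    rw [← map_mul, ← map_mul, this]
  · exact fun g _ => mem_normalizer_of_forall_conj_mem R g (fun x hx => hRn.conj_mem x hx g)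
  · exact fun g _ => mem_normalizer_of_forall_conj_mem R g (fun x hx => hRn.conj_mem x hx g)
  · rintro r ⟨hrR, hrc⟩
    rw [Subgroup.mem_centralizer_iff]
    rintro _ ⟨y, hy, rfl⟩
    obtain ⟨h, rfl⟩ := QuotientGroup.mk'_surjective K r
    have hct : π t * π h = π h * π t :=
      Subgroup.mem_centralizer_iff.mp hrc _ (Subgroup.mem_zpowers _)
    -- `t` and its conjugate by `h`
    set t' := h * t * h⁻¹ with ht'
    have ht'2 : t' * t' = 1 := by
      rw [ht']
      calc h * t * h⁻¹ * (h * t * h⁻¹) = h * (t * t) * h⁻¹ := by group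
        _ = 1 := by rw [ht]; group
    have hmem : t * t' ∈ K := by
      rw [← QuotientGroup.eq_one_iff]
      show π (t * t') = 1
      rw [ht', map_mul, map_mul, map_mul, map_inv, ← hct]
      calc π t * (π t * π h * (π h)⁻¹) = π t * π t := by group
        _ = 1 := hpit
    have hodd : Odd (orderOf (t * t')) := by
      have h1 := H05.pp_order_coprime 2 hmem
      exact Nat.Coprime.odd_of_right h1
    obtain ⟨k, hkz, hk⟩ := invol_odd_conj_zpowers ht ht'2 hodd
    have hkK : k ∈ K := (Subgroup.zpowers_le.mpr hmem) hkz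
    -- `w = k⁻¹ h` centralizes `t`
    set w := k⁻¹ * h with hw
    have hwt : w * t = t * w := by
      have h1 : h * t * h⁻¹ = k * t * k⁻¹ := hk.symm
      calc w * t = k⁻¹ * (h * t * h⁻¹) * h := by rw [hw]; group
        _ = k⁻¹ * (k * t * k⁻¹) * h := by rw [h1]
        _ = t * w := by rw [hw]; group
    have hpw : π w = π h := by
      rw [hw, map_mul, map_inv]
      have : π k = 1 := (QuotientGroup.eq_one_iff k).mpr hkK
      rw [this]; simp
    have hwy := hn w hwt y hy
    have h1 : π h * π y * (π h)⁻¹ ∈ Q := by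
      rw [← hpw]
      exact ⟨w * y * w⁻¹, hwy, by simp [map_mul, map_inv]⟩
    -- the commutator lies in `Q ∩ R`
    have h2 : π h * π y * (π h)⁻¹ * (π y)⁻¹ ∈ Q := Q.mul_mem h1 (Q.inv_mem ⟨y, hy, rfl⟩)
    have h3 : π h * π y * (π h)⁻¹ * (π y)⁻¹ ∈ R := by
      have h4 : π y * (π h)⁻¹ * (π y)⁻¹ ∈ R := hRn.conj_mem _ (R.inv_mem hrR) _
      have : π h * π y * (π h)⁻¹ * (π y)⁻¹ = π h * (π y * (π h)⁻¹ * (π y)⁻¹) := by group
      rw [this]
      exact R.mul_mem hrR h4
    have h5 := hQR _ h2 h3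
    have h6 : π h * π y = π y * π h := by
      have h7 : π h * π y * (π h)⁻¹ = π y := by
        rw [mul_inv_eq_one] at h5
        exact h5
      calc π h * π y = π h * π y * (π h)⁻¹ * π h := by group
        _ = π y * π h := by rw [h7]
    exact h6.symm

end signalizer

section OC

variable {G : Type*} [Group G] [Finite G]

/-- `O(C_G(y))` as a subgroup of `G`. -/
def OC (y : G) : Subgroup G :=
  (oddCore ↥(Subgroup.centralizer ({y} : Set G))).map (Subgroup.centralizer ({y} : Set G)).subtype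

theorem mem_centralizer_singleton_of {y g : G} (h : g * y = y * g) :
    g ∈ Subgroup.centralizer ({y} : Set G) :=
  Subgroup.mem_centralizer_singleton_iff.mpr (by rw [h])

theorem OC_comm (y : G) {u : G} (hu : u ∈ OC y) : u * y = y * u := by
  obtain ⟨v, -, rfl⟩ := hu
  have := Subgroup.mem_centralizer_singleton_iff.mp v.2
  exact this

theorem OC_odd (y : G) : Odd (Nat.card (OC y)) := by
  haveI : Fact (Nat.Prime 2) := ⟨Nat.prime_two⟩
  have h1 : Nat.card (OC y) = Nat.card (oddCore ↥(Subgroup.centralizer ({y} : Set G))) :=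
    Subgroup.card_map_of_injective (Subgroup.subtype_injective _)
  rw [h1]
  have h2 : (Nat.card (pPrimeCore 2 ↥(Subgroup.centralizer ({y} : Set G)))).Coprime 2 :=
    H05.pp_coprime 2
  exact Nat.Coprime.odd_of_right h2

theorem OC_conj_mem {y w u : G} (hw : w * y = y * w) (hu : u ∈ OC y) : w * u * w⁻¹ ∈ OC y := by
  haveI := H05.pp_normal (G := ↥(Subgroup.centralizer ({y} : Set G))) 2
  obtain ⟨v, hv, rfl⟩ := hu
  have hw' := mem_centralizer_singleton_of hw
  refine ⟨⟨w, hw'⟩ * v * ⟨w, hw'⟩⁻¹, ?_, by simp⟩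
  exact Subgroup.Normal.conj_mem inferInstance v hv _

/-- Maximality of `O(C_G(y))`. -/
theorem le_OC {y : G} (X : Subgroup G) (hX : ∀ u ∈ X, u * y = y * u) (hodd : Odd (Nat.card X))
    (hn : ∀ w : G, w * y = y * w → ∀ u ∈ X, w * u * w⁻¹ ∈ X) : X ≤ OC y := by
  haveI : Fact (Nat.Prime 2) := ⟨Nat.prime_two⟩
  set C := Subgroup.centralizer ({y} : Set G) with hC
  have hXC : X ≤ C := fun u hu => mem_centralizer_singleton_of (hX u hu)
  have hN : (X.subgroupOf C).Normal := by
    constructor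
    intro u hu w
    have hu' : (u : G) ∈ X := hu
    have hwc : (w : G) * y = y * w := Subgroup.mem_centralizer_singleton_iff.mp w.2
    show ((w * u * w⁻¹ : C) : G) ∈ X
    simpa using hn w hwc u hu'
  have hcard : Nat.card (X.subgroupOf C) = Nat.card X :=
    Nat.card_congr (Subgroup.subgroupOfEquivOfLe hXC).toEquiv
  have hle := H08.le_pPrimeCore (p := 2) hN (by rw [hcard]; exact Nat.coprime_two_right.mpr hodd)
  intro u hu
  exact ⟨⟨u, hXC hu⟩, hle hu, rfl⟩

/-- Conjugation transports `O(C_G(y))`. -/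
theorem OC_conj_elem {y u : G} (g : G) (hu : u ∈ OC y) : g * u * g⁻¹ ∈ OC (g * y * g⁻¹) := by
  let X : Subgroup G := (OC y).map (MulAut.conj g).toMonoidHom
  have hX : X ≤ OC (g * y * g⁻¹) := by
    apply le_OC
    · rintro _ ⟨v, hv, rfl⟩
      have h1 := OC_comm y hv
      show g * v * g⁻¹ * (g * y * g⁻¹) = g * y * g⁻¹ * (g * v * g⁻¹)
      calc g * v * g⁻¹ * (g * y * g⁻¹) = g * (v * y) * g⁻¹ := by group
        _ = g * (y * v) * g⁻¹ := by rw [h1]
        _ = _ := by group
    · have h1 : Nat.card X = Nat.card (OC y) :=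
        Subgroup.card_map_of_injective (MulAut.conj g).injective
      rw [h1]
      exact OC_odd y
    · rintro w hw _ ⟨v, hv, rfl⟩
      have h1 : (g⁻¹ * w * g) * y = y * (g⁻¹ * w * g) := by
        have : g * ((g⁻¹ * w * g) * y) * g⁻¹ = g * (y * (g⁻¹ * w * g)) * g⁻¹ := by
          calc g * ((g⁻¹ * w * g) * y) * g⁻¹ = w * (g * y * g⁻¹) := by group
            _ = g * y * g⁻¹ * w := hw
            _ = _ := by group
        exact mul_left_cancel (mul_right_cancel this)
      have h2 := OC_conj_mem h1 hv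
      refine ⟨_, h2, ?_⟩
      show g * (g⁻¹ * w * g * v * (g⁻¹ * w * g)⁻¹) * g⁻¹ = w * (g * v * g⁻¹) * w⁻¹
      group
  exact hX ⟨u, hu, rfl⟩

/-- Balance. -/
theorem OC_balance {e y u : G} (hcon : IsPConstrained 2 ↥(Subgroup.centralizer ({e} : Set G)))
    (hy : y * y = 1) (hey : e * y = y * e) (hu : u ∈ OC y) (hue : u * e = e * u) : u ∈ OC e := by
  classical
  set C := Subgroup.centralizer ({e} : Set G) with hC
  let X : Subgroup G := OC y ⊓ C
  have hXC : X ≤ C := inf_le_right
  have hyC : y ∈ C := mem_centralizer_singleton_of hey.symm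
  have hle := signalizer_le_oddCore hcon (X.subgroupOf C) ?_ ⟨y, hyC⟩ (Subtype.ext hy) ?_ ?_
  · have huC : u ∈ C := mem_centralizer_singleton_of hue
    have : (⟨u, huC⟩ : C) ∈ X.subgroupOf C := ⟨hu, huC⟩
    exact ⟨⟨u, huC⟩, hle this, rfl⟩
  · have hcard : Nat.card (X.subgroupOf C) = Nat.card X :=
      Nat.card_congr (Subgroup.subgroupOfEquivOfLe hXC).toEquiv
    rw [hcard]
    exact Odd.of_dvd_nat (OC_odd y) (Subgroup.card_dvd_of_le inf_le_left)
  · rintro ⟨v, hvC⟩ hv
    have hv1 : v ∈ OC y := hv.1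
    exact Subtype.ext (OC_comm y hv1)
  · rintro ⟨w, hwC⟩ hw ⟨v, hvC⟩ hv
    have hw' : w * y = y * w := congrArg Subtype.val hw
    have hv1 : v ∈ OC y := hv.1
    refine ⟨OC_conj_mem hw' hv1, ?_⟩
    exact C.mul_mem (C.mul_mem hwC hvC) (C.inv_mem hwC)

end OC

end Cfsg.Agent.H15
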