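import Mathlib
import Cfsg.Agent.Lib.H15.EarlyChar3

set_option autoImplicit false
set_option linter.style.haveILetI false
set_option linter.unusedSectionVars false

namespace Cfsg.Agent.H15

open Cfsg

section

variable {G : Type*} [Group G] [Finite G]

/-- Decomposition of an element of an abelian odd subgroup under an involution. -/
theorem abel_odd_decomp (X : Subgroup G) (hodd : Odd (Nat.card X))
    (habel : ∀ u ∈ X, ∀ v ∈ X, u * v = v * u)
    (c : G) (hc : c * c = 1) (hcn : ∀ u ∈ X, c * u * c⁻¹ ∈ X) {u : G} (hu : u ∈ X) :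
    ∃ u₁ ∈ X, ∃ u₂ ∈ X, u = u₁ * u₂ ∧ c * u₁ * c⁻¹ = u₁ ∧ c * u₂ * c⁻¹ = u₂⁻¹ := by
  have hord : Odd (orderOf u) := Odd.of_dvd_nat hodd (Subgroup.orderOf_dvd_natCard X hu)
  obtain ⟨l, hl⟩ := hord
  set t := u ^ (l + 1) with ht
  have htX : t ∈ X := X.pow_mem hu _
  have ht2 : t * t = u := by
    rw [ht, ← pow_add, show l + 1 + (l + 1) = orderOf u + 1 by omega, pow_succ, pow_orderOf_eq_one,
      one_mul]
  set t' := c * t * c⁻¹ with ht'
  have ht'X : t' ∈ X := hcn t htX
  have hci : c⁻¹ = c := inv_eq_of_mul_eq_one_left hc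
  have hcc : c * t' * c⁻¹ = t := by
    rw [ht', hci]
    calc c * (c * t * c) * c = (c * c) * t * (c * c) := by group
      _ = t := by rw [hc]; group
  refine ⟨t * t', X.mul_mem htX ht'X, t * t'⁻¹, X.mul_mem htX (X.inv_mem ht'X), ?_, ?_, ?_⟩
  · have h1 : t * t' * (t * t'⁻¹) = t * t * (t' * t'⁻¹) := by
      have h2 := habel t' ht'X t htX
      calc t * t' * (t * t'⁻¹) = t * (t' * t) * t'⁻¹ := by group
        _ = t * (t * t') * t'⁻¹ := by rw [h2]
        _ = _ := by group
    rw [h1, ht2]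
    simp
  · calc c * (t * t') * c⁻¹ = (c * t * c⁻¹) * (c * t' * c⁻¹) := by group
      _ = t' * t := by rw [hcc]
      _ = t * t' := habel _ ht'X _ htX
  · calc c * (t * t'⁻¹) * c⁻¹ = (c * t * c⁻¹) * (c * t' * c⁻¹)⁻¹ := by group
      _ = t' * t⁻¹ := by rw [hcc]
      _ = (t * t'⁻¹)⁻¹ := by group

/-- An element of a `PRankLE`-failing abelian group avoiding four given elements. -/
theorem exists_avoid_four (A : Subgroup G) (hA3 : ¬ PRankLE 2 2 ↥A) (x₁ x₂ x₃ x₄ : G) :
    ∃ c ∈ A, c * c = 1 ∧ c ≠ x₁ ∧ c ≠ x₂ ∧ c ≠ x₃ ∧ c ≠ x₄ := by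
  classical
  unfold PRankLE at hA3
  push Not at hA3
  obtain ⟨B, -, hB2, hB4⟩ := hA3
  by_contra hcon
  push Not at hcon
  let F : Finset G := {x₁, x₂, x₃, x₄}
  have hF : ∀ b : B, ((b : A) : G) ∈ F := by
    intro b
    have h1 : (b : A) ^ 2 = 1 := hB2 b b.2
    have h2 : ((b : A) : G) * ((b : A) : G) = 1 := by
      have := congrArg Subtype.val h1
      simpa [sq] using this
    simp only [F, Finset.mem_insert, Finset.mem_singleton]
    by_contra hne
    push Not at hne
    exact hne.2.2.2 (hcon _ (b : A).2 h2 hne.1 hne.2.1 hne.2.2.1)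
  have hcard : Nat.card B ≤ Nat.card F := by
    apply Nat.card_le_card_of_injective (fun b : B => (⟨((b : A) : G), hF b⟩ : F))
    intro a b hab
    have : ((a : A) : G) = ((b : A) : G) := by
      have h1 := congrArg (fun x : F => (x : G)) hab
      simpa using h1
    exact Subtype.ext (Subtype.ext this)
  have hF4 : Nat.card F ≤ 4 := by
    rw [Nat.card_eq_fintype_card, Fintype.card_coe]
    exact Finset.card_le_four
  have : (2 : ℕ) ^ 2 = 4 := by norm_num
  omega

/-- A central element of `Ω₁(A)`. -/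
theorem exists_omega_central (S A : Subgroup G) (hS : IsPGroup 2 S) (hAS : A ≤ S)
    (hSA : S ≤ Subgroup.normalizer (A : Set G)) (hAc : ∀ a ∈ A, ∀ b ∈ A, a * b = b * a)
    (hA3 : ¬ PRankLE 2 2 ↥A) :
    ∃ z ∈ A, z * z = 1 ∧ z ≠ 1 ∧ ∀ s ∈ S, s * z = z * s := by
  classical
  haveI : Fact (Nat.Prime 2) := ⟨Nat.prime_two⟩
  haveI : Group.IsNilpotent S := hS.isNilpotent
  let Ω : Subgroup S :=
    { carrier := {s | (s : G) ∈ A ∧ (s : G) * s = 1}
      one_mem' := ⟨A.one_mem, by simp⟩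
      mul_mem' := by
        rintro s t ⟨hs, hs2⟩ ⟨ht, ht2⟩
        refine ⟨A.mul_mem hs ht, ?_⟩
        have hc : (s : G) * t = t * s := hAc _ hs _ ht
        show (s : G) * t * (s * t) = 1
        calc (s : G) * t * (s * t) = s * (t * s) * t := by group
          _ = s * (s * t) * t := by rw [hc]
          _ = (s * s) * (t * t) := by group
          _ = 1 := by rw [hs2, ht2, one_mul]
      inv_mem' := by
        rintro s ⟨hs, hs2⟩
        refine ⟨A.inv_mem hs, ?_⟩
        show (s : G)⁻¹ * (s : G)⁻¹ = 1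
        rw [← mul_inv_rev, hs2, inv_one] }
  have hΩn : Ω.Normal := by
    constructor
    rintro s ⟨hs, hs2⟩ g
    refine ⟨?_, ?_⟩
    · have := (Subgroup.mem_normalizer_iff.mp (hSA g.2) s).mp hs
      simpa using this
    · simp only [Subgroup.coe_mul, InvMemClass.coe_inv]
      calc (g : G) * s * (g : G)⁻¹ * ((g : G) * s * (g : G)⁻¹) = g * (s * s) * (g : G)⁻¹ := by group
        _ = 1 := by rw [hs2]; group
  obtain ⟨c, hcA, hc2, hc1, -, -, -⟩ := exists_avoid_four A hA3 1 1 1 1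
  have hcΩ : (⟨c, hAS hcA⟩ : S) ∈ Ω := ⟨hcA, hc2⟩
  obtain ⟨z, hzΩ, hzne, hzc⟩ := exists_central_mod Ω ⊥ hΩn (by
    intro h
    have h1 := h hcΩ
    rw [Subgroup.mem_bot] at h1
    exact hc1 (congrArg Subtype.val h1))
  refine ⟨z, hzΩ.1, hzΩ.2, ?_, ?_⟩
  · intro h
    apply hzne
    rw [Subgroup.mem_bot]
    exact Subtype.ext h
  · intro s hs
    have h1 := hzc ⟨s, hs⟩
    rw [Subgroup.mem_bot, commutatorElement_eq_one_iff_mul_comm] at h1
    exact (congrArg Subtype.val h1).symm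

/-- Odd order of a subgroup all of whose elements have odd order. -/
theorem odd_card_of_forall_odd (X : Subgroup G) (h : ∀ u ∈ X, ∃ n : ℕ, Odd n ∧ u ^ n = 1) :
    Odd (Nat.card X) := by
  haveI : Fact (Nat.Prime 2) := ⟨Nat.prime_two⟩
  by_contra hne
  rw [Nat.not_odd_iff_even, even_iff_two_dvd] at hne
  obtain ⟨u, hu⟩ := exists_prime_orderOf_dvd_card' 2 hne
  obtain ⟨n, hn, hun⟩ := h u u.2
  have h1 : orderOf (u : G) = 2 := by rw [Subgroup.orderOf_coe, hu]
  have h2 : orderOf (u : G) ∣ n := orderOf_dvd_of_pow_eq_one hun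
  rw [h1] at h2
  exact (Nat.not_even_iff_odd.mpr hn) (even_iff_two_dvd.mpr h2)

/-- A group generated by commuting elements of odd order has odd order. -/
theorem odd_card_closure (s : Set G) (hcomm : ∀ x ∈ s, ∀ y ∈ s, x * y = y * x)
    (hodd : ∀ x ∈ s, ∃ n : ℕ, Odd n ∧ x ^ n = 1) : Odd (Nat.card (Subgroup.closure s)) := by
  apply odd_card_of_forall_odd
  haveI := Subgroup.isMulCommutative_closure hcomm
  have hcc : ∀ x ∈ Subgroup.closure s, ∀ y ∈ Subgroup.closure s, x * y = y * x := by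
    intro x hx y hy
    have := mul_comm' (⟨x, hx⟩ : Subgroup.closure s) ⟨y, hy⟩
    exact congrArg Subtype.val this
  intro u hu
  induction hu using Subgroup.closure_induction with
  | mem x hx => exact hodd x hx
  | one => exact ⟨1, odd_one, by simp⟩
  | mul x y hx hy ihx ihy =>
    obtain ⟨m, hm, hxm⟩ := ihx
    obtain ⟨n, hn, hyn⟩ := ihy
    refine ⟨m * n, hm.mul hn, ?_⟩
    have hc : Commute x y := hcc x hx y hy
    rw [hc.mul_pow, pow_mul, hxm, one_pow, mul_comm m n, pow_mul, hyn, one_pow, one_mul]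
  | inv x hx ih =>
    obtain ⟨m, hm, hxm⟩ := ih
    exact ⟨m, hm, by rw [inv_pow, hxm, inv_one]⟩

/-- If `f` is a fixed-point-free involution on `X` and `f'` too, and `f f'` also, then `X` is trivial. -/
theorem eq_bot_of_four_fpf (X : Subgroup G) (f f' : G) (hf : f * f = 1) (hf' : f' * f' = 1)
    (hc : f * f' = f' * f)
    (hn : f ∈ Subgroup.normalizer (X : Set G)) (hn' : f' ∈ Subgroup.normalizer (X : Set G))
    (h1 : ∀ u ∈ X, u * f = f * u → u = 1) (h2 : ∀ u ∈ X, u * f' = f' * u → u = 1)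
    (h3 : ∀ u ∈ X, u * (f * f') = (f * f') * u → u = 1) : X = ⊥ := by
  have hfix1 : X ⊓ Subgroup.centralizer ({f} : Set G) = ⊥ := by
    rw [eq_bot_iff]
    rintro u ⟨hu, huc⟩
    exact Subgroup.mem_bot.mpr (h1 u hu (Subgroup.mem_centralizer_singleton_iff.mp huc))
  have hfix2 : X ⊓ Subgroup.centralizer ({f'} : Set G) = ⊥ := by
    rw [eq_bot_iff]
    rintro u ⟨hu, huc⟩
    exact Subgroup.mem_bot.mpr (h2 u hu (Subgroup.mem_centralizer_singleton_iff.mp huc))
  rw [eq_bot_iff]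
  intro u hu
  rw [Subgroup.mem_bot]
  apply h3 u hu
  have e1 := conj_eq_inv_of_fpf_subgroup X f hf hn hfix1 (X.inv_mem hu)
  have e2 := conj_eq_inv_of_fpf_subgroup X f' hf' hn' hfix2 hu
  have e3 : (f * f') * u * (f * f')⁻¹ = u := by
    calc (f * f') * u * (f * f')⁻¹ = f * (f' * u * f'⁻¹) * f⁻¹ := by group
      _ = f * u⁻¹ * f⁻¹ := by rw [e2]
      _ = (u⁻¹)⁻¹ := e1
      _ = u := inv_inv u
  calc u * (f * f') = ((f * f') * u * (f * f')⁻¹) * (f * f') := by rw [e3]
    _ = (f * f') * u := by group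

/-- Rank-three vanishing of the signalizers. -/
theorem OC_rank3 (S : Sylow 2 G) (A : Subgroup G) (hAS : A ≤ S)
    (hSA : (S : Subgroup G) ≤ Subgroup.normalizer (A : Set G))
    (hAc : ∀ a ∈ A, ∀ b ∈ A, a * b = b * a) (hA3 : ¬ PRankLE 2 2 ↥A)
    (hinv : ∀ X : Subgroup G, Odd (Nat.card ↥X) → (S : Subgroup G) ≤ Subgroup.normalizer (X : Set G) →
      X = ⊥)
    (hbal : ∀ e y u : G, e * e = 1 → e ≠ 1 → y * y = 1 → e * y = y * e → u ∈ OC y → u * e = e * u →
      u ∈ OC e) :
    ∀ y : G, y ∈ (S : Subgroup G) → y * y = 1 → y ≠ 1 → OC y = ⊥ := by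
  classical
  obtain ⟨z, hzA, hz2, hz1, hzS⟩ :=
    exists_omega_central (S : Subgroup G) A S.isPGroup' hAS hSA hAc hA3
  have hinvi : ∀ {x : G}, x * x = 1 → x⁻¹ = x := fun h => inv_eq_of_mul_eq_one_left h
  -- the core of `z` vanishes
  have hOz : OC z = ⊥ := by
    apply hinv _ (OC_odd z)
    intro s hs
    exact mem_normalizer_of_forall_conj_mem _ s (fun u hu => OC_conj_mem (hzS s hs) hu)
  have hOz' : ∀ u, u ∈ OC z → u = 1 := by
    intro u hu
    rw [hOz] at hu
    exact Subgroup.mem_bot.mp hu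
  -- `z` inverts the other cores
  have hinvz : ∀ a : G, a * a = 1 → a * z = z * a → ∀ u ∈ OC a, z * u * z⁻¹ = u⁻¹ := by
    intro a ha haz u hu
    have hfix : OC a ⊓ Subgroup.centralizer ({z} : Set G) = ⊥ := by
      rw [eq_bot_iff]
      rintro v ⟨hv, hvc⟩
      rw [Subgroup.mem_bot]
      exact hOz' v (hbal z a v hz2 hz1 ha haz.symm hv (Subgroup.mem_centralizer_singleton_iff.mp hvc))
    exact conj_eq_inv_of_fpf_subgroup _ z hz2
      (mem_normalizer_of_forall_conj_mem _ z (fun v hv => OC_conj_mem haz.symm hv)) hfix hu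
  have habel : ∀ a : G, a * a = 1 → a * z = z * a → ∀ u ∈ OC a, ∀ v ∈ OC a, u * v = v * u := by
    intro a ha haz u hu v hv
    have h1 := hinvz a ha haz _ ((OC a).mul_mem hu hv)
    have h2 := hinvz a ha haz u hu
    have h3 := hinvz a ha haz v hv
    have h4 : z * (u * v) * z⁻¹ = (z * u * z⁻¹) * (z * v * z⁻¹) := by group
    rw [h4, h2, h3, mul_inv_rev] at h1
    have h5 : (u⁻¹ * v⁻¹)⁻¹ = (v⁻¹ * u⁻¹)⁻¹ := by rw [h1]
    have h6 : v * u = u * v := by simpa using h5
    exact h6.symm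
  -- the set `Ω`
  let Ω : G → Prop := fun a => a ∈ A ∧ a * a = 1
  have hΩz : Ω z := ⟨hzA, hz2⟩
  have hΩc : ∀ {a b : G}, Ω a → Ω b → a * b = b * a := fun ha hb => hAc _ ha.1 _ hb.1
  have hΩm : ∀ {a b : G}, Ω a → Ω b → Ω (a * b) := by
    intro a b ha hb
    refine ⟨A.mul_mem ha.1 hb.1, ?_⟩
    calc a * b * (a * b) = a * (b * a) * b := by group
      _ = a * (a * b) * b := by rw [hΩc hb ha]
      _ = (a * a) * (b * b) := by group
      _ = 1 := by rw [ha.2, hb.2, one_mul]
  have hΩab : ∀ {a : G}, Ω a → ∀ u ∈ OC a, ∀ v ∈ OC a, u * v = v * u :=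
    fun ha => habel _ ha.2 (hΩc ha hΩz)
  -- `c` acts on the core of `a`
  have hΩact : ∀ {a c : G}, Ω a → Ω c → ∀ u ∈ OC a, c * u * c⁻¹ ∈ OC a :=
    fun ha hc _ hu => OC_conj_mem (hΩc hc ha) hu
  -- commuting in the general position
  have hgen : ∀ a b : G, Ω a → Ω b → a ≠ 1 → b ≠ 1 → a * b ≠ 1 → a * b * z ≠ 1 →
      ∀ u ∈ OC a, ∀ v ∈ OC b, u * v = v * u := by
    intro a b ha hb ha1 hb1 hab1 habz u hu v hv
    set c := a * b with hc
    have hΩcc : Ω c := hΩm ha hb
    obtain ⟨u₁, hu₁, u₂, hu₂, rfl, hu₁c, hu₂c⟩ :=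
      abel_odd_decomp (OC a) (OC_odd a) (hΩab ha) c hΩcc.2 (hΩact ha hΩcc) hu
    obtain ⟨v₁, hv₁, v₂, hv₂, rfl, hv₁c, hv₂c⟩ :=
      abel_odd_decomp (OC b) (OC_odd b) (hΩab hb) c hΩcc.2 (hΩact hb hΩcc) hv
    have hcomm_of_conj : ∀ {x w : G}, x * w * x⁻¹ = w → w * x = x * w := by
      intro x w h
      calc w * x = (x * w * x⁻¹) * x := by rw [h]
        _ = x * w := by group
    have hconj_of_comm : ∀ {x w : G}, w * x = x * w → x * w * x⁻¹ = w := by
      intro x w h
      rw [← h]; group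
    have hacomm : a * b = b * a := hΩc ha hb
    -- `u₁` lies in the core of `b`
    have hu₁b : u₁ ∈ OC b := by
      apply hbal b a u₁ hb.2 hb1 ha.2 hacomm.symm hu₁
      have h1 : u₁ * a = a * u₁ := OC_comm a hu₁
      have h2 : u₁ * c = c * u₁ := hcomm_of_conj hu₁c
      have h3 : u₁ * b = b * u₁ := by
        have hb' : b = a⁻¹ * c := by rw [hc]; group
        rw [hb']
        calc u₁ * (a⁻¹ * c) = (u₁ * a⁻¹) * c := by group
          _ = (a⁻¹ * u₁) * c := by
            rw [hinvi ha.2, h1]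
          _ = a⁻¹ * (u₁ * c) := by group
          _ = a⁻¹ * (c * u₁) := by rw [h2]
          _ = _ := by group
      exact h3
    -- `v₁` lies in the core of `a`
    have hv₁a : v₁ ∈ OC a := by
      apply hbal a b v₁ ha.2 ha1 hb.2 hacomm hv₁
      have h1 : v₁ * b = b * v₁ := OC_comm b hv₁
      have h2 : v₁ * c = c * v₁ := hcomm_of_conj hv₁c
      have hb' : a = c * b⁻¹ := by rw [hc]; group
      rw [hb']
      calc v₁ * (c * b⁻¹) = (v₁ * c) * b⁻¹ := by group
        _ = (c * v₁) * b⁻¹ := by rw [h2]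
        _ = c * (v₁ * b) := by rw [hinvi hb.2]; group
        _ = c * (b * v₁) := by rw [h1]
        _ = _ := by rw [hinvi hb.2]; group
    -- `u₂` and `v₂` lie in the core of `c z`
    have hcz : Ω (c * z) := hΩm hΩcc hΩz
    have hfixcz : ∀ {d w : G}, Ω d → w ∈ OC d → c * w * c⁻¹ = w⁻¹ → w * (c * z) = (c * z) * w := by
      intro d w hd hw hcw
      have h1 := hinvz d hd.2 (hΩc hd hΩz) w hw
      have h2 : (c * z) * w * (c * z)⁻¹ = w := by
        have hcc : c⁻¹ = c := hinvi hΩcc.2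
        have hzz : z⁻¹ = z := hinvi hz2
        calc (c * z) * w * (c * z)⁻¹ = c * (z * w * z⁻¹) * c⁻¹ := by group
          _ = c * w⁻¹ * c⁻¹ := by rw [h1]
          _ = (c * w * c⁻¹)⁻¹ := by group
          _ = w := by rw [hcw, inv_inv]
      exact hcomm_of_conj h2
    have hu₂cz : u₂ ∈ OC (c * z) :=
      hbal (c * z) a u₂ hcz.2 habz ha.2 (hΩc hcz ha) hu₂ (hfixcz ha hu₂ hu₂c)
    have hv₂cz : v₂ ∈ OC (c * z) :=
      hbal (c * z) b v₂ hcz.2 habz hb.2 (hΩc hcz hb) hv₂ (hfixcz hb hv₂ hv₂c)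
    have h1 : u₁ * v₁ = v₁ * u₁ := hΩab hb _ hu₁b _ hv₁
    have h2 : u₁ * v₂ = v₂ * u₁ := hΩab hb _ hu₁b _ hv₂
    have h3 : u₂ * v₁ = v₁ * u₂ := hΩab ha _ hu₂ _ hv₁a
    have h4 : u₂ * v₂ = v₂ * u₂ := hΩab hcz _ hu₂cz _ hv₂cz
    calc u₁ * u₂ * (v₁ * v₂) = u₁ * (u₂ * v₁) * v₂ := by group
      _ = u₁ * (v₁ * u₂) * v₂ := by rw [h3]
      _ = (u₁ * v₁) * (u₂ * v₂) := by group
      _ = (v₁ * u₁) * (v₂ * u₂) := by rw [h1, h4]
      _ = v₁ * (u₁ * v₂) * u₂ := by group
      _ = v₁ * (v₂ * u₁) * u₂ := by rw [h2]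
      _ = v₁ * v₂ * (u₁ * u₂) := by group
  -- all cores commute
  have hall : ∀ a b : G, Ω a → Ω b → a ≠ 1 → b ≠ 1 → ∀ u ∈ OC a, ∀ v ∈ OC b, u * v = v * u := by
    intro a b ha hb ha1 hb1 u hu v hv
    by_cases hab1 : a * b = 1
    · have hab : a = b := by
        have h1 : a = b⁻¹ := eq_inv_of_mul_eq_one_left hab1
        rw [h1, hinvi hb.2]
      subst hab
      exact hΩab ha _ hu _ hv
    by_cases habz : a * b * z = 1
    · -- exceptional case: `b = a z`
      have hb' : b = a * z := by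
        have h1 : a * b = z⁻¹ := eq_inv_of_mul_eq_one_left habz
        rw [hinvi hz2] at h1
        calc b = a⁻¹ * (a * b) := by group
          _ = a * z := by rw [h1, hinvi ha.2]
      obtain ⟨c, hcA, hc2, hc1, hca, hcz, hcaz⟩ := exists_avoid_four A hA3 1 a z (a * z)
      have hΩcc : Ω c := ⟨hcA, hc2⟩
      have hΩcz : Ω (c * z) := hΩm hΩcc hΩz
      obtain ⟨u₁, hu₁, u₂, hu₂, rfl, hu₁c, hu₂c⟩ :=
        abel_odd_decomp (OC a) (OC_odd a) (hΩab ha) c hc2 (hΩact ha hΩcc) hu
      have hcomm_of_conj : ∀ {x w : G}, x * w * x⁻¹ = w → w * x = x * w := by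
        intro x w h
        calc w * x = (x * w * x⁻¹) * x := by rw [h]
          _ = x * w := by group
      have hu₁c' : u₁ ∈ OC c := hbal c a u₁ hc2 hc1 ha.2 (hΩc hΩcc ha) hu₁ (hcomm_of_conj hu₁c)
      have hczne : c * z ≠ 1 := by
        intro h
        apply hcz
        have h1 : c = z⁻¹ := eq_inv_of_mul_eq_one_left h
        rw [h1, hinvi hz2]
      have hu₂c' : u₂ ∈ OC (c * z) := by
        apply hbal (c * z) a u₂ hΩcz.2 hczne ha.2 (hΩc hΩcz ha) hu₂
        have h1 := hinvz a ha.2 (hΩc ha hΩz) u₂ hu₂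
        have h2 : (c * z) * u₂ * (c * z)⁻¹ = u₂ := by
          calc (c * z) * u₂ * (c * z)⁻¹ = c * (z * u₂ * z⁻¹) * c⁻¹ := by group
            _ = c * u₂⁻¹ * c⁻¹ := by rw [h1]
            _ = (c * u₂ * c⁻¹)⁻¹ := by group
            _ = u₂ := by rw [hu₂c, inv_inv]
        exact hcomm_of_conj h2
      have hzz : z * z = 1 := hz2
      have hcb : c * b ≠ 1 := by
        intro h
        apply hcaz
        have h1 : c = b⁻¹ := eq_inv_of_mul_eq_one_left h
        rw [h1, hinvi hb.2, hb']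
      have hcbz : c * b * z ≠ 1 := by
        rw [hb']
        intro h
        apply hca
        have h1 : c * (a * z) * z = c * a := by
          calc c * (a * z) * z = c * a * (z * z) := by group
            _ = c * a := by rw [hzz, mul_one]
        rw [h1] at h
        have h2 : c = a⁻¹ := eq_inv_of_mul_eq_one_left h
        rw [h2, hinvi ha.2]
      have hczb : (c * z) * b ≠ 1 := by
        rw [hb']
        intro h
        apply hca
        have h1 : c * z * (a * z) = c * a := by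
          have h2 : z * a = a * z := (hΩc ha hΩz).symm
          calc c * z * (a * z) = c * (z * a) * z := by group
            _ = c * (a * z) * z := by rw [h2]
            _ = c * a * (z * z) := by group
            _ = c * a := by rw [hzz, mul_one]
        rw [h1] at h
        have h2 : c = a⁻¹ := eq_inv_of_mul_eq_one_left h
        rw [h2, hinvi ha.2]
      have hczbz : (c * z) * b * z ≠ 1 := by
        rw [hb']
        intro h
        apply hcaz
        have h1 : c * z * (a * z) * z = c * (a * z) := by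
          have h2 : z * a = a * z := (hΩc ha hΩz).symm
          calc c * z * (a * z) * z = c * (z * a) * (z * z) := by group
            _ = c * (a * z) * (z * z) := by rw [h2]
            _ = c * (a * z) := by rw [hzz, mul_one]
        rw [h1] at h
        have h2 : c = (a * z)⁻¹ := eq_inv_of_mul_eq_one_left h
        rw [h2]
        exact hinvi (hΩm ha hΩz).2
      have h1 := hgen c b hΩcc hb hc1 hb1 hcb hcbz u₁ hu₁c' v hv
      have h2 := hgen (c * z) b hΩcz hb hczne hb1 hczb hczbz u₂ hu₂c' v hv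
      calc u₁ * u₂ * v = u₁ * (u₂ * v) := by group
        _ = u₁ * (v * u₂) := by rw [h2]
        _ = (u₁ * v) * u₂ := by group
        _ = (v * u₁) * u₂ := by rw [h1]
        _ = v * (u₁ * u₂) := by group
    · exact hgen a b ha hb ha1 hb1 hab1 habz u hu v hv
  -- the closure
  let gens : Set G := {u | ∃ a : G, Ω a ∧ a ≠ 1 ∧ u ∈ OC a}
  have hgcomm : ∀ x ∈ gens, ∀ y ∈ gens, x * y = y * x := by
    rintro x ⟨a, ha, ha1, hx⟩ y ⟨b, hb, hb1, hy⟩
    exact hall a b ha hb ha1 hb1 x hx y hy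
  have hgodd : ∀ x ∈ gens, ∃ n : ℕ, Odd n ∧ x ^ n = 1 := by
    rintro x ⟨a, ha, ha1, hx⟩
    exact ⟨orderOf x, Odd.of_dvd_nat (OC_odd a) (Subgroup.orderOf_dvd_natCard _ hx),
      pow_orderOf_eq_one x⟩
  have hY : Subgroup.closure gens = ⊥ := by
    apply hinv _ (odd_card_closure gens hgcomm hgodd)
    intro s hs
    apply mem_normalizer_of_forall_conj_mem
    intro u hu
    have hle : Subgroup.closure gens ≤
        (Subgroup.closure gens).comap (MulAut.conj s).toMonoidHom := by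
      rw [Subgroup.closure_le]
      rintro x ⟨a, ha, ha1, hx⟩
      apply Subgroup.subset_closure
      refine ⟨s * a * s⁻¹, ⟨?_, ?_⟩, ?_, OC_conj_elem s hx⟩
      · exact (Subgroup.mem_normalizer_iff.mp (hSA hs) a).mp ha.1
      · calc s * a * s⁻¹ * (s * a * s⁻¹) = s * (a * a) * s⁻¹ := by group
          _ = 1 := by rw [ha.2]; group
      · intro h
        apply ha1
        have : a = s⁻¹ * (s * a * s⁻¹) * s := by group
        rw [this, h]; group
    exact hle hu
  have hΩbot : ∀ a : G, Ω a → a ≠ 1 → ∀ u ∈ OC a, u = 1 := by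
    intro a ha ha1 u hu
    have h1 : u ∈ Subgroup.closure gens := Subgroup.subset_closure ⟨a, ha, ha1, hu⟩
    rw [hY] at h1
    exact Subgroup.mem_bot.mp h1
  -- arbitrary involutions of `S`
  intro y hyS hy2 hy1
  -- the action of `y` on `Ω`
  have hact : ∀ {w : G}, Ω w → Ω (y * w * y⁻¹) := by
    intro w hw
    refine ⟨(Subgroup.mem_normalizer_iff.mp (hSA hyS) w).mp hw.1, ?_⟩
    calc y * w * y⁻¹ * (y * w * y⁻¹) = y * (w * w) * y⁻¹ := by group
      _ = 1 := by rw [hw.2]; group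
  have hyi : y⁻¹ = y := hinvi hy2
  have hcommute : ∀ {w : G}, Ω w → (w * (y * w * y⁻¹)) * y = y * (w * (y * w * y⁻¹)) := by
    intro w hw
    have h1 : w * (y * w * y⁻¹) = (y * w * y⁻¹) * w := hΩc hw (hact hw)
    calc (w * (y * w * y⁻¹)) * y = ((y * w * y⁻¹) * w) * y := by rw [h1]
      _ = y * w * y * w * y := by rw [hyi]
      _ = y * (w * (y * w * y⁻¹)) := by rw [hyi]; simp only [mul_assoc]
  -- a suitable element `f` of `Ω`, commuting with `y`, outside `⟨z⟩`
  obtain ⟨f, hfΩ, hf1, hfz, hfy⟩ : ∃ f : G, Ω f ∧ f ≠ 1 ∧ f ≠ z ∧ f * y = y * f := by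
    obtain ⟨a, haA, ha2, ha1, haz, -, -⟩ := exists_avoid_four A hA3 1 z 1 1
    have hΩa : Ω a := ⟨haA, ha2⟩
    obtain ⟨b, hbA, hb2, hb1, hbz, hba, hbaz⟩ := exists_avoid_four A hA3 1 z a (a * z)
    have hΩb : Ω b := ⟨hbA, hb2⟩
    by_cases h1 : a * (y * a * y⁻¹) = 1
    · refine ⟨a, hΩa, ha1, haz, ?_⟩
      have h2 : y * a * y⁻¹ = a := by
        have h3 : y * a * y⁻¹ = a⁻¹ := eq_inv_of_mul_eq_one_right h1
        rw [h3, hinvi ha2]
      calc a * y = (y * a * y⁻¹) * y := by rw [h2]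
        _ = y * a := by group
    by_cases h2 : a * (y * a * y⁻¹) = z
    · by_cases h3 : b * (y * b * y⁻¹) = 1
      · refine ⟨b, hΩb, hb1, hbz, ?_⟩
        have h4 : y * b * y⁻¹ = b := by
          have h5 : y * b * y⁻¹ = b⁻¹ := eq_inv_of_mul_eq_one_right h3
          rw [h5, hinvi hb2]
        calc b * y = (y * b * y⁻¹) * y := by rw [h4]
          _ = y * b := by group
      by_cases h4 : b * (y * b * y⁻¹) = z
      · refine ⟨a * b, hΩm hΩa hΩb, ?_, ?_, ?_⟩
        · intro h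
          apply hba
          have h5 : a = b⁻¹ := eq_inv_of_mul_eq_one_left h
          rw [h5, hinvi hb2]
        · intro h
          apply hbaz
          calc b = a⁻¹ * (a * b) := by group
            _ = a * z := by rw [h, hinvi ha2]
        · have h5 : y * a * y⁻¹ = a * z := by
            calc y * a * y⁻¹ = a⁻¹ * (a * (y * a * y⁻¹)) := by group
              _ = a * z := by rw [h2, hinvi ha2]
          have h6 : y * b * y⁻¹ = b * z := by
            calc y * b * y⁻¹ = b⁻¹ * (b * (y * b * y⁻¹)) := by group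
              _ = b * z := by rw [h4, hinvi hb2]
          have h7 : y * (a * b) * y⁻¹ = a * b := by
            have h8 : z * b = b * z := (hΩc hΩb hΩz).symm
            calc y * (a * b) * y⁻¹ = (y * a * y⁻¹) * (y * b * y⁻¹) := by group
              _ = (a * z) * (b * z) := by rw [h5, h6]
              _ = a * (z * b) * z := by group
              _ = a * (b * z) * z := by rw [h8]
              _ = a * b * (z * z) := by group
              _ = a * b := by rw [hz2, mul_one]
          calc a * b * y = (y * (a * b) * y⁻¹) * y := by rw [h7]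
            _ = y * (a * b) := by group
      · exact ⟨_, hΩm hΩb (hact hΩb), h3, h4, hcommute hΩb⟩
    · exact ⟨_, hΩm hΩa (hact hΩa), h1, h2, hcommute hΩa⟩
  have hzy : z * y = y * z := (hzS y hyS).symm
  have hbalbot : ∀ e : G, Ω e → e ≠ 1 → e * y = y * e → ∀ u ∈ OC y, u * e = e * u → u = 1 := by
    intro e he he1 hey u hu hue
    exact hΩbot e he he1 u (hbal e y u he.2 he1 hy2 hey hu hue)
  apply eq_bot_of_four_fpf (OC y) z f hz2 hfΩ.2 (hΩc hΩz hfΩ)
  · exact mem_normalizer_of_forall_conj_mem _ z (fun v hv => OC_conj_mem hzy hv)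
  · exact mem_normalizer_of_forall_conj_mem _ f (fun v hv => OC_conj_mem hfy hv)
  · exact hbalbot z hΩz hz1 hzy
  · exact hbalbot f hfΩ hf1 hfy
  · refine hbalbot (z * f) (hΩm hΩz hfΩ) ?_ ?_
    · intro h
      apply hfz
      have h1 : f = z⁻¹ := eq_inv_of_mul_eq_one_right h
      rw [h1, hinvi hz2]
    · calc z * f * y = z * (f * y) := by group
        _ = z * (y * f) := by rw [hfy]
        _ = (z * y) * f := by group
        _ = (y * z) * f := by rw [hzy]
        _ = _ := by group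

end

end Cfsg.Agent.H15
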