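import Mathlib
import Cfsg.Agent.Lib.H15.EarlyChar4
import Cfsg.Agent.Lib.H15.ZStarMain

set_option autoImplicit false
set_option linter.style.haveILetI false
set_option linter.unusedSectionVars false

namespace Cfsg.Agent.H15

open Cfsg

section abstract

variable {H : Type*} [Group H] [Finite H]

/-- With trivial odd core, `O_{2',2}` is a `2`-group. -/
theorem pPrimePCore_isPGroup_of_odd_bot (hO : oddCore H = ⊥) : IsPGroup 2 (pPrimePCore 2 H) := by
  haveI : Fact (Nat.Prime 2) := ⟨Nat.prime_two⟩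
  have hO' : pPrimeCore 2 H = ⊥ := hO
  intro q
  have hq : ((q : H) : H ⧸ pPrimeCore 2 H) ∈ pCore 2 (H ⧸ pPrimeCore 2 H) := q.2
  obtain ⟨n, hn⟩ := H01.pCore_isPGroup (p := 2) (G := H ⧸ pPrimeCore 2 H)
    ⟨((q : H) : H ⧸ pPrimeCore 2 H), hq⟩
  refine ⟨n, ?_⟩
  have h1 : (((q : H) ^ 2 ^ n : H) : H ⧸ pPrimeCore 2 H) = 1 := by
    have := congrArg Subtype.val hn
    simpa using this
  have h2 : (q : H) ^ 2 ^ n ∈ pPrimeCore 2 H := (QuotientGroup.eq_one_iff _).mp h1
  rw [hO', Subgroup.mem_bot] at h2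
  exact Subtype.ext (by simpa using h2)

/-- `F*`-type statement: the centralizer of `O₂(H)` lies in `O₂(H)`. -/
theorem mem_pCore_of_centralizes (hC : IsPConstrained 2 H) (hO : oddCore H = ⊥) (g : H)
    (hg : ∀ q ∈ pCore 2 H, g * q = q * g) : g ∈ pCore 2 H := by
  haveI : Fact (Nat.Prime 2) := ⟨Nat.prime_two⟩
  have hQp := pPrimePCore_isPGroup_of_odd_bot hO
  haveI hQn : (pPrimePCore 2 H).Normal := H06.pPrimePCore_normal 2 H
  have hQF : pPrimePCore 2 H ≤ pCore 2 H := H01.le_pCore hQn hQp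
  obtain ⟨P⟩ : Nonempty (Sylow 2 (pPrimePCore 2 H)) := inferInstance
  apply hQF
  apply hC P
  rw [Subgroup.mem_centralizer_iff]
  rintro _ ⟨q, -, rfl⟩
  exact (hg _ (hQF q.2)).symm

/-- Involutions of a cyclic `Z(O₂(H))` coincide. -/
theorem central_invol_unique (hc : IsCyclic (Subgroup.center (pCore 2 H))) {a b : H}
    (ha : a ∈ pCore 2 H) (hb : b ∈ pCore 2 H)
    (hac : ∀ q ∈ pCore 2 H, a * q = q * a) (hbc : ∀ q ∈ pCore 2 H, b * q = q * b)
    (ha2 : a * a = 1) (ha1 : a ≠ 1) (hb2 : b * b = 1) (hb1 : b ≠ 1) : a = b := by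
  let a' : Subgroup.center (pCore 2 H) := ⟨⟨a, ha⟩, by
    rw [Subgroup.mem_center_iff]
    rintro ⟨q, hq⟩
    exact Subtype.ext (hac q hq).symm⟩
  let b' : Subgroup.center (pCore 2 H) := ⟨⟨b, hb⟩, by
    rw [Subgroup.mem_center_iff]
    rintro ⟨q, hq⟩
    exact Subtype.ext (hbc q hq).symm⟩
  have ho : ∀ {x : H}, x * x = 1 → x ≠ 1 → orderOf x = 2 := fun h h1 =>
    orderOf_eq_prime (by rw [sq]; exact h) h1
  have ha' : orderOf a' = 2 := by
    rw [Subgroup.orderOf_mk, Subgroup.orderOf_mk]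
    exact ho ha2 ha1
  have hb' : orderOf b' = 2 := by
    rw [Subgroup.orderOf_mk, Subgroup.orderOf_mk]
    exact ho hb2 hb1
  have := unique_involution_of_cyclic ha' hb'
  have h1 := congrArg (fun x : Subgroup.center (pCore 2 H) => ((x : pCore 2 H) : H)) this
  exact h1

end abstract

section local_

variable {G : Type*} [Group G] [Finite G]

/-- For an involution the normalizer of the group it generates is its centralizer. -/
theorem normalizer_zpowers_invol (e : G) (he : e * e = 1) :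
    Subgroup.normalizer (Subgroup.zpowers e : Set G) = Subgroup.centralizer ({e} : Set G) := by
  have he2 : e ^ 2 = 1 := by rw [sq]; exact he
  ext g
  constructor
  · intro hg
    have h1 : g * e * g⁻¹ ∈ Subgroup.zpowers e :=
      (Subgroup.mem_normalizer_iff.mp hg e).mp (Subgroup.mem_zpowers e)
    rw [Subgroup.mem_centralizer_singleton_iff]
    rcases mem_zpowers_of_sq he2 h1 with h2 | h2
    · have : e = 1 := by
        have h3 : g⁻¹ * (g * e * g⁻¹) * g = e := by group
        rw [h2] at h3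
        rw [← h3]; group
      subst this
      simp
    · calc g * e = (g * e * g⁻¹) * g := by group
        _ = e * g := by rw [h2]
  · intro hg
    have hgc := Subgroup.mem_centralizer_singleton_iff.mp hg
    apply mem_normalizer_of_forall_conj_mem
    intro y hy
    obtain ⟨k, rfl⟩ := Subgroup.mem_zpowers_iff.mp hy
    refine Subgroup.mem_zpowers_iff.mpr ⟨k, ?_⟩
    have hcomm : Commute g (e ^ k) := (show Commute g e from hgc).zpow_right k
    rw [hcomm.eq]
    group

theorem isPGroup_zpowers_invol (e : G) (he : e * e = 1) : IsPGroup 2 (Subgroup.zpowers e) := by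
  rw [IsPGroup.iff_card, Nat.card_zpowers]
  have h1 : orderOf e ∣ 2 ^ 1 := orderOf_dvd_of_pow_eq_one (by rw [pow_one, sq]; exact he)
  obtain ⟨k, -, hk⟩ := (Nat.dvd_prime_pow Nat.prime_two).mp h1
  exact ⟨k, hk⟩

theorem zpowers_invol_ne_bot {e : G} (he1 : e ≠ 1) : Subgroup.zpowers e ≠ ⊥ := by
  rw [Ne, Subgroup.zpowers_eq_bot]
  exact he1

/-- Any nontrivial `2`-local lies in a maximal one. -/
theorem exists_max_two_local (T : Subgroup G) (hT : IsPGroup 2 ↥T) (hT1 : T ≠ ⊥) :
    ∃ M : Subgroup G, IsMaximalTwoLocal M ∧ Subgroup.normalizer (T : Set G) ≤ M := by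
  classical
  let P : Set (Subgroup G) := {M | IsTwoLocal M}
  have hPfin : P.Finite := Set.toFinite _
  have hmem : Subgroup.normalizer (T : Set G) ∈ P := ⟨T, hT, hT1, rfl⟩
  obtain ⟨M, hTM, hMmax⟩ := hPfin.exists_le_maximal hmem
  refine ⟨M, ⟨hMmax.prop, fun N hN hMN => ?_⟩, hTM⟩
  exact le_antisymm (hMmax.le_of_ge hN hMN) hMN

/-- A maximal `2`-local with cyclic `Z(O₂)` is the centralizer of an involution. -/
theorem max_local_eq_centralizer (M : Subgroup G) (hM : IsMaximalTwoLocal M)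
    (hc : IsCyclic (Subgroup.center (pCore 2 ↥M))) :
    ∃ y : G, y * y = 1 ∧ y ≠ 1 ∧ M = Subgroup.centralizer ({y} : Set G) := by
  classical
  haveI : Fact (Nat.Prime 2) := ⟨Nat.prime_two⟩
  obtain ⟨⟨T, hT2, hT1, hMT⟩, hmax⟩ := hM
  have hFp : IsPGroup 2 (pCore 2 ↥M) := H01.pCore_isPGroup 2
  haveI hFn : (pCore 2 ↥M).Normal := H01.pCore_normal 2
  -- `F` is nontrivial
  have hTM : T ≤ M := by rw [hMT]; exact Subgroup.le_normalizer
  have hTn : (T.subgroupOf M).Normal := by
    constructor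
    intro u hu m
    have h1 : (m : G) ∈ Subgroup.normalizer (T : Set G) := by rw [← hMT]; exact m.2
    have h2 := (Subgroup.mem_normalizer_iff.mp h1 u).mp hu
    show ((m * u * m⁻¹ : M) : G) ∈ T
    simpa using h2
  have hTp : IsPGroup 2 (T.subgroupOf M) := hT2.of_equiv (Subgroup.subgroupOfEquivOfLe hTM).symm
  have hTF : T.subgroupOf M ≤ pCore 2 ↥M := H01.le_pCore hTn hTp
  obtain ⟨t, htT, ht1⟩ : ∃ t ∈ T, t ≠ 1 := by
    by_contra hcon
    push Not at hcon
    exact hT1 ((Subgroup.eq_bot_iff_forall T).mpr hcon)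
  have htF : (⟨t, hTM htT⟩ : M) ∈ pCore 2 ↥M := hTF htT
  haveI hnt : Nontrivial (pCore 2 ↥M) :=
    ⟨⟨⟨⟨t, hTM htT⟩, htF⟩, 1, fun h => ht1 (by
      have := congrArg (fun x : pCore 2 ↥M => (((x : M)) : G)) h
      simpa using this)⟩⟩
  haveI := hFp.center_nontrivial
  -- an involution in the centre
  obtain ⟨y₀, hy₀⟩ : ∃ z : Subgroup.center (pCore 2 ↥M), orderOf z = 2 := by
    have hZp : IsPGroup 2 (Subgroup.center (pCore 2 ↥M)) := hFp.to_subgroup _
    obtain ⟨k, hk⟩ := IsPGroup.iff_card.mp hZp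
    have hdvd : 2 ∣ Nat.card (Subgroup.center (pCore 2 ↥M)) := by
      rw [hk]
      apply dvd_pow_self
      rintro rfl
      have : Nat.card (Subgroup.center (pCore 2 ↥M)) = 1 := by simpa using hk
      exact (Finite.one_lt_card (α := Subgroup.center (pCore 2 ↥M))).ne' this
    exact exists_prime_orderOf_dvd_card' 2 hdvd
  set a : M := ((y₀ : pCore 2 ↥M) : M) with ha
  have haF : a ∈ pCore 2 ↥M := (y₀ : pCore 2 ↥M).2
  have hao : orderOf a = 2 := by
    rw [ha, Subgroup.orderOf_coe, Subgroup.orderOf_coe, hy₀]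
  have ha2 : a * a = 1 := by
    rw [← sq, ← hao, pow_orderOf_eq_one]
  have ha1 : a ≠ 1 := by
    intro h
    rw [h, orderOf_one] at hao
    omega
  have hac : ∀ q ∈ pCore 2 ↥M, a * q = q * a := by
    intro q hq
    have h1 := Subgroup.mem_center_iff.mp y₀.2 ⟨q, hq⟩
    exact (congrArg Subtype.val h1).symm
  -- all conjugates equal
  have hconj : ∀ m : M, m * a * m⁻¹ = a := by
    intro m
    have h1 : m * a * m⁻¹ ∈ pCore 2 ↥M := hFn.conj_mem a haF m
    refine central_invol_unique hc h1 haF ?_ hac ?_ ?_ ha2 ha1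
    · intro q hq
      have h2 : m⁻¹ * q * m ∈ pCore 2 ↥M := by
        have := hFn.conj_mem q hq m⁻¹
        simpa using this
      have h3 := hac _ h2
      calc m * a * m⁻¹ * q = m * (a * (m⁻¹ * q * m)) * m⁻¹ := by group
        _ = m * ((m⁻¹ * q * m) * a) * m⁻¹ := by rw [h3]
        _ = _ := by group
    · calc m * a * m⁻¹ * (m * a * m⁻¹) = m * (a * a) * m⁻¹ := by group
        _ = 1 := by rw [ha2]; group
    · intro h
      apply ha1
      have : a = m⁻¹ * (m * a * m⁻¹) * m := by group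
      rw [this, h]; group
  set y : G := (a : G) with hy
  have hy2 : y * y = 1 := congrArg Subtype.val ha2
  have hy1 : y ≠ 1 := fun h => ha1 (Subtype.ext h)
  have hMC : M ≤ Subgroup.centralizer ({y} : Set G) := by
    intro m hm
    rw [Subgroup.mem_centralizer_singleton_iff]
    have h1 := congrArg Subtype.val (hconj ⟨m, hm⟩)
    have h2 : m * y * m⁻¹ = y := by simpa using h1
    calc m * y = (m * y * m⁻¹) * m := by group
      _ = y * m := by rw [h2]
  refine ⟨y, hy2, hy1, ?_⟩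
  symm
  apply hmax
  · refine ⟨Subgroup.zpowers y, isPGroup_zpowers_invol y hy2, zpowers_invol_ne_bot hy1, ?_⟩
    exact (normalizer_zpowers_invol y hy2).symm
  · exact hMC

/-- `O₂(C_G(y))` as a subgroup of `G`. -/
def FF (y : G) : Subgroup G :=
  (pCore 2 ↥(Subgroup.centralizer ({y} : Set G))).map (Subgroup.centralizer ({y} : Set G)).subtype

theorem FF_isPGroup (y : G) : IsPGroup 2 (FF y) := by
  haveI : Fact (Nat.Prime 2) := ⟨Nat.prime_two⟩
  exact (H01.pCore_isPGroup 2).map _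

theorem FF_conj_mem {y w u : G} (hw : w * y = y * w) (hu : u ∈ FF y) : w * u * w⁻¹ ∈ FF y := by
  haveI := H01.pCore_normal (G := ↥(Subgroup.centralizer ({y} : Set G))) 2
  obtain ⟨v, hv, rfl⟩ := hu
  have hw' := mem_centralizer_singleton_of hw
  refine ⟨⟨w, hw'⟩ * v * ⟨w, hw'⟩⁻¹, ?_, by simp⟩
  exact Subgroup.Normal.conj_mem inferInstance v hv _

theorem mem_FF_self {y : G} (hy : y * y = 1) : y ∈ FF y := by
  haveI : Fact (Nat.Prime 2) := ⟨Nat.prime_two⟩
  set C := Subgroup.centralizer ({y} : Set G) with hC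
  have hyC : y ∈ C := Subgroup.mem_centralizer_singleton_iff.mpr rfl
  let y' : C := ⟨y, hyC⟩
  have hy'2 : y' * y' = 1 := Subtype.ext hy
  have hn : (Subgroup.zpowers y').Normal := by
    constructor
    intro n hn g
    obtain ⟨k, rfl⟩ := Subgroup.mem_zpowers_iff.mp hn
    have hgy : g * y' = y' * g := Subtype.ext (Subgroup.mem_centralizer_singleton_iff.mp g.2)
    have h1 : g * y' ^ k * g⁻¹ = y' ^ k := by
      have h2 : Commute g (y' ^ k) := Commute.zpow_right hgy k
      rw [h2.eq]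
      group
    rw [h1]
    exact Subgroup.zpow_mem _ (Subgroup.mem_zpowers y') k
  have hle : Subgroup.zpowers y' ≤ pCore 2 ↥C :=
    H01.le_pCore hn (isPGroup_zpowers_invol y' hy'2)
  exact ⟨y', hle (Subgroup.mem_zpowers y'), rfl⟩

/-- The characterization of `y` by its action on `O₂(C_G(y))`. -/
theorem eq_of_central_FF {y w : G} (hy : y * y = 1) (hy1 : y ≠ 1)
    (hC : IsPConstrained 2 ↥(Subgroup.centralizer ({y} : Set G))) (hO : OC y = ⊥)
    (hc : IsCyclic (Subgroup.center (pCore 2 ↥(Subgroup.centralizer ({y} : Set G)))))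
    (hw : w * w = 1) (hw1 : w ≠ 1) (hwy : w * y = y * w) (hwF : ∀ q ∈ FF y, w * q = q * w) :
    w = y := by
  set C := Subgroup.centralizer ({y} : Set G) with hCdef
  have hO' : oddCore ↥C = ⊥ := by
    have h1 : (oddCore ↥C).map C.subtype = ⊥ := hO
    exact (Subgroup.map_eq_bot_iff_of_injective _ C.subtype_injective).mp h1
  have hyC : y ∈ C := Subgroup.mem_centralizer_singleton_iff.mpr rfl
  have hwC : w ∈ C := mem_centralizer_singleton_of hwy
  have hwm : (⟨w, hwC⟩ : C) ∈ pCore 2 ↥C := by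
    apply mem_pCore_of_centralizes hC hO'
    intro q hq
    exact Subtype.ext (hwF q ⟨q, hq, rfl⟩)
  have hym : (⟨y, hyC⟩ : C) ∈ pCore 2 ↥C := by
    obtain ⟨v, hv, hve⟩ := mem_FF_self hy
    have : v = ⟨y, hyC⟩ := Subtype.ext hve
    rwa [← this]
  have h1 := central_invol_unique hc (a := ⟨w, hwC⟩) (b := ⟨y, hyC⟩) hwm hym
    (fun q hq => Subtype.ext (hwF q ⟨q, hq, rfl⟩))
    (fun q hq => Subtype.ext (Subgroup.mem_centralizer_singleton_iff.mp q.2).symm)
    (Subtype.ext hw) (fun h => hw1 (congrArg Subtype.val h))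
    (Subtype.ext hy) (fun h => hy1 (congrArg Subtype.val h))
  exact congrArg Subtype.val h1

/-- A `2`-subgroup of `C_G(y)` and `O₂(C_G(y))` lie in a common Sylow subgroup. -/
theorem exists_sylow_above_FF (y : G) (T : Subgroup G) (hT : IsPGroup 2 T)
    (hTC : ∀ t ∈ T, t * y = y * t) : ∃ S' : Sylow 2 G, T ≤ S' ∧ FF y ≤ S' := by
  haveI : Fact (Nat.Prime 2) := ⟨Nat.prime_two⟩
  have hn : T ≤ Subgroup.normalizer (FF y : Set G) := fun t ht =>
    mem_normalizer_of_forall_conj_mem _ t (fun u hu => FF_conj_mem (hTC t ht) hu)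
  have h1 : IsPGroup 2 (T ⊔ FF y : Subgroup G) :=
    IsPGroup.to_sup_of_normal_right' hT (FF_isPGroup y) hn
  obtain ⟨S', hS'⟩ := h1.exists_le_sylow
  exact ⟨S', le_sup_left.trans hS', le_sup_right.trans hS'⟩

/-- Strict growth of normalizers in `p`-groups. -/
theorem normalizer_grow (P W : Subgroup G) (hP : IsPGroup 2 P) (hW : W ≤ P) (hne : W ≠ P) :
    W < P ⊓ Subgroup.normalizer (W : Set G) := by
  haveI : Fact (Nat.Prime 2) := ⟨Nat.prime_two⟩
  haveI : Group.IsNilpotent P := hP.isNilpotent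
  have hcond : NormalizerCondition P := normalizerCondition_of_isNilpotent
  have h1 : W.subgroupOf P < ⊤ := by
    rw [lt_top_iff_ne_top]
    intro h
    apply hne
    apply le_antisymm hW
    intro p hp
    have : (⟨p, hp⟩ : P) ∈ W.subgroupOf P := by rw [h]; trivial
    exact this
  have h2 := hcond _ h1
  obtain ⟨h3, t, ht, htW⟩ := SetLike.lt_iff_le_and_exists.mp h2
  have htN : (t : G) ∈ Subgroup.normalizer (W : Set G) := by
    rw [Subgroup.mem_normalizer_iff]
    intro u
    by_cases huP : u ∈ P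
    · have h4 := Subgroup.mem_normalizer_iff.mp ht ⟨u, huP⟩
      constructor
      · intro hu
        have h5 : (⟨u, huP⟩ : P) ∈ W.subgroupOf P := hu
        have h6 := h4.mp h5
        exact h6
      · intro hu
        apply h4.mpr
        exact hu
    · constructor
      · intro hu
        exact absurd (hW hu) huP
      · intro hu
        exfalso
        apply huP
        have h7 := hW hu
        have : u = (t : G)⁻¹ * ((t : G) * u * (t : G)⁻¹) * t := by group
        rw [this]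
        exact P.mul_mem (P.mul_mem (P.inv_mem t.2) h7) t.2
  refine SetLike.lt_iff_le_and_exists.mpr ⟨?_, (t : G), Subgroup.mem_inf.mpr ⟨t.2, htN⟩, htW⟩
  intro u hu
  exact Subgroup.mem_inf.mpr ⟨hW hu, Subgroup.le_normalizer hu⟩

theorem card_lt_of_lt' {A B : Subgroup G} (h : A < B) : Nat.card A < Nat.card B :=
  lt_of_le_of_ne (Nat.le_of_dvd Nat.card_pos (Subgroup.card_dvd_of_le h.le))
    (fun e => h.ne (Subgroup.eq_of_le_of_card_ge h.le e.ge))

end local_

section main

variable {G : Type*} [Group G] [Finite G]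

/-- The main theorem of the section, stated with its contrapositive form. -/
theorem early_char_noncyclic [IsSimpleGroup G] (hG : ¬ IsMulCommutative G) (S : Sylow 2 G)
    (A : Subgroup G) (hA : IsSCN (S : Subgroup G) A) (hA3 : ¬ PRankLE 2 2 ↥A)
    (hinv : ∀ X : Subgroup G, Odd (Nat.card ↥X) → (S : Subgroup G) ≤ Subgroup.normalizer (X : Set G) →
      X = ⊥)
    (hcon : ∀ T : Subgroup G, IsPGroup 2 ↥T → T ≠ ⊥ →
      IsPConstrained 2 ↥(Subgroup.normalizer (T : Set G))) :
    ∃ M : Subgroup G, IsMaximalTwoLocal M ∧ ¬ IsCyclic ↥(Subgroup.center ↥(pCore 2 ↥M)) := by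
  classical
  haveI : Fact (Nat.Prime 2) := ⟨Nat.prime_two⟩
  by_contra hno
  push Not at hno
  obtain ⟨hAS, hSA, hAC⟩ := hA
  have hAc : ∀ a ∈ A, ∀ b ∈ A, a * b = b * a := by
    intro a ha b hb
    have h1 : b ∈ (S : Subgroup G) ⊓ Subgroup.centralizer (A : Set G) := by rw [hAC]; exact hb
    exact Subgroup.mem_centralizer_iff.mp h1.2 a ha
  have hinvi : ∀ {x : G}, x * x = 1 → x⁻¹ = x := fun h => inv_eq_of_mul_eq_one_left h
  -- constraint of centralizers
  have hconC : ∀ e : G, e * e = 1 → e ≠ 1 →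
      IsPConstrained 2 ↥(Subgroup.centralizer ({e} : Set G)) := by
    intro e he he1
    have h1 := hcon (Subgroup.zpowers e) (isPGroup_zpowers_invol e he) (zpowers_invol_ne_bot he1)
    rw [normalizer_zpowers_invol e he] at h1
    exact h1
  -- balance
  have hbal : ∀ e y u : G, e * e = 1 → e ≠ 1 → y * y = 1 → e * y = y * e → u ∈ OC y → u * e = e * u →
      u ∈ OC e := fun e y u he he1 hy hey hu hue => OC_balance (hconC e he he1) hy hey hu hue
  have hrank := OC_rank3 S A hAS hSA hAc hA3 hinv hbal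
  -- all cores vanish
  have hOC : ∀ y : G, y * y = 1 → y ≠ 1 → OC y = ⊥ := by
    intro y hy hy1
    have hp : IsPGroup 2 (Subgroup.zpowers y) := isPGroup_zpowers_invol y hy
    obtain ⟨P, hP⟩ := hp.exists_le_sylow
    obtain ⟨g, hg⟩ := MulAction.exists_smul_eq G P S
    have hyP : y ∈ (P : Subgroup G) := hP (Subgroup.mem_zpowers y)
    have hgy : g * y * g⁻¹ ∈ (S : Subgroup G) := by
      rw [← hg, Sylow.coe_subgroup_smul]
      exact ⟨y, hyP, rfl⟩
    have h1 : OC (g * y * g⁻¹) = ⊥ := by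
      apply hrank _ hgy
      · calc g * y * g⁻¹ * (g * y * g⁻¹) = g * (y * y) * g⁻¹ := by group
          _ = 1 := by rw [hy]; group
      · intro h
        apply hy1
        have : y = g⁻¹ * (g * y * g⁻¹) * g := by group
        rw [this, h]; group
    rw [eq_bot_iff]
    intro u hu
    have h2 := OC_conj_elem g hu
    rw [h1, Subgroup.mem_bot] at h2
    rw [Subgroup.mem_bot]
    have : u = g⁻¹ * (g * u * g⁻¹) * g := by group
    rw [this, h2]; group
  -- the set of special involutions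
  let 𝓣 : G → Prop := fun y => y * y = 1 ∧ y ≠ 1 ∧ IsMaximalTwoLocal (Subgroup.centralizer ({y} : Set G))
  have hTloc : ∀ T : Subgroup G, IsPGroup 2 T → T ≠ ⊥ → ∃ y : G, 𝓣 y ∧
      Subgroup.normalizer (T : Set G) ≤ Subgroup.centralizer ({y} : Set G) := by
    intro T hT hT1
    obtain ⟨M, hM, hTM⟩ := exists_max_two_local T hT hT1
    obtain ⟨y, hy, hy1, rfl⟩ := max_local_eq_centralizer M hM (hno M hM)
    exact ⟨y, ⟨hy, hy1, hM⟩, hTM⟩
  have hW : ∀ {y w : G}, 𝓣 y → w * w = 1 → w ≠ 1 → w * y = y * w → (∀ q ∈ FF y, w * q = q * w) → w = y :=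
    fun {y w} hy hw hw1 hwy hwF => eq_of_central_FF hy.1 hy.2.1 (hconC y hy.1 hy.2.1)
      (hOC y hy.1 hy.2.1) (hno _ hy.2.2) hw hw1 hwy hwF
  -- central involutions of Sylow subgroups
  let IsZ : Sylow 2 G → G → Prop := fun P w =>
    w * w = 1 ∧ w ≠ 1 ∧ w ∈ (P : Subgroup G) ∧ ∀ s ∈ (P : Subgroup G), w * s = s * w
  have hSne : ∀ P : Sylow 2 G, (P : Subgroup G) ≠ ⊥ := by
    intro P hP
    obtain ⟨c, hcA, hc2, hc1, -⟩ := exists_avoid_four A hA3 1 1 1 1
    have h1 : Nat.card (P : Subgroup G) = Nat.card (S : Subgroup G) := by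
      rw [Sylow.card_eq_multiplicity, Sylow.card_eq_multiplicity]
    rw [hP, Subgroup.card_bot] at h1
    have h2 : (S : Subgroup G) = ⊥ := Subgroup.card_eq_one.mp h1.symm
    have h3 := hAS hcA
    rw [h2, Subgroup.mem_bot] at h3
    exact hc1 h3
  -- the Sylow subgroup absorbs `F y`
  have hFP : ∀ (P : Sylow 2 G) (y : G), (∀ s ∈ (P : Subgroup G), s * y = y * s) → FF y ≤ P := by
    intro P y hy
    obtain ⟨P', hPP', hFP'⟩ := exists_sylow_above_FF y P P.isPGroup' hy
    have h1 : P = P' := Sylow.ext (P.is_maximal' P'.isPGroup' hPP').symm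
    rw [h1]
    exact hFP'
  -- Fact A
  have hA1 : ∀ P : Sylow 2 G, ∃ y, 𝓣 y ∧ IsZ P y := by
    intro P
    obtain ⟨y, hy, hyN⟩ := hTloc P P.isPGroup' (hSne P)
    have hPy : ∀ s ∈ (P : Subgroup G), s * y = y * s := fun s hs =>
      Subgroup.mem_centralizer_singleton_iff.mp (hyN (Subgroup.le_normalizer hs))
    refine ⟨y, hy, hy.1, hy.2.1, hFP P y hPy (mem_FF_self hy.1), fun s hs => (hPy s hs).symm⟩
  -- uniqueness
  have hUn : ∀ (P : Sylow 2 G) (y w : G), 𝓣 y → IsZ P y → IsZ P w → w = y := by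
    intro P y w hy hyz hwz
    apply hW hy hwz.1 hwz.2.1 (hwz.2.2.2 y hyz.2.2.1)
    intro q hq
    exact hwz.2.2.2 q (hFP P y (fun s hs => (hyz.2.2.2 s hs).symm) hq)
  have hUn' : ∀ (P : Sylow 2 G) (y w : G), IsZ P y → IsZ P w → w = y := by
    intro P y w hyz hwz
    obtain ⟨y₀, hy₀, hy₀z⟩ := hA1 P
    rw [hUn P y₀ y hy₀ hy₀z hyz, hUn P y₀ w hy₀ hy₀z hwz]
  -- Fact B
  have hB : ∀ (y : G) (T : Subgroup G), 𝓣 y → IsPGroup 2 T → (∀ t ∈ T, t * y = y * t) →
      ∃ P : Sylow 2 G, T ≤ P ∧ IsZ P y := by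
    intro y T hy hT hTC
    obtain ⟨P, hTP, hFP'⟩ := exists_sylow_above_FF y T hT hTC
    obtain ⟨y₀, hy₀, hy₀z⟩ := hA1 P
    have h1 : y₀ = y := by
      apply hW hy hy₀.1 hy₀.2.1 (hy₀z.2.2.2 y (hFP' (mem_FF_self hy.1)))
      intro q hq
      exact hy₀z.2.2.2 q (hFP' hq)
    rw [h1] at hy₀z
    exact ⟨P, hTP, hy₀z⟩
  -- Step 5: uniqueness of the central involution
  have hclaim : ∀ n : ℕ, ∀ (P₁ P₂ : Sylow 2 G) (y₁ y₂ : G),
      Nat.card G - Nat.card ((P₁ : Subgroup G) ⊓ (P₂ : Subgroup G) : Subgroup G) = n →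
      ((P₁ : Subgroup G) ⊓ (P₂ : Subgroup G) : Subgroup G) ≠ ⊥ → IsZ P₁ y₁ → IsZ P₂ y₂ → y₁ = y₂ := by
    intro n
    induction n using Nat.strong_induction_on with
    | _ n ih =>
      intro P₁ P₂ y₁ y₂ hn hne hz₁ hz₂
      set W : Subgroup G := (P₁ : Subgroup G) ⊓ (P₂ : Subgroup G) with hWdef
      by_cases h12 : P₁ = P₂
      · subst h12
        exact (hUn' P₁ y₂ y₁ hz₂ hz₁)
      have hWp : IsPGroup 2 W := P₁.isPGroup'.to_le inf_le_left
      obtain ⟨y₀, hy₀, hy₀N⟩ := hTloc W hWp hne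
      -- the side lemma
      have hside : ∀ (P Q : Sylow 2 G) (w : G), W = (P : Subgroup G) ⊓ (Q : Subgroup G) → P ≠ Q →
          IsZ P w → w = y₀ := by
        intro P Q w hW' hPQ hzw
        have hWP : W ≤ P := by rw [hW']; exact inf_le_left
        have hWne : W ≠ P := by
          intro h
          apply hPQ
          have h1 : (P : Subgroup G) ≤ Q := by
            rw [← h, hW']; exact inf_le_right
          exact Sylow.ext (P.is_maximal' Q.isPGroup' h1).symm
        have hgrow := normalizer_grow (P : Subgroup G) W P.isPGroup' hWP hWne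
        set T : Subgroup G := (P : Subgroup G) ⊓ Subgroup.normalizer (W : Set G) with hT
        have hTp : IsPGroup 2 T := P.isPGroup'.to_le inf_le_left
        obtain ⟨P', hTP', hzP'⟩ := hB y₀ T hy₀ hTp (fun t ht =>
          Subgroup.mem_centralizer_singleton_iff.mp (hy₀N ht.2))
        have hle : T ≤ (P : Subgroup G) ⊓ (P' : Subgroup G) := le_inf inf_le_left hTP'
        have hcard : Nat.card W < Nat.card ((P : Subgroup G) ⊓ (P' : Subgroup G) : Subgroup G) :=
          lt_of_lt_of_le (card_lt_of_lt' hgrow) (Nat.le_of_dvd Nat.card_pos (Subgroup.card_dvd_of_le hle))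
        have hleG : Nat.card ((P : Subgroup G) ⊓ (P' : Subgroup G) : Subgroup G) ≤ Nat.card G :=
          Subgroup.card_le_card_group _
        have hne' : ((P : Subgroup G) ⊓ (P' : Subgroup G) : Subgroup G) ≠ ⊥ := by
          intro h
          rw [h, Subgroup.card_bot] at hcard
          have : 0 < Nat.card W := Nat.card_pos
          omega
        exact ih _ (by
          have : Nat.card G - Nat.card ((P : Subgroup G) ⊓ (P' : Subgroup G) : Subgroup G) < n := by
            rw [← hn]; omega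
          exact this) P P' w y₀ rfl hne' hzw hzP'
      rw [hside P₁ P₂ y₁ rfl h12 hz₁, hside P₂ P₁ y₂ (by rw [hWdef, inf_comm]) (Ne.symm h12) hz₂]
  -- the isolated involution
  obtain ⟨z, hz, hzS⟩ := hA1 S
  have hzo : orderOf z = 2 := orderOf_eq_prime (by rw [sq]; exact hz.1) hz.2.1
  have hiso : IsIsolatedInvolution z := by
    refine ⟨hzo, fun g hcomm => ?_⟩
    set z' := g * z * g⁻¹ with hz'
    have hz'2 : z' * z' = 1 := by
      rw [hz']
      calc g * z * g⁻¹ * (g * z * g⁻¹) = g * (z * z) * g⁻¹ := by group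
        _ = 1 := by rw [hz.1]; group
    have hz'1 : z' ≠ 1 := by
      intro h
      apply hz.2.1
      have : z = g⁻¹ * (g * z * g⁻¹) * g := by group
      rw [this, ← hz', h]; group
    have hIsZ' : IsZ (g • S) z' := by
      refine ⟨hz'2, hz'1, ?_, ?_⟩
      · rw [Sylow.coe_subgroup_smul]
        exact ⟨z, hzS.2.2.1, rfl⟩
      · intro s hs
        rw [Sylow.coe_subgroup_smul] at hs
        obtain ⟨s₀, hs₀, rfl⟩ := hs
        show g * z * g⁻¹ * (g * s₀ * g⁻¹) = (g * s₀ * g⁻¹) * (g * z * g⁻¹)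
        have h1 := hzS.2.2.2 s₀ hs₀
        calc g * z * g⁻¹ * (g * s₀ * g⁻¹) = g * (z * s₀) * g⁻¹ := by group
          _ = g * (s₀ * z) * g⁻¹ := by rw [h1]
          _ = _ := by group
    obtain ⟨y', hy', hy'z⟩ := hA1 (g • S)
    have hz'T : 𝓣 z' := by
      rw [hUn (g • S) y' z' hy' hy'z hIsZ']
      exact hy'
    obtain ⟨P₁, hP₁, hz₁⟩ := hB z (Subgroup.zpowers z') hz
      (isPGroup_zpowers_invol z' hz'2) (by
        intro t ht
        obtain ⟨k, rfl⟩ := Subgroup.mem_zpowers_iff.mp ht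
        exact ((Commute.zpow_left (show Commute z' z from hcomm.symm) k)).eq)
    obtain ⟨P₂, hP₂, hz₂⟩ := hB z' (Subgroup.zpowers z) hz'T
      (isPGroup_zpowers_invol z hz.1) (by
        intro t ht
        obtain ⟨k, rfl⟩ := Subgroup.mem_zpowers_iff.mp ht
        exact ((Commute.zpow_left (show Commute z z' from hcomm) k)).eq)
    have hne : ((P₁ : Subgroup G) ⊓ (P₂ : Subgroup G) : Subgroup G) ≠ ⊥ := by
      intro h
      have h1 : z ∈ ((P₁ : Subgroup G) ⊓ (P₂ : Subgroup G) : Subgroup G) :=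
        ⟨hz₁.2.2.1, hP₂ (Subgroup.mem_zpowers z)⟩
      rw [h, Subgroup.mem_bot] at h1
      exact hz.2.1 h1
    exact (hclaim _ P₁ P₂ z z' rfl hne hz₁ hz₂).symm
  -- the Z*-theorem
  have hzstar := zstar_theorem G z hiso
  haveI hOn : (oddCore G).Normal := H05.pp_normal (G := G) 2
  have hObot : oddCore G = ⊥ := by
    refine (IsSimpleGroup.eq_bot_or_eq_top_of_normal _ hOn).resolve_right ?_
    intro h
    have h1 : z ∈ pPrimeCore 2 G := by
      have : z ∈ oddCore G := by rw [h]; trivial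
      exact this
    have h2 := H05.pp_order_coprime 2 h1
    rw [hzo] at h2
    exact absurd h2 (by norm_num)
  have hzcen : ∀ g : G, z * g = g * z := by
    intro g
    have h1 := hzstar g
    rw [hObot, Subgroup.mem_bot] at h1
    have h2 : z * g * z⁻¹ = g := by
      rw [mul_inv_eq_one] at h1
      exact h1
    calc z * g = (z * g * z⁻¹) * z := by group
      _ = g * z := by rw [h2]
  have hcen : z ∈ Subgroup.center G := by
    rw [Subgroup.mem_center_iff]
    intro g
    exact (hzcen g).symm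
  have htop : Subgroup.center G = ⊤ := by
    refine (IsSimpleGroup.eq_bot_or_eq_top_of_normal _ inferInstance).resolve_left ?_
    intro h
    rw [h, Subgroup.mem_bot] at hcen
    exact hz.2.1 hcen
  apply hG
  constructor
  constructor
  intro a b
  have h1 : a ∈ Subgroup.center G := by rw [htop]; trivial
  exact (Subgroup.mem_center_iff.mp h1 b).symm

end main

end Cfsg.Agent.H15
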