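import Mathlib
import Cfsg.Agent.Lib.H15.Cyc2

set_option autoImplicit false

namespace Cfsg.Agent.H15

universe u

theorem card_inf_centralizer_le_two {S : Type*} [Group S] [Finite S] {A : Subgroup S}
    (hA : A.index = 2) {x : S} (hxA : x ∉ A)
    (hC : Nat.card (Subgroup.centralizer ({x} : Set S)) ≤ 4) :
    Nat.card ↥(A ⊓ Subgroup.centralizer ({x} : Set S)) ≤ 2 := by
  classical
  set C := Subgroup.centralizer ({x} : Set S) with hCdef
  have hAn : A.Normal := Subgroup.normal_of_index_eq_two hA
  have h1 : A.relIndex C ∣ A.index := Subgroup.relIndex_dvd_index_of_normal A C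
  have hxC : x ∈ C := by
    rw [hCdef, Subgroup.mem_centralizer_singleton_iff]
  have h2 : A.relIndex C ≠ 1 := by
    intro h
    rw [Subgroup.relIndex_eq_one] at h
    exact hxA (h hxC)
  have h3 : A.relIndex C = 2 := by
    rw [hA] at h1
    rcases (Nat.dvd_prime Nat.prime_two).mp h1 with h4 | h4
    · exact absurd h4 h2
    · exact h4
  have h4 : Nat.card (A.subgroupOf C) * (A.subgroupOf C).index = Nat.card C :=
    Subgroup.card_mul_index _
  have h5 : (A.subgroupOf C).index = 2 := h3
  have h6 : Nat.card ↥(A ⊓ C) = Nat.card (A.subgroupOf C) := by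
    rw [← Subgroup.inf_subgroupOf_right]
    exact Nat.card_congr (Subgroup.subgroupOfEquivOfLe (inf_le_right : A ⊓ C ≤ C)).symm.toEquiv
  rw [h6]
  rw [h5] at h4
  omega

private theorem card8_case {S : Type*} [Group S] [Finite S] (hcard : Nat.card S = 8)
    (hS : IsPGroup 2 S) (x : S) (hx : orderOf x = 2)
    (hC : Nat.card (Subgroup.centralizer ({x} : Set S)) ≤ 4) :
    ∃ A : Subgroup S, IsCyclic A ∧ A.index = 2 ∧ x ∉ A := by
  classical
  have hnc : ¬ ∀ g : S, g * x = x * g := by
    intro h
    have : Subgroup.centralizer ({x} : Set S) = ⊤ := by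
      rw [eq_top_iff]
      intro g _
      rw [Subgroup.mem_centralizer_singleton_iff]
      exact h g
    rw [this, Subgroup.card_top, hcard] at hC
    omega
  have hexa : ∃ a : S, a ^ 2 ≠ 1 := by
    by_contra hall
    push Not at hall
    apply hnc
    intro g
    have h1 := hall (g * x)
    have h2 := hall g
    have h3 := hall x
    rw [pow_two] at h1 h2 h3
    have hgi : g⁻¹ = g := inv_eq_of_mul_eq_one_left h2
    have hxi : x⁻¹ = x := inv_eq_of_mul_eq_one_left h3
    have := eq_inv_of_mul_eq_one_left h1
    rw [mul_inv_rev, hgi, hxi] at this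
    exact this
  obtain ⟨a, ha⟩ := hexa
  obtain ⟨k, hk⟩ := IsPGroup.iff_orderOf.mp hS a
  have hdvd : 2 ^ k ∣ 2 ^ 3 := by
    rw [← hk, show (2 : ℕ) ^ 3 = 8 from rfl, ← hcard]
    exact orderOf_dvd_natCard a
  have hk3 : k ≤ 3 := (Nat.pow_dvd_pow_iff_le_right (by norm_num)).mp hdvd
  have hk2 : 2 ≤ k := by
    by_contra hlt
    have : k = 0 ∨ k = 1 := by omega
    apply ha
    have h1 : a ^ 2 ^ k = 1 := by rw [← hk]; exact pow_orderOf_eq_one a
    rcases this with rfl | rfl
    · have h2 : a = 1 := by simpa using h1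
      rw [h2, one_pow]
    · simpa using h1
  have hk4 : k = 2 := by
    by_contra hne
    have hk3' : k = 3 := by omega
    apply hnc
    have hcyc : IsCyclic S := isCyclic_of_orderOf_eq_card a (by rw [hk, hk3', hcard]; rfl)
    intro g
    let _ := hcyc.commGroup
    exact mul_comm g x
  subst hk4
  have hA4 : Nat.card (Subgroup.zpowers a) = 4 := by rw [Nat.card_zpowers, hk]; rfl
  refine ⟨Subgroup.zpowers a, inferInstance, ?_, ?_⟩
  · have h1 := Subgroup.card_mul_index (Subgroup.zpowers a)
    rw [hA4, hcard] at h1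
    omega
  · intro hxA
    have hAC : Subgroup.zpowers a ≤ Subgroup.centralizer ({x} : Set S) := by
      intro y hy
      rw [Subgroup.mem_centralizer_singleton_iff]
      obtain ⟨m, rfl⟩ := Subgroup.mem_zpowers_iff.mp hy
      obtain ⟨n, rfl⟩ := Subgroup.mem_zpowers_iff.mp hxA
      exact (Commute.zpow_zpow (Commute.refl a) m n).eq
    have hEq : Subgroup.zpowers a = Subgroup.centralizer ({x} : Set S) :=
      Subgroup.eq_of_le_of_card_ge hAC (by rw [hA4]; exact hC)
    have hidx : (Subgroup.zpowers a).index = 2 := by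
      have h1 := Subgroup.card_mul_index (Subgroup.zpowers a)
      rw [hA4, hcard] at h1
      omega
    have hn : (Subgroup.zpowers a).Normal := Subgroup.normal_of_index_eq_two hidx
    apply hnc
    intro g
    have h1 : g * x * g⁻¹ ∈ Subgroup.zpowers a := hn.conj_mem x hxA g
    have h2 : orderOf (g * x * g⁻¹) = 2 := by
      rw [orderOf_conj_eq]
      exact hx
    have h3 := unique_involution_of_zpowers h1 hxA h2 hx
    rw [mul_inv_eq_iff_eq_mul] at h3
    exact h3

/-- A finite `2`-group of order at least `8` having an involution with centralizer of order at most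
four has a cyclic subgroup of index two not containing that involution. -/
theorem exists_cyclic_index_two (n : ℕ) : ∀ (S : Type u) [Group S] [Finite S], Nat.card S = n →
    IsPGroup 2 S → ∀ x : S, orderOf x = 2 →
    Nat.card (Subgroup.centralizer ({x} : Set S)) ≤ 4 → 8 ≤ n →
    ∃ A : Subgroup S, IsCyclic A ∧ A.index = 2 ∧ x ∉ A := by
  induction n using Nat.strong_induction_on with
  | _ n ih =>
    intro S _ _ hn hS x hx hC h8
    classical
    obtain ⟨e, he⟩ := IsPGroup.iff_card.mp hS
    by_cases hn8 : n = 8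
    · exact card8_case (hn.trans hn8) hS x hx hC
    have h16 : 16 ≤ n := by
      have he4 : 4 ≤ e := by
        by_contra hlt
        have : e ≤ 3 := by omega
        have h2 : 2 ^ e ≤ 2 ^ 3 := Nat.pow_le_pow_right (by norm_num) this
        have h3 : n ≤ 8 := by rw [← hn, he]; exact h2
        omega
      have h2 : 2 ^ 4 ≤ 2 ^ e := Nat.pow_le_pow_right (by norm_num) he4
      rw [← hn, he]
      exact h2
    have hxx : x * x = 1 := by rw [← pow_two, ← hx]; exact pow_orderOf_eq_one x
    have hxi : x⁻¹ = x := inv_eq_of_mul_eq_one_left hxx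
    have hxne : x ≠ 1 := by
      rintro rfl
      rw [orderOf_one] at hx
      omega
    have hNt : Nontrivial S := by
      rw [← Finite.one_lt_card_iff_nontrivial, hn]; omega
    -- central involution
    have hnc : ¬ ∀ g : S, g * x = x * g := by
      intro h
      have : Subgroup.centralizer ({x} : Set S) = ⊤ := by
        rw [eq_top_iff]
        intro g _
        rw [Subgroup.mem_centralizer_singleton_iff]
        exact h g
      rw [this, Subgroup.card_top, hn] at hC
      omega
    have hcnt := hS.center_nontrivial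
    have hZ2 : 2 ∣ Nat.card (Subgroup.center S) := by
      obtain ⟨k, hk⟩ := IsPGroup.iff_card.mp (hS.to_subgroup (Subgroup.center S))
      rw [hk]
      have hk0 : k ≠ 0 := by
        rintro rfl
        have h1 : Nat.card (Subgroup.center S) = 1 := by simpa using hk
        have := Finite.one_lt_card (α := Subgroup.center S)
        omega
      exact dvd_pow_self 2 hk0
    have : Fact (Nat.Prime 2) := ⟨Nat.prime_two⟩
    obtain ⟨⟨z, hzZ⟩, hzo⟩ := exists_prime_orderOf_dvd_card' 2 hZ2
    have hz2 : orderOf z = 2 := by rw [Subgroup.orderOf_mk] at hzo; exact hzo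
    have hzc : ∀ g : S, g * z = z * g := fun g => (Subgroup.mem_center_iff.mp hzZ) g
    have hzz : z * z = 1 := by rw [← pow_two, ← hz2]; exact pow_orderOf_eq_one z
    have hzne : z ≠ 1 := by
      rintro rfl
      rw [orderOf_one] at hz2
      omega
    have hzi : z⁻¹ = z := inv_eq_of_mul_eq_one_left hzz
    have hzx : z ≠ x := by
      rintro rfl
      exact hnc hzc
    set Q := Subgroup.zpowers z with hQdef
    have hQc : Nat.card Q = 2 := by rw [Nat.card_zpowers]; exact hz2
    have memQ : ∀ y ∈ Q, y = 1 ∨ y = z := by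
      intro y hy
      by_cases h1 : y = 1
      · exact Or.inl h1
      · right
        obtain ⟨k, rfl⟩ := Subgroup.mem_zpowers_iff.mp hy
        have h2 : z ^ 2 = 1 := by rw [pow_two]; exact hzz
        rcases Int.even_or_odd' k with ⟨m, rfl | rfl⟩
        · exfalso
          apply h1
          rw [zpow_mul, zpow_two, hzz, one_zpow]
        · rw [zpow_add, zpow_mul, zpow_two, hzz, one_zpow, one_mul, zpow_one]
    have hQcent : ∀ q ∈ Q, ∀ g : S, g * q = q * g := by
      intro q hq g
      rcases memQ q hq with rfl | rfl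
      · simp
      · exact hzc g
    have hQn : Q.Normal := by
      constructor
      intro q hq g
      rw [hQcent q hq g, mul_inv_cancel_right]
      exact hq
    have hxQ : x ∉ Q := by
      intro h
      rcases memQ x h with h1 | h1
      · exact hxne h1
      · exact hzx h1.symm
    let π : S →* S ⧸ Q := QuotientGroup.mk' Q
    have hπ : Function.Surjective π := QuotientGroup.mk'_surjective Q
    have hπk : ∀ y, π y = 1 ↔ y ∈ Q := fun y => QuotientGroup.eq_one_iff y
    have hcardS : n = Nat.card (S ⧸ Q) * 2 := by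
      rw [← hn, ← hQc]
      exact Subgroup.card_eq_card_quotient_mul_card_subgroup Q
    have hxb : orderOf (π x) = 2 := by
      apply orderOf_eq_prime
      · rw [← map_pow, pow_two, hxx, map_one]
      · intro h
        exact hxQ ((hπk x).mp h)
    have hSb : IsPGroup 2 (S ⧸ Q) := hS.to_quotient Q
    -- the centralizer in the quotient
    set Cb := Subgroup.centralizer ({π x} : Set (S ⧸ Q)) with hCb
    set D := Cb.comap π with hD
    have hDmem : ∀ y ∈ D, y * x * y⁻¹ * x⁻¹ ∈ Q := by
      intro y hy
      rw [← hπk]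
      have h1 : π y * π x = π x * π y := by
        have : π y ∈ Cb := hy
        exact Subgroup.mem_centralizer_singleton_iff.mp this
      simp only [map_mul, map_inv]
      rw [h1]
      group
    let θf : D → Q := fun y => ⟨(y : S) * x * (y : S)⁻¹ * x⁻¹, hDmem y y.2⟩
    have hθ : ∀ a b : D, θf (a * b) = θf a * θf b := by
      intro a b
      apply Subtype.ext
      show (a * b : S) * x * (a * b : S)⁻¹ * x⁻¹ =
        ((a : S) * x * (a : S)⁻¹ * x⁻¹) * ((b : S) * x * (b : S)⁻¹ * x⁻¹)
      have h1 := hQcent _ (hDmem b b.2) (a : S)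
      calc (a * b : S) * x * (a * b : S)⁻¹ * x⁻¹
          = (a : S) * ((b : S) * x * (b : S)⁻¹ * x⁻¹) * (x * (a : S)⁻¹ * x⁻¹) := by group
        _ = ((b : S) * x * (b : S)⁻¹ * x⁻¹) * (a : S) * (x * (a : S)⁻¹ * x⁻¹) := by rw [h1]
        _ = ((b : S) * x * (b : S)⁻¹ * x⁻¹) * ((a : S) * x * (a : S)⁻¹ * x⁻¹) := by group
        _ = _ := (hQcent _ (hDmem b b.2) _).symm
    let θ : D →* Q := MonoidHom.mk' θf hθ
    have hDcard : Nat.card D ≤ 8 := by
      have h1 := Subgroup.card_mul_index θ.ker
      rw [Subgroup.index_ker] at h1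
      have h2 : Nat.card θ.range ≤ 2 := by
        rw [← hQc]
        exact Subgroup.card_le_card_group _
      have h3 : Nat.card θ.ker ≤ 4 := by
        refine le_trans ?_ hC
        let ι : θ.ker → Subgroup.centralizer ({x} : Set S) := fun y =>
          ⟨((y : D) : S), by
            rw [Subgroup.mem_centralizer_singleton_iff]
            have h4 : θf (y : D) = 1 := y.2
            have h5 : ((y : D) : S) * x * ((y : D) : S)⁻¹ * x⁻¹ = 1 :=
              congrArg Subtype.val h4
            rw [mul_inv_eq_one, mul_inv_eq_iff_eq_mul] at h5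
            exact h5⟩
        apply Nat.card_le_card_of_injective ι
        intro a b hab
        have : ((a : D) : S) = ((b : D) : S) :=
          congrArg (fun w : ↥(Subgroup.centralizer ({x} : Set S)) => (w : S)) hab
        exact Subtype.ext (Subtype.ext this)
      rw [← h1]
      exact Nat.mul_le_mul h3 h2
    have hCbcard : Nat.card Cb ≤ 4 := by
      have h1 := Subgroup.card_mul_index D
      have h2 := Subgroup.card_mul_index Cb
      have h3 : D.index = Cb.index := Subgroup.index_comap_of_surjective Cb hπ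
      rw [h3, hn, hcardS] at h1
      rw [← h2] at h1
      have hi : 0 < Cb.index := Nat.pos_of_ne_zero (Subgroup.index_ne_zero_of_finite)
      have h4 : Nat.card Cb * 2 = Nat.card D := by
        have : (Nat.card Cb * 2) * Cb.index = Nat.card D * Cb.index := by rw [h1]; ring
        exact Nat.eq_of_mul_eq_mul_right hi this
      omega
    have hcardb : Nat.card (S ⧸ Q) < n := by omega
    have h8b : 8 ≤ Nat.card (S ⧸ Q) := by omega
    obtain ⟨Ab, hAbc, hAbi, hxAb⟩ := ih _ hcardb (S ⧸ Q) rfl hSb (π x) hxb hCbcard h8b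
    set A := Ab.comap π with hA
    have hAi : A.index = 2 := by rw [hA, Subgroup.index_comap_of_surjective Ab hπ, hAbi]
    have hxA : x ∉ A := hxAb
    have hAn : A.Normal := Subgroup.normal_of_index_eq_two hAi
    have hQA : Q ≤ A := by
      intro q hq
      show π q ∈ Ab
      rw [(hπk q).mpr hq]
      exact Ab.one_mem
    obtain ⟨⟨b, hb⟩, hbgen⟩ := IsCyclic.exists_generator (α := Ab)
    obtain ⟨c, rfl⟩ := hπ b
    have hcA : c ∈ A := hb
    have hrep : ∀ u ∈ A, ∃ k : ℤ, ∃ q ∈ Q, u = c ^ k * q := by
      intro u hu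
      obtain ⟨k, hk⟩ := Subgroup.mem_zpowers_iff.mp (hbgen ⟨π u, hu⟩)
      refine ⟨k, (c ^ k)⁻¹ * u, ?_, by group⟩
      rw [← hπk]
      have h1 : (π c) ^ k = π u := congrArg Subtype.val hk
      rw [map_mul, map_inv, map_zpow, h1, inv_mul_cancel]
    have hAab : ∀ u ∈ A, ∀ v ∈ A, u * v = v * u := by
      intro u hu v hv
      obtain ⟨k, q, hq, rfl⟩ := hrep u hu
      obtain ⟨l, r, hr, rfl⟩ := hrep v hv
      have h1 : Commute (c ^ k) (c ^ l) := Commute.zpow_zpow (Commute.refl c) k l
      have h2 := hQcent q hq (c ^ l)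
      have h3 := hQcent r hr (c ^ k)
      have h4 := hQcent r hr q
      calc c ^ k * q * (c ^ l * r) = c ^ k * (q * c ^ l) * r := by group
        _ = c ^ k * (c ^ l * q) * r := by rw [h2]
        _ = (c ^ k * c ^ l) * (q * r) := by group
        _ = (c ^ l * c ^ k) * (r * q) := by rw [h1.eq, h4]
        _ = c ^ l * (c ^ k * r) * q := by group
        _ = c ^ l * (r * c ^ k) * q := by rw [h3]
        _ = c ^ l * r * (c ^ k * q) := by group
    -- centralizer in `A`
    have hinf := card_inf_centralizer_le_two hAi hxA hC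
    have hzAC : Q ≤ A ⊓ Subgroup.centralizer ({x} : Set S) := by
      refine le_inf hQA ?_
      intro q hq
      rw [Subgroup.mem_centralizer_singleton_iff]
      exact (hQcent q hq x).symm
    have hACQ : Q = A ⊓ Subgroup.centralizer ({x} : Set S) :=
      Subgroup.eq_of_le_of_card_ge hzAC (by rw [hQc]; exact hinf)
    have memAC : ∀ y ∈ A, y * x = x * y → y = 1 ∨ y = z := by
      intro y hy hyx
      apply memQ
      rw [hACQ]
      exact ⟨hy, Subgroup.mem_centralizer_singleton_iff.mpr hyx⟩
    -- order of `c`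
    obtain ⟨j, hj⟩ := IsPGroup.iff_orderOf.mp hS c
    have hAcard : Nat.card A = Nat.card (S ⧸ Q) := by
      have h1 := Subgroup.card_mul_index A
      rw [hAi, hn] at h1
      omega
    have hAle : Nat.card A ≤ orderOf c * 2 := by
      let ψ : Subgroup.zpowers c × Q → A := fun q => ⟨(q.1 : S) * q.2, A.mul_mem
        ((Subgroup.zpowers_le.mpr hcA) q.1.2) (hQA q.2.2)⟩
      have hψ : Function.Surjective ψ := by
        rintro ⟨u, hu⟩
        obtain ⟨k, q, hq, rfl⟩ := hrep u hu
        exact ⟨(⟨c ^ k, Subgroup.zpow_mem_zpowers c k⟩, ⟨q, hq⟩), rfl⟩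
      have h1 := Nat.card_le_card_of_surjective ψ hψ
      rwa [Nat.card_prod, Nat.card_zpowers, hQc] at h1
    have hj2 : 2 ≤ j := by
      by_contra hlt
      have h1 : j ≤ 1 := by omega
      have h2 : 2 ^ j ≤ 2 ^ 1 := Nat.pow_le_pow_right (by norm_num) h1
      have h3 : orderOf c ≤ 2 := by rw [hj]; exact h2
      omega
    -- the main computation
    set c' := x * c * x⁻¹ with hc'
    have hc'A : c' ∈ A := hAn.conj_mem c hcA x
    have hcc' : (c' * c) * x = x * (c' * c) := by
      have h2 : x * (c' * c) * x⁻¹ = c * c' := by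
        rw [hc', hxi]
        calc x * (x * c * x * c) * x = (x * x) * c * (x * c * x) := by group
          _ = c * (x * c * x) := by rw [hxx, one_mul]
      have h3 : x * (c' * c) * x⁻¹ = c' * c := by
        rw [h2]; exact (hAab c' hc'A c hcA).symm
      rw [mul_inv_eq_iff_eq_mul] at h3
      exact h3.symm
    set ε := c' * c with hε
    have hεm := memAC ε (A.mul_mem hc'A hcA) hcc'
    have hεQ : ε ∈ Q := by
      rcases hεm with h | h
      · rw [h]; exact Q.one_mem
      · rw [h]; exact Subgroup.mem_zpowers z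
    have hεε : ε ^ 2 = 1 := by
      rcases hεm with h | h
      · rw [h]; simp
      · rw [h, pow_two]; exact hzz
    have hc'e : c' = ε * c⁻¹ := by rw [hε]; group
    set J := 2 ^ (j - 1) with hJ
    have hJ2 : J * 2 = orderOf c := by
      rw [hj, hJ, ← pow_succ]
      congr 1
      omega
    have hJe : ∃ i, J = 2 * i := by
      refine ⟨2 ^ (j - 2), ?_⟩
      rw [hJ, ← pow_succ']
      congr 1
      omega
    set w := c ^ J with hw
    have hww : w ^ 2 = 1 := by
      rw [hw, ← pow_mul, hJ2]; exact pow_orderOf_eq_one c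
    have hwi : w⁻¹ = w := by
      rw [inv_eq_iff_mul_eq_one, ← pow_two]; exact hww
    have hxw : x * w * x⁻¹ = w := by
      have h1 : x * w * x⁻¹ = c' ^ J := by rw [hw, conj_pow]
      have hcomm : Commute ε c⁻¹ := hQcent ε hεQ c⁻¹ |>.symm
      rw [h1, hc'e, hcomm.mul_pow]
      obtain ⟨i, hi⟩ := hJe
      have h2 : ε ^ J = 1 := by rw [hi, pow_mul, hεε, one_pow]
      rw [h2, one_mul, inv_pow, ← hw, hwi]
    have hwc : w * x = x * w := by
      rw [mul_inv_eq_iff_eq_mul] at hxw
      exact hxw.symm
    have hwne : w ≠ 1 := by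
      apply pow_ne_one_of_lt_orderOf
      · rw [hJ]; positivity
      · have : 0 < J := by rw [hJ]; positivity
        omega
    have hwz : w = z := by
      rcases memAC w (A.pow_mem hcA J) hwc with h | h
      · exact absurd h hwne
      · exact h
    have hle : A ≤ Subgroup.zpowers c := by
      intro u hu
      obtain ⟨k, q, hq, rfl⟩ := hrep u hu
      refine Subgroup.mul_mem _ (Subgroup.zpow_mem_zpowers c k) ?_
      rcases memQ q hq with rfl | rfl
      · exact Subgroup.one_mem _
      · rw [← hwz, hw]
        exact Subgroup.pow_mem _ (Subgroup.mem_zpowers c) _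
    exact ⟨A, isCyclic_of_injective (Subgroup.inclusion hle) (Subgroup.inclusion_injective _), hAi,
      hxA⟩

end Cfsg.Agent.H15
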