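import Mathlib
import Cfsg.Agent.Lib.H15.EarlyChar2
import Cfsg.Agent.Lib.H15.EarlyChar4
import Cfsg.Agent.Lib.H15.EarlyChar5
import Cfsg.Agent.Lib.H15.MaxClass
import Cfsg.Agent.Lib.H15.Cyc2
import Cfsg.Agent.Lib.H08.Thom.Sign
import Cfsg.Prelude.Def_Transfer

/-!
Finite groups with an involution whose centralizer is a Klein four group: the part with a Sylow
2-subgroup of order at least 8.
-/

set_option autoImplicit false

namespace Cfsg.Agent.H15.ChzFour

universe u

variable {G : Type u} [Group G] [Finite G]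

/-- Any element of a set of size four listed by four distinct elements is one of them. -/
theorem mem_four_of_card (V : Subgroup G) (hV : Nat.card V = 4) (a b c d e : G)
    (ha : a ∈ V) (hb : b ∈ V) (hc : c ∈ V) (hd : d ∈ V) (he : e ∈ V)
    (hab : a ≠ b) (hac : a ≠ c) (had : a ≠ d) (hbc : b ≠ c) (hbd : b ≠ d) (hcd : c ≠ d) :
    e = a ∨ e = b ∨ e = c ∨ e = d := by
  classical
  by_contra hcon
  push_neg at hcon
  obtain ⟨h1, h2, h3, h4⟩ := hcon
  have hfin : (V : Set G).Finite := Set.toFinite _
  have hsub : (({e, a, b, c, d} : Finset G) : Set G) ⊆ (V : Set G) := by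
    intro y hy
    simp only [Finset.coe_insert, Finset.coe_singleton, Set.mem_insert_iff,
      Set.mem_singleton_iff] at hy
    rcases hy with rfl | rfl | rfl | rfl | rfl <;> assumption
  have hcard : ({e, a, b, c, d} : Finset G).card = 5 := by
    rw [Finset.card_insert_of_notMem, Finset.card_insert_of_notMem, Finset.card_insert_of_notMem,
      Finset.card_insert_of_notMem, Finset.card_singleton]
    · simpa using hcd
    · simp [hbc, hbd]
    · simp [hab, hac, had]
    · simp [h1, h2, h3, h4]
  have hle := Set.ncard_le_ncard hsub hfin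
  rw [Set.ncard_coe_finset, hcard] at hle
  have : (V : Set G).ncard = 4 := by
    rw [← Nat.card_coe_set_eq]; exact hV
  omega

/-- The key observation: an involution in the kernel of the sign commutes with `z`. -/
theorem comm_of_ker (x y z : G) (V : Subgroup G) (hV4 : Nat.card V = 4)
    (hVc : V = Subgroup.centralizer ({x} : Set G)) (hVy : V = Subgroup.centralizer ({y} : Set G))
    (hVe : ∀ c ∈ V, c ^ 2 = 1) (hxV : x ∈ V) (hyV : y ∈ V) (hzdef : z = x * y)
    (hx1 : x ≠ 1) (hy1 : y ≠ 1) (hxy : x ≠ y) (φ : G →* ℤˣ) (hφx : φ x = -1)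
    (w : G) (hw : w ^ 2 = 1) (hφw : φ w = 1) : w * z = z * w := by
  have hcomm : ∀ a ∈ V, ∀ b ∈ V, a * b = b * a := by
    intro a ha b hb
    have h1 := hVe a ha
    have h2 := hVe b hb
    have h3 := hVe (a * b) (V.mul_mem ha hb)
    have ha' : a⁻¹ = a := by rw [inv_eq_iff_mul_eq_one, ← pow_two, h1]
    have hb' : b⁻¹ = b := by rw [inv_eq_iff_mul_eq_one, ← pow_two, h2]
    have : (a * b)⁻¹ = a * b := by rw [inv_eq_iff_mul_eq_one, ← pow_two, h3]
    rw [mul_inv_rev, ha', hb'] at this
    exact this.symm
  have hzV : z ∈ V := hzdef ▸ V.mul_mem hxV hyV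
  have hxx : x * x = 1 := by rw [← pow_two]; exact hVe x hxV
  have hww : w * w = 1 := by rw [← pow_two]; exact hw
  have hwi : w⁻¹ = w := inv_eq_of_mul_eq_one_left hww
  have hxi : x⁻¹ = x := inv_eq_of_mul_eq_one_left hxx
  set d := w * x with hd
  have hφd : φ d = -1 := by rw [hd, map_mul, hφw, hφx, one_mul]
  have hdo : d ^ orderOf d = 1 := pow_orderOf_eq_one d
  have hev : Even (orderOf d) := by
    by_contra hodd
    rw [Nat.not_even_iff_odd] at hodd
    have := congrArg φ hdo
    rw [map_pow, hφd, hodd.neg_one_pow, map_one] at this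
    exact absurd this (by decide)
  obtain ⟨m, hm⟩ := hev
  have hpos : 0 < orderOf d := orderOf_pos d
  set c := d ^ m with hc
  have hc1 : c ≠ 1 := by
    intro h
    have := orderOf_le_of_pow_eq_one (by omega) h
    omega
  have hc2 : c * c = 1 := by
    rw [hc, ← pow_add, ← hm, hdo]
  have hci : c⁻¹ = c := inv_eq_of_mul_eq_one_left hc2
  have hinvx : x * d * x⁻¹ = d⁻¹ := by
    rw [hd, mul_inv_rev, hwi, hxi]
    simp only [mul_assoc, hxx, mul_one]
  have hinvw : w * d * w⁻¹ = d⁻¹ := by
    rw [hd, mul_inv_rev, hwi, hxi]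
    simp only [← mul_assoc, hww, one_mul]
  have hcx : x * c * x⁻¹ = c := by
    rw [hc, ← conj_pow, hinvx, inv_pow, ← hc, hci]
  have hcw : w * c * w⁻¹ = c := by
    rw [hc, ← conj_pow, hinvw, inv_pow, ← hc, hci]
  have hcV : c ∈ V := by
    rw [hVc, Subgroup.mem_centralizer_singleton_iff]
    have := hcx
    rw [mul_inv_eq_iff_eq_mul] at this
    exact this.symm
  have hwc : w * c = c * w := by
    have := hcw
    rw [mul_inv_eq_iff_eq_mul] at this
    exact this
  have hz1 : z ≠ 1 := by
    rw [hzdef]
    intro h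
    apply hxy
    have : x⁻¹ = y := inv_eq_of_mul_eq_one_right h
    rw [← this, hxi]
  have hzx : z ≠ x := by
    rw [hzdef]
    intro h
    apply hy1
    exact mul_left_cancel (a := x) (by rw [h, mul_one])
  have hzy : z ≠ y := by
    rw [hzdef]
    intro h
    apply hx1
    exact mul_right_cancel (b := y) (by rw [h, one_mul])
  rcases mem_four_of_card V hV4 1 x y z c V.one_mem hxV hyV hzV hcV hx1.symm hy1.symm hz1.symm
    hxy hzx.symm hzy.symm with h | h | h | h
  · exact absurd h hc1
  · have hwV : w ∈ V := by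
      rw [hVc, Subgroup.mem_centralizer_singleton_iff]
      rw [h] at hwc
      exact hwc
    exact hcomm w hwV z hzV
  · have hwV : w ∈ V := by
      rw [hVy, Subgroup.mem_centralizer_singleton_iff]
      rw [h] at hwc
      exact hwc
    exact hcomm w hwV z hzV
  · rw [h] at hwc
    exact hwc

/-- Part 1: if the involution `x` lies outside the kernel of a sign and is conjugate to another
element of its Klein four centralizer, then there is a normal elementary abelian subgroup of
order 2 or 4. -/
theorem exists_normal_small (x : G) (V : Subgroup G) (hV4 : Nat.card V = 4)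
    (hVc : V = Subgroup.centralizer ({x} : Set G)) (hVe : ∀ c ∈ V, c ^ 2 = 1)
    (hx1 : x ≠ 1) (b : G) (hbn : b ∈ Subgroup.normalizer (V : Set G)) (hbV : b ∉ V)
    (φ : G →* ℤˣ) (hφx : φ x = -1) :
    ∃ E : Subgroup G, E.Normal ∧ Cfsg.IsElementaryAbelian 2 E ∧
      (Nat.card E = 2 ∨ Nat.card E = 4) := by
  classical
  have hxV : x ∈ V := by
    rw [hVc, Subgroup.mem_centralizer_singleton_iff]
  set y := b * x * b⁻¹ with hy
  have hyV : y ∈ V := (Subgroup.mem_normalizer_iff.mp hbn x).mp hxV
  have hy1 : y ≠ 1 := by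
    rw [hy]; intro h
    apply hx1
    have := congrArg (fun t => b⁻¹ * t * b) h
    simpa [mul_assoc] using this
  have hxy : x ≠ y := by
    intro h
    apply hbV
    rw [hVc, Subgroup.mem_centralizer_singleton_iff]
    have : x * b⁻¹⁻¹ = b * x := by
      rw [inv_inv]
      have h2 := h
      rw [hy] at h2
      have h3 : x * b = b * x * b⁻¹ * b := by rw [← h2]
      rw [h3]; group
    rw [inv_inv] at this
    exact this.symm
  have hVy : V = Subgroup.centralizer ({y} : Set G) := by
    ext g
    rw [Subgroup.mem_centralizer_singleton_iff]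
    constructor
    · intro hg
      have h1 := hVe g hg
      have h2 := hVe y hyV
      have h3 := hVe (g * y) (V.mul_mem hg hyV)
      have ha' : g⁻¹ = g := by rw [inv_eq_iff_mul_eq_one, ← pow_two, h1]
      have hb' : y⁻¹ = y := by rw [inv_eq_iff_mul_eq_one, ← pow_two, h2]
      have : (g * y)⁻¹ = g * y := by rw [inv_eq_iff_mul_eq_one, ← pow_two, h3]
      rw [mul_inv_rev, ha', hb'] at this
      exact this.symm
    · intro hg
      have h1 : b⁻¹ * g * b ∈ V := by
        rw [hVc, Subgroup.mem_centralizer_singleton_iff]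
        have h2 : g * (b * x * b⁻¹) = (b * x * b⁻¹) * g := by
          rw [← hy]; exact hg
        have h3 : b⁻¹ * g * b * x = b⁻¹ * (g * (b * x * b⁻¹)) * b := by group
        have h4 : x * (b⁻¹ * g * b) = b⁻¹ * ((b * x * b⁻¹) * g) * b := by group
        rw [h4, ← h2, ← h3]
      have h2 := (Subgroup.mem_normalizer_iff.mp hbn (b⁻¹ * g * b)).mp h1
      have h3 : b * (b⁻¹ * g * b) * b⁻¹ = g := by group
      rwa [h3] at h2
  set z := x * y with hz
  have hφy : φ y = -1 := by
    rw [hy, map_mul, map_mul, map_inv, hφx, mul_comm (φ b), mul_assoc, mul_inv_cancel, mul_one]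
  have hφz : φ z = 1 := by
    rw [hz, map_mul, hφx, hφy]; decide
  have hzV : z ∈ V := V.mul_mem hxV hyV
  have hz2 : z ^ 2 = 1 := hVe z hzV
  have hz1 : z ≠ 1 := by
    rw [hz]
    intro h
    apply hxy
    have hxx : x * x = 1 := by rw [← pow_two]; exact hVe x hxV
    have hxi : x⁻¹ = x := inv_eq_of_mul_eq_one_left hxx
    have : x⁻¹ = y := inv_eq_of_mul_eq_one_right h
    rw [← this, hxi]
  have key := comm_of_ker x y z V hV4 hVc hVy hVe hxV hyV hz hx1 hy1 hxy φ hφx
  set E := Subgroup.normalClosure ({z} : Set G) with hE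
  have hgen : ∀ g ∈ Group.conjugatesOfSet ({z} : Set G), ∃ h : G, g = h * z * h⁻¹ := by
    intro g hg
    rw [Group.mem_conjugatesOfSet_iff] at hg
    obtain ⟨a, ha, hconj⟩ := hg
    rw [Set.mem_singleton_iff] at ha
    subst ha
    obtain ⟨c, hc⟩ := isConj_iff.mp hconj
    exact ⟨c, hc.symm⟩
  have hgencomm : ∀ a ∈ Group.conjugatesOfSet ({z} : Set G), ∀ b' ∈ Group.conjugatesOfSet ({z} : Set G),
      a * b' = b' * a := by
    intro a ha c hc
    obtain ⟨g, rfl⟩ := hgen a ha
    obtain ⟨h, rfl⟩ := hgen c hc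
    have h1 : (h⁻¹ * g * z * g⁻¹ * h) ^ 2 = 1 := by
      have : h⁻¹ * g * z * g⁻¹ * h = (h⁻¹ * g) * z * (h⁻¹ * g)⁻¹ := by group
      rw [this, conj_pow, hz2]; group
    have h2 : φ (h⁻¹ * g * z * g⁻¹ * h) = 1 := by
      have h21 : h⁻¹ * g * z * g⁻¹ * h = (h⁻¹ * g) * z * (h⁻¹ * g)⁻¹ := by group
      rw [h21, map_mul, map_mul, map_inv, hφz, mul_one, mul_inv_cancel]
    have h3 := key _ h1 h2
    have h4 : g * z * g⁻¹ * (h * z * h⁻¹) = h * ((h⁻¹ * g * z * g⁻¹ * h) * z) * h⁻¹ := by group
    have h5 : h * z * h⁻¹ * (g * z * g⁻¹) = h * (z * (h⁻¹ * g * z * g⁻¹ * h)) * h⁻¹ := by group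
    rw [h4, h5, h3]
  haveI hEcomm : IsMulCommutative E := by
    rw [hE, Subgroup.normalClosure]
    exact Subgroup.isMulCommutative_closure hgencomm
  have hEc : ∀ a ∈ E, ∀ b' ∈ E, a * b' = b' * a := by
    intro a ha c hc
    have := mul_comm' (⟨a, ha⟩ : E) ⟨c, hc⟩
    exact congrArg Subtype.val this
  have hEe : ∀ e ∈ E, e ^ 2 = 1 := by
    intro e he
    have hgenE : ∀ u ∈ Group.conjugatesOfSet ({z} : Set G), u ∈ E := fun u hu => by
      rw [hE, Subgroup.normalClosure]; exact Subgroup.subset_closure hu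
    have he' := he
    rw [hE, Subgroup.normalClosure] at he'
    induction he' using Subgroup.closure_induction with
    | mem u hu =>
      obtain ⟨h, rfl⟩ := hgen u hu
      rw [conj_pow, hz2]; group
    | one => simp
    | mul a c ha hc iha ihc =>
      have haE : a ∈ E := by rw [hE, Subgroup.normalClosure]; exact ha
      have hcE : c ∈ E := by rw [hE, Subgroup.normalClosure]; exact hc
      have hac : Commute a c := hEc a haE c hcE
      rw [hac.mul_pow, iha haE, ihc hcE, one_mul]
    | inv a ha iha =>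
      have haE : a ∈ E := by rw [hE, Subgroup.normalClosure]; exact ha
      rw [inv_pow, iha haE, inv_one]
  have hzE : z ∈ E := by
    rw [hE]; exact Subgroup.subset_normalClosure (Set.mem_singleton z)
  haveI hEn : E.Normal := by rw [hE]; infer_instance
  have hEφ : ∀ e ∈ E, φ e = 1 := by
    intro e he
    have he' := he
    rw [hE, Subgroup.normalClosure] at he'
    induction he' using Subgroup.closure_induction with
    | mem u hu =>
      obtain ⟨h, rfl⟩ := hgen u hu
      simp only [map_mul, map_inv, hφz, mul_one]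
      simp
    | one => simp
    | mul a c ha hc iha ihc =>
      have haE : a ∈ E := by rw [hE, Subgroup.normalClosure]; exact ha
      have hcE : c ∈ E := by rw [hE, Subgroup.normalClosure]; exact hc
      rw [map_mul, iha haE, ihc hcE, one_mul]
    | inv a ha iha =>
      have haE : a ∈ E := by rw [hE, Subgroup.normalClosure]; exact ha
      rw [map_inv, iha haE, inv_one]
  have hxx : x * x = 1 := by rw [← pow_two]; exact hVe x hxV
  have hxi : x⁻¹ = x := inv_eq_of_mul_eq_one_left hxx
  have hEi : ∀ e ∈ E, e⁻¹ = e := fun e he => by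
    rw [inv_eq_iff_mul_eq_one, ← pow_two]; exact hEe e he
  -- elements fixed by `x`
  have hfix : ∀ e ∈ E, x * e * x⁻¹ = e → e = 1 ∨ e = z := by
    intro e he hex
    have heV : e ∈ V := by
      rw [hVc, Subgroup.mem_centralizer_singleton_iff]
      rw [mul_inv_eq_iff_eq_mul] at hex
      exact hex.symm
    have hzx : z ≠ x := by
      intro h
      apply hy1
      exact mul_left_cancel (a := x) (by rw [mul_one]; exact h)
    have hzy : z ≠ y := by
      intro h
      apply hx1
      exact mul_right_cancel (b := y) (by rw [one_mul]; exact h)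
    rcases mem_four_of_card V hV4 1 x y z e V.one_mem hxV hyV hzV heV hx1.symm hy1.symm hz1.symm
      hxy hzx.symm hzy.symm with h | h | h | h
    · exact Or.inl h
    · exfalso
      have := hEφ e he
      rw [h, hφx] at this
      exact absurd this (by decide)
    · exfalso
      have := hEφ e he
      rw [h, hφy] at this
      exact absurd this (by decide)
    · exact Or.inr h
  have hconjE : ∀ e ∈ E, x * e * x⁻¹ ∈ E := fun e he => hEn.conj_mem e he x
  have hprod : ∀ e ∈ E, e * (x * e * x⁻¹) = 1 ∨ e * (x * e * x⁻¹) = z := by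
    intro e he
    apply hfix _ (E.mul_mem he (hconjE e he))
    have h1 : x * (e * (x * e * x⁻¹)) * x⁻¹ = (x * e * x⁻¹) * e := by
      rw [hxi]
      calc x * (e * (x * e * x)) * x = x * e * x * e * (x * x) := by group
        _ = x * e * x * e := by rw [hxx, mul_one]
    rw [h1, hxi]
    exact hEc _ (hconjE e he |> fun h => by rwa [hxi] at h) _ he
  have hcardle : Nat.card E ≤ 4 := by
    by_cases hall : ∀ e ∈ E, e = 1 ∨ e = z
    · have hsub : (E : Set G) ⊆ (({1, z} : Finset G) : Set G) := by
        intro e he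
        simpa using hall e he
      have := Set.ncard_le_ncard hsub (Finset.finite_toSet _)
      rw [Set.ncard_coe_finset] at this
      have h2 := Finset.card_le_two (a := (1 : G)) (b := z)
      rw [← Nat.card_coe_set_eq] at this
      have h3 : Nat.card (E : Set G) = Nat.card E := rfl
      omega
    · push_neg at hall
      obtain ⟨e₀, he₀, h1, h2⟩ := hall
      have hfx : ∀ e ∈ E, (e = 1 ∨ e = z) ∨ x * e * x⁻¹ = e * z := by
        intro e he
        rcases hprod e he with h | h
        · left
          apply hfix e he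
          have := eq_inv_of_mul_eq_one_right h
          rw [this, hEi e he]
        · right
          rw [← h, ← mul_assoc, ← pow_two, hEe e he, one_mul]
      have he₀x : x * e₀ * x⁻¹ = e₀ * z := by
        rcases hfx e₀ he₀ with h | h
        · exact absurd h (by push_neg; exact ⟨h1, h2⟩)
        · exact h
      have hsub : (E : Set G) ⊆ (({1, z, e₀, z * e₀} : Finset G) : Set G) := by
        intro e he
        rcases hfx e he with h | h
        · rcases h with h | h <;> simp [h]
        · have hfixe : x * (e * e₀) * x⁻¹ = e * e₀ := by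
            have h3 : x * (e * e₀) * x⁻¹ = (x * e * x⁻¹) * (x * e₀ * x⁻¹) := by group
            rw [h3, h, he₀x]
            have h4 := hEc z hzE e₀ he₀
            calc e * z * (e₀ * z) = e * (z * e₀) * z := by group
              _ = e * (e₀ * z) * z := by rw [h4]
              _ = e * e₀ * (z * z) := by group
              _ = e * e₀ := by rw [← pow_two, hz2, mul_one]
          rcases hfix _ (E.mul_mem he he₀) hfixe with h3 | h3
          · have : e = e₀ := by
              have := eq_inv_of_mul_eq_one_left h3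
              rw [this, hEi e₀ he₀]
            simp [this]
          · have : e = z * e₀ := by
              have h5 : e * e₀ * e₀ = z * e₀ := by rw [h3]
              rw [mul_assoc, ← pow_two, hEe e₀ he₀, mul_one] at h5
              exact h5
            simp [this]
      have := Set.ncard_le_ncard hsub (Finset.finite_toSet _)
      rw [Set.ncard_coe_finset] at this
      have h2 := Finset.card_le_four (a := (1 : G)) (b := z) (c := e₀) (d := z * e₀)
      rw [← Nat.card_coe_set_eq] at this
      have h3 : Nat.card (E : Set G) = Nat.card E := rfl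
      omega
  haveI : Fact (Nat.Prime 2) := ⟨Nat.prime_two⟩
  have hEp : IsPGroup 2 E := fun g => ⟨1, by
    apply Subtype.ext
    simpa using hEe g g.2⟩
  obtain ⟨k, hk⟩ := IsPGroup.iff_card.mp hEp
  have hk0 : k ≠ 0 := by
    rintro rfl
    rw [pow_zero] at hk
    haveI : Subsingleton E := (Nat.card_eq_one_iff_unique.mp hk).1
    have : (⟨z, hzE⟩ : E) = 1 := Subsingleton.elim _ _
    exact hz1 (congrArg Subtype.val this)
  refine ⟨E, hEn, ⟨hEcomm, hEe⟩, ?_⟩
  have hk3 : k < 3 := by
    by_contra h
    push_neg at h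
    have : 2 ^ 3 ≤ 2 ^ k := Nat.pow_le_pow_right (by norm_num) h
    omega
  interval_cases k
  · exact absurd rfl hk0
  · left; simpa using hk
  · right; simpa using hk

open Cfsg.Agent.H15 in
/-- If a Sylow 2-subgroup properly contains the centralizer of `x`, there is a small normal
elementary abelian subgroup. -/
theorem big_sylow_case (x : G) (hx : orderOf x = 2)
    (hC4 : Nat.card ↥(Subgroup.centralizer ({x} : Set G)) = 4)
    (hCe : ∀ c ∈ Subgroup.centralizer ({x} : Set G), c ^ 2 = 1)
    (T : Sylow 2 G) (hVT : Subgroup.centralizer ({x} : Set G) ≤ T)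
    (hne : Subgroup.centralizer ({x} : Set G) ≠ T) :
    ∃ E : Subgroup G, E.Normal ∧ Cfsg.IsElementaryAbelian 2 E ∧
      (Nat.card E = 2 ∨ Nat.card E = 4) := by
  classical
  haveI : Fact (Nat.Prime 2) := ⟨Nat.prime_two⟩
  set V := Subgroup.centralizer ({x} : Set G) with hV
  have hx1 : x ≠ 1 := by
    rintro rfl
    simp at hx
  have hxV : x ∈ V := by
    rw [hV, Subgroup.mem_centralizer_singleton_iff]
  have hxT : x ∈ (T : Subgroup G) := hVT hxV
  obtain ⟨b, hbmem, hbV⟩ := SetLike.exists_of_lt
    (normalizer_grow (T : Subgroup G) V T.isPGroup' hVT hne)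
  have hbn : b ∈ Subgroup.normalizer (V : Set G) := hbmem.2
  -- the order of `T`
  have hT8 : 8 ≤ Nat.card (T : Subgroup G) := by
    obtain ⟨k, hk⟩ := IsPGroup.iff_card.mp T.isPGroup'
    have hd : Nat.card V ∣ Nat.card (T : Subgroup G) := Subgroup.card_dvd_of_le hVT
    have hne' : Nat.card (T : Subgroup G) ≠ 4 := by
      intro h
      apply hne
      apply Subgroup.eq_of_le_of_card_ge hVT
      rw [h, hC4]
    rw [hC4] at hd
    rw [hk] at hd hne' ⊢
    by_contra hlt
    have hk3 : k < 3 := by
      by_contra h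
      have : 2 ^ 3 ≤ 2 ^ k := Nat.pow_le_pow_right (by norm_num) (by omega)
      omega
    interval_cases k <;> simp_all
  let x' : (T : Subgroup G) := ⟨x, hxT⟩
  have hx' : orderOf x' = 2 := (Subgroup.orderOf_mk x hxT).trans hx
  have hCT : Nat.card (Subgroup.centralizer ({x'} : Set (T : Subgroup G))) ≤ 4 := by
    rw [← hC4]
    refine Nat.card_le_card_of_injective
      (fun c => (⟨(c : (T : Subgroup G)), ?_⟩ : V)) ?_
    · rw [hV, Subgroup.mem_centralizer_singleton_iff]
      have h1 := Subgroup.mem_centralizer_singleton_iff.mp c.2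
      exact congrArg Subtype.val h1
    · intro a c hac
      apply Subtype.ext
      apply Subtype.ext
      exact congrArg (fun v : V => (v : G)) hac
  obtain ⟨A, hAc, hAi, hxA⟩ := exists_cyclic_index_two (Nat.card (T : Subgroup G))
    (T : Subgroup G) rfl (T.isPGroup') x' hx' hCT hT8
  haveI : IsCyclic A := hAc
  haveI hAn : A.Normal := Subgroup.normal_of_index_eq_two hAi
  set W : Subgroup G := A.map (T : Subgroup G).subtype with hW
  have hWi : W.index = 2 ^ 1 * (T : Subgroup G).index := by
    rw [hW, Subgroup.index_map_subtype, hAi, pow_one]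
  have hodd : Odd (T : Subgroup G).index := by
    rw [← Nat.not_even_iff_odd, even_iff_two_dvd]
    exact T.not_dvd_index
  have hx2 : x ^ 2 ^ 1 = 1 := by
    rw [pow_one, ← hx]; exact pow_orderOf_eq_one x
  have hfree : ∀ g : G, g * x ^ 2 ^ (1 - 1) * g⁻¹ ∉ W := by
    intro g hg
    simp only [Nat.sub_self, pow_zero, pow_one] at hg
    obtain ⟨t₀, ht₀, ht₀e⟩ := Subgroup.mem_map.mp hg
    have hoy : orderOf (g * x * g⁻¹) = 2 := (orderOf_conj_eq g x).trans hx
    have hot₀ : orderOf (t₀ : (T : Subgroup G)) = 2 := by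
      have h0 : ((t₀ : (T : Subgroup G)) : G) = g * x * g⁻¹ := ht₀e
      have h1 : orderOf ((t₀ : (T : Subgroup G)) : G) = 2 := by
        rw [h0]; exact hoy
      exact (Subgroup.orderOf_coe t₀).symm.trans h1
    have hcomm : ∀ t : (T : Subgroup G), t * t₀ * t⁻¹ = t₀ := by
      intro t
      have h1 : t * t₀ * t⁻¹ ∈ A := hAn.conj_mem t₀ ht₀ t
      have h2 : orderOf (t * t₀ * t⁻¹) = 2 := (orderOf_conj_eq t t₀).trans hot₀
      have h3 : orderOf (⟨t * t₀ * t⁻¹, h1⟩ : A) = 2 := (Subgroup.orderOf_mk _ h1).trans h2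
      have h4 : orderOf (⟨t₀, ht₀⟩ : A) = 2 := (Subgroup.orderOf_mk _ ht₀).trans hot₀
      have := unique_involution_of_cyclic h3 h4
      exact congrArg Subtype.val this
    have hcardT : Nat.card (T : Subgroup G) ≤ 4 := by
      rw [← hC4]
      refine Nat.card_le_card_of_injective
        (fun t => (⟨g⁻¹ * (t : G) * g, ?_⟩ : V)) ?_
      · rw [hV, Subgroup.mem_centralizer_singleton_iff]
        have h1 : ((t * t₀ * t⁻¹ : (T : Subgroup G)) : G) = (t₀ : (T : Subgroup G)) :=
          congrArg Subtype.val (hcomm t)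
        have h2 : ((t₀ : (T : Subgroup G)) : G) = g * x * g⁻¹ := ht₀e
        simp only [Subgroup.coe_mul, Subgroup.coe_inv] at h1
        rw [h2] at h1
        have h3 : (t : G) * (g * x * g⁻¹) = (g * x * g⁻¹) * t := by
          rw [mul_inv_eq_iff_eq_mul] at h1
          exact h1
        have h4 : g⁻¹ * (t : G) * g * x = g⁻¹ * ((t : G) * (g * x * g⁻¹)) * g := by group
        have h5 : x * (g⁻¹ * (t : G) * g) = g⁻¹ * ((g * x * g⁻¹) * t) * g := by group
        rw [h4, h5, h3]
      · intro a c hac
        apply Subtype.ext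
        have h1 := congrArg Subtype.val hac
        simpa using h1
    omega
  obtain ⟨φ, hφ⟩ := Cfsg.Agent.H08.Thom.exists_sign W x 1 (T : Subgroup G).index le_rfl hodd hx2 hfree hWi
  exact exists_normal_small x V hC4 rfl hCe hx1 b hbn hbV φ hφ

end Cfsg.Agent.H15.ChzFour
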