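import Mathlib
import Cfsg.Agent.Lib.H15.ChzFour
import Cfsg.Agent.Lib.H15.TwoMaxEA
import Cfsg.Agent.Lib.H15.EarlyChar2

/-!
Finite groups all of whose Sylow 2-subgroups are Klein four groups equal to the centralizers of
their involutions: with more than one Sylow 2-subgroup such a group is the alternating group of
degree five.
-/

set_option autoImplicit false

namespace Cfsg.Agent.H15.ChzFour

universe u

variable {G : Type u} [Group G] [Finite G]

/-- Standing hypotheses. -/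
structure KleinTI (G : Type u) [Group G] [Finite G] : Prop where
  hB : ∀ (P : Sylow 2 G) (w : G), w ∈ (P : Subgroup G) → w ≠ 1 →
    Subgroup.centralizer ({w} : Set G) = (P : Subgroup G)
  hE : ∀ (P : Sylow 2 G) (c : G), c ∈ (P : Subgroup G) → c ^ 2 = 1
  hC : ∀ P : Sylow 2 G, Nat.card (P : Subgroup G) = 4
  hn : ∀ α : Sylow 2 G, ∃ β : Sylow 2 G, β ≠ α

/-- The stabilizer of two Sylow subgroups. -/
def DD (α β : Sylow 2 G) : Subgroup G :=
  Subgroup.normalizer ((α : Subgroup G) : Set G) ⊓ Subgroup.normalizer ((β : Subgroup G) : Set G)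

omit [Finite G] in
theorem conj_mem_smul (α : Sylow 2 G) (g w : G) (h : w ∈ (α : Subgroup G)) :
    g * w * g⁻¹ ∈ ((g • α : Sylow 2 G) : Subgroup G) := by
  rw [Sylow.coe_subgroup_smul]
  exact Subgroup.smul_mem_pointwise_smul w (MulAut.conj g) _ h

omit [Finite G] in
theorem mem_smul_iff (α : Sylow 2 G) (g e : G) :
    e ∈ ((g • α : Sylow 2 G) : Subgroup G) ↔ g⁻¹ * e * g ∈ (α : Subgroup G) := by
  rw [Sylow.coe_subgroup_smul, Subgroup.mem_pointwise_smul_iff_inv_smul_mem]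
  simp [MulAut.smul_def, MulAut.inv_def]

omit [Finite G] in
theorem mem_norm_iff (α : Sylow 2 G) (g : G) :
    g ∈ Subgroup.normalizer ((α : Subgroup G) : Set G) ↔ g • α = α :=
  Sylow.smul_eq_iff_mem_normalizer.symm

theorem mem_of_normalizer_of_pow (α : Sylow 2 G) (g : G)
    (hg : g ∈ Subgroup.normalizer ((α : Subgroup G) : Set G)) (k : ℕ) (h : g ^ 2 ^ k = 1) :
    g ∈ (α : Subgroup G) := by
  haveI : Fact (Nat.Prime 2) := ⟨Nat.prime_two⟩
  have hp : IsPGroup 2 (Subgroup.zpowers g) := by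
    rw [IsPGroup.iff_card, Nat.card_zpowers]
    obtain ⟨j, _, hj⟩ := (Nat.dvd_prime_pow Nat.prime_two).1 (orderOf_dvd_of_pow_eq_one h)
    exact ⟨j, hj⟩
  have hle : Subgroup.zpowers g ≤ Subgroup.normalizer ((α : Subgroup G) : Set G) := by
    rw [Subgroup.zpowers_le]; exact hg
  have hQ := IsPGroup.to_sup_of_normal_right' hp α.isPGroup' hle
  have hmax := α.is_maximal' hQ le_sup_right
  have h1 : g ∈ Subgroup.zpowers g ⊔ (α : Subgroup G) :=
    Subgroup.mem_sup_left (Subgroup.mem_zpowers g)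
  rw [hmax] at h1
  exact h1

/-- The midpoint involution of two involutions with odd product. -/
theorem exists_conj_invol (w u : G) (hw : w * w = 1) (hu : u * u = 1)
    (h : Odd (orderOf (w * u))) : ∃ m : G, m * m = 1 ∧ m * w * m⁻¹ = u := by
  obtain ⟨k, hk⟩ := h
  set d := w * u with hd
  have hwi : w⁻¹ = w := inv_eq_of_mul_eq_one_left hw
  have hui : u⁻¹ = u := inv_eq_of_mul_eq_one_left hu
  have hinv : w * d * w = d⁻¹ := by
    rw [hd, mul_inv_rev, hwi, hui]
    simp only [← mul_assoc, hw, one_mul]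
  have hpow : ∀ j : ℕ, w * d ^ j * w = (d ^ j)⁻¹ := by
    intro j
    have h1 : w * d ^ j * w⁻¹ = (w * d * w⁻¹) ^ j := (conj_pow).symm
    rw [hwi] at h1
    rw [h1, hinv, inv_pow]
  have hd1 : d ^ (2 * k + 1) = 1 := by rw [← hk]; exact pow_orderOf_eq_one d
  refine ⟨w * d ^ (k + 1), ?_, ?_⟩
  · calc w * d ^ (k + 1) * (w * d ^ (k + 1)) = (w * d ^ (k + 1) * w) * d ^ (k + 1) := by group
      _ = 1 := by rw [hpow, inv_mul_cancel]
  · have hm : w * d ^ (k + 1) * (w * d ^ (k + 1)) = 1 := by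
      calc w * d ^ (k + 1) * (w * d ^ (k + 1)) = (w * d ^ (k + 1) * w) * d ^ (k + 1) := by group
        _ = 1 := by rw [hpow, inv_mul_cancel]
    rw [inv_eq_of_mul_eq_one_left hm]
    calc w * d ^ (k + 1) * w * (w * d ^ (k + 1))
        = w * d ^ (k + 1) * (w * w) * d ^ (k + 1) := by group
      _ = w * (d ^ (k + 1) * d ^ (k + 1)) := by rw [hw]; group
      _ = w * (d ^ (2 * k + 1) * d) := by
          rw [← pow_add, ← pow_succ]; congr 2; ring
      _ = u := by rw [hd1, one_mul, hd, ← mul_assoc, hw, one_mul]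

omit [Finite G] in
theorem mem_DD_iff (α β : Sylow 2 G) (d : G) : d ∈ DD α β ↔ d • α = α ∧ d • β = β := by
  rw [DD, Subgroup.mem_inf, mem_norm_iff, mem_norm_iff]

theorem exists_sylow_of_invol (t : G) (ht : t * t = 1) :
    ∃ γ : Sylow 2 G, t ∈ (γ : Subgroup G) := by
  haveI : Fact (Nat.Prime 2) := ⟨Nat.prime_two⟩
  have hp : IsPGroup 2 (Subgroup.zpowers t) := by
    rw [IsPGroup.iff_card, Nat.card_zpowers]
    have : t ^ 2 ^ 1 = 1 := by simpa [pow_two] using ht
    obtain ⟨j, _, hj⟩ := (Nat.dvd_prime_pow Nat.prime_two).1 (orderOf_dvd_of_pow_eq_one this)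
    exact ⟨j, hj⟩
  obtain ⟨γ, hγ⟩ := hp.exists_le_sylow
  exact ⟨γ, hγ (Subgroup.mem_zpowers t)⟩

namespace KleinTI

variable (K : KleinTI G)
include K

theorem eq_of_common {α β : Sylow 2 G} {c : G} (h1 : c ∈ (α : Subgroup G))
    (h2 : c ∈ (β : Subgroup G)) (hc : c ≠ 1) : α = β :=
  Sylow.ext ((K.hB α c h1 hc).symm.trans (K.hB β c h2 hc))

theorem mul_self_of_mem {α : Sylow 2 G} {c : G} (h : c ∈ (α : Subgroup G)) : c * c = 1 := by
  rw [← pow_two]; exact K.hE α c h

theorem comm_of_mem {α : Sylow 2 G} {a b : G} (ha : a ∈ (α : Subgroup G))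
    (hb : b ∈ (α : Subgroup G)) : a * b = b * a := by
  have h3 := K.mul_self_of_mem ((α : Subgroup G).mul_mem ha hb)
  have h1 := K.mul_self_of_mem ha
  have h2 := K.mul_self_of_mem hb
  have ha' : a⁻¹ = a := inv_eq_of_mul_eq_one_left h1
  have hb' : b⁻¹ = b := inv_eq_of_mul_eq_one_left h2
  have : (a * b)⁻¹ = a * b := inv_eq_of_mul_eq_one_left h3
  rw [mul_inv_rev, ha', hb'] at this
  exact this.symm

theorem smul_eq_of_conj {α β : Sylow 2 G} (g w : G) (hw : w ∈ (α : Subgroup G)) (hw1 : w ≠ 1)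
    (hu : g * w * g⁻¹ ∈ (β : Subgroup G)) : g • α = β := by
  apply K.eq_of_common (conj_mem_smul α g w hw) hu
  intro h
  apply hw1
  have := congrArg (fun t => g⁻¹ * t * g) h
  simpa [mul_assoc] using this

/-- Involutions from different Sylow subgroups have a product of odd order. -/
theorem odd_order {α β : Sylow 2 G} (hne : α ≠ β) {w u : G} (hw : w ∈ (α : Subgroup G))
    (hw1 : w ≠ 1) (hu : u ∈ (β : Subgroup G)) (hu1 : u ≠ 1) : Odd (orderOf (w * u)) := by
  by_contra hev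
  rw [Nat.not_odd_iff_even] at hev
  obtain ⟨m, hm⟩ := hev
  have hww := K.mul_self_of_mem hw
  have huu := K.mul_self_of_mem hu
  have hwi : w⁻¹ = w := inv_eq_of_mul_eq_one_left hww
  have hui : u⁻¹ = u := inv_eq_of_mul_eq_one_left huu
  set d := w * u with hd
  have hdo : d ^ orderOf d = 1 := pow_orderOf_eq_one d
  have hpos : 0 < orderOf d := orderOf_pos d
  set c := d ^ m with hc
  have hc1 : c ≠ 1 := by
    intro h
    have := orderOf_le_of_pow_eq_one (by omega) h
    omega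
  have hc2 : c * c = 1 := by
    rw [hc, ← pow_add, ← hm, hdo]
  have hci : c⁻¹ = c := inv_eq_of_mul_eq_one_left hc2
  have hinvw : w * d * w⁻¹ = d⁻¹ := by
    rw [hd, mul_inv_rev, hwi, hui]
    simp only [← mul_assoc, hww, one_mul]
  have hinvu : u * d * u⁻¹ = d⁻¹ := by
    rw [hd, mul_inv_rev, hwi, hui]
    simp only [mul_assoc, huu, mul_one]
  have hcw : w * c * w⁻¹ = c := by
    rw [hc, ← conj_pow, hinvw, inv_pow, ← hc, hci]
  have hcu : u * c * u⁻¹ = c := by
    rw [hc, ← conj_pow, hinvu, inv_pow, ← hc, hci]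
  have hcα : c ∈ (α : Subgroup G) := by
    rw [← K.hB α w hw hw1, Subgroup.mem_centralizer_singleton_iff]
    rw [mul_inv_eq_iff_eq_mul] at hcw
    exact hcw.symm
  have hcβ : c ∈ (β : Subgroup G) := by
    rw [← K.hB β u hu hu1, Subgroup.mem_centralizer_singleton_iff]
    rw [mul_inv_eq_iff_eq_mul] at hcu
    exact hcu.symm
  exact hne (K.eq_of_common hcα hcβ hc1)

/-- A swap with prescribed image of an involution. -/
theorem exists_swap_of {α β : Sylow 2 G} (hne : α ≠ β) {w u : G} (hw : w ∈ (α : Subgroup G))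
    (hw1 : w ≠ 1) (hu : u ∈ (β : Subgroup G)) (hu1 : u ≠ 1) :
    ∃ t : G, t * t = 1 ∧ t * w * t⁻¹ = u ∧ t • α = β ∧ t • β = α := by
  obtain ⟨t, ht, htw⟩ := exists_conj_invol w u (K.mul_self_of_mem hw) (K.mul_self_of_mem hu)
    (K.odd_order hne hw hw1 hu hu1)
  have hti : t⁻¹ = t := inv_eq_of_mul_eq_one_left ht
  refine ⟨t, ht, htw, K.smul_eq_of_conj t w hw hw1 (htw ▸ hu), ?_⟩
  apply K.smul_eq_of_conj t u hu hu1
  rw [← htw]
  have : t * (t * w * t⁻¹) * t⁻¹ = w := by
    rw [hti]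
    calc t * (t * w * t) * t = (t * t) * w * (t * t) := by group
      _ = w := by rw [ht]; group
  rw [this]
  exact hw

theorem exists_three (α : Sylow 2 G) : ∃ a b c : G, a ∈ (α : Subgroup G) ∧ b ∈ (α : Subgroup G) ∧
    c ∈ (α : Subgroup G) ∧ a ≠ 1 ∧ b ≠ 1 ∧ c ≠ 1 ∧ a ≠ b ∧ a ≠ c ∧ b ≠ c := by
  classical
  have hfin : ((α : Subgroup G) : Set G).Finite := Set.toFinite _
  have hcard : hfin.toFinset.card = 4 := by
    rw [← Set.ncard_eq_toFinset_card, ← Nat.card_coe_set_eq]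
    exact K.hC α
  have h1 : (hfin.toFinset.erase 1).card = 3 := by
    rw [Finset.card_erase_of_mem, hcard]
    simp
  obtain ⟨a, b, c, hab, hac, hbc, hS⟩ := Finset.card_eq_three.mp h1
  have hm : ∀ y ∈ ({a, b, c} : Finset G), y ≠ 1 ∧ y ∈ (α : Subgroup G) := by
    intro y hy
    rw [← hS, Finset.mem_erase, Set.Finite.mem_toFinset] at hy
    exact hy
  have ha := hm a (by simp)
  have hb := hm b (by simp)
  have hc := hm c (by simp)
  exact ⟨a, b, c, ha.2, hb.2, hc.2, ha.1, hb.1, hc.1, hab, hac, hbc⟩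

theorem card_normalizer_le (α : Sylow 2 G) :
    Nat.card (Subgroup.normalizer ((α : Subgroup G) : Set G)) ≤ 12 := by
  classical
  obtain ⟨a, b, c, ha, hb, hc, ha1, hb1, hc1, hab, hac, hbc⟩ := K.exists_three α
  set N := Subgroup.normalizer ((α : Subgroup G) : Set G) with hN
  haveI := Fintype.ofFinite N
  rw [Nat.card_eq_fintype_card, ← Finset.card_univ]
  let f : N → G := fun n => (n : G) * a * (n : G)⁻¹
  have himg : (Finset.univ.image f) ⊆ {a, b, c} := by
    intro y hy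
    obtain ⟨n, _, rfl⟩ := Finset.mem_image.mp hy
    have h1 : (n : G) * a * (n : G)⁻¹ ∈ (α : Subgroup G) :=
      (Subgroup.mem_normalizer_iff.mp n.2 a).mp ha
    have hne1 : (n : G) * a * (n : G)⁻¹ ≠ 1 := by
      intro h
      apply ha1
      have := congrArg (fun t => (n : G)⁻¹ * t * (n : G)) h
      simpa [mul_assoc] using this
    rcases mem_four_of_card (α : Subgroup G) (K.hC α) 1 a b c _ (Subgroup.one_mem _) ha hb hc h1
      ha1.symm hb1.symm hc1.symm hab hac hbc with h | h | h | h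
    · exact absurd h hne1
    · simp [f, h]
    · simp [f, h]
    · simp [f, h]
  have hfib : ∀ y ∈ Finset.univ.image f, (Finset.univ.filter (fun n => f n = y)).card ≤ 4 := by
    intro y hy
    obtain ⟨n₀, _, rfl⟩ := Finset.mem_image.mp hy
    have hfin : ((α : Subgroup G) : Set G).Finite := Set.toFinite _
    have hcard : hfin.toFinset.card = 4 := by
      rw [← Set.ncard_eq_toFinset_card, ← Nat.card_coe_set_eq]
      exact K.hC α
    rw [← hcard]
    refine Finset.card_le_card_of_injOn (fun n => (n₀ : G)⁻¹ * (n : G)) ?_ ?_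
    · intro n hn
      simp only [Finset.coe_filter, Finset.mem_univ, true_and, Set.mem_setOf_eq] at hn
      simp only [Set.Finite.coe_toFinset, SetLike.mem_coe]
      rw [← K.hB α a ha ha1, Subgroup.mem_centralizer_singleton_iff]
      have h1 : (n : G) * a * (n : G)⁻¹ = (n₀ : G) * a * (n₀ : G)⁻¹ := hn
      have h2 : a * ((n₀ : G)⁻¹ * (n : G)) = (n₀ : G)⁻¹ * ((n₀ : G) * a * (n₀ : G)⁻¹) * (n : G) := by
        group
      rw [h2, ← h1]
      group
    · intro p _ q _ hpq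
      apply Subtype.ext
      exact mul_left_cancel hpq
  have h1 := Finset.card_le_mul_card_image (Finset.univ : Finset N) 4 hfib
  have h2 := Finset.card_le_card himg
  have h3 : ({a, b, c} : Finset G).card ≤ 3 := Finset.card_le_three
  calc (Finset.univ : Finset N).card ≤ 4 * (Finset.univ.image f).card := h1
    _ ≤ 4 * 3 := by apply Nat.mul_le_mul_left; omega
    _ = 12 := by norm_num

theorem mem_DD_free {α β : Sylow 2 G} (hne : α ≠ β) {d : G} (hd : d ∈ DD α β) (h2 : d ^ 2 = 1) :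
    d = 1 := by
  have h3 : d ^ 2 ^ 1 = 1 := by simpa using h2
  by_contra h1
  exact hne (K.eq_of_common (mem_of_normalizer_of_pow α d hd.1 1 h3)
    (mem_of_normalizer_of_pow β d hd.2 1 h3) h1)

theorem odd_card_DD {α β : Sylow 2 G} (hne : α ≠ β) : Odd (Nat.card (DD α β)) := by
  by_contra h
  rw [Nat.not_odd_iff_even, even_iff_two_dvd] at h
  haveI : Fact (Nat.Prime 2) := ⟨Nat.prime_two⟩
  obtain ⟨d, hd⟩ := exists_prime_orderOf_dvd_card' 2 h
  have h1 : (d : G) ^ 2 = 1 := by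
    have := pow_orderOf_eq_one d
    rw [hd] at this
    simpa using congrArg Subtype.val this
  have h2 := K.mem_DD_free hne d.2 h1
  have h3 : d = 1 := Subtype.ext h2
  rw [h3, orderOf_one] at hd
  omega

theorem exists_ne_DD {α β : Sylow 2 G} (hne : α ≠ β) : ∃ d ∈ DD α β, d ≠ 1 := by
  obtain ⟨a, _, _, ha, _, _, ha1, _, _, _, _, _⟩ := K.exists_three α
  obtain ⟨u, v, _, hu, hv, _, hu1, hv1, _, huv, _, _⟩ := K.exists_three β
  obtain ⟨t₁, ht₁, hw₁, h₁α, h₁β⟩ := K.exists_swap_of hne ha ha1 hu hu1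
  obtain ⟨t₂, ht₂, hw₂, h₂α, h₂β⟩ := K.exists_swap_of hne ha ha1 hv hv1
  refine ⟨t₁⁻¹ * t₂, (mem_DD_iff α β _).mpr ⟨?_, ?_⟩, ?_⟩
  · rw [mul_smul, h₂α, ← h₁α, inv_smul_smul]
  · rw [mul_smul, h₂β]
    conv_lhs => rw [← h₁β]
    rw [inv_smul_smul]
  · intro h
    have : t₁ = t₂ := by
      have := mul_eq_one_iff_eq_inv.mp h
      exact inv_injective this
    rw [this, hw₂] at hw₁
    exact huv hw₁.symm

theorem card_DD {α β : Sylow 2 G} (hne : α ≠ β) :
    Nat.card (DD α β) = 3 ∧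
      Nat.card (Subgroup.normalizer ((α : Subgroup G) : Set G)) = 12 := by
  have h1 : Nat.card (DD α β) ∣ Nat.card (Subgroup.normalizer ((α : Subgroup G) : Set G)) :=
    Subgroup.card_dvd_of_le inf_le_left
  have h2 : 4 ∣ Nat.card (Subgroup.normalizer ((α : Subgroup G) : Set G)) := by
    rw [← K.hC α]
    exact Subgroup.card_dvd_of_le Subgroup.le_normalizer
  have hodd := K.odd_card_DD hne
  have hco : Nat.Coprime 4 (Nat.card (DD α β)) := by
    have : Nat.Coprime (2 ^ 2) (Nat.card (DD α β)) :=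
      Nat.Coprime.pow_left 2 (Nat.coprime_two_left.mpr hodd)
    simpa using this
  have h3 := Nat.Coprime.mul_dvd_of_dvd_of_dvd hco h2 h1
  have hle := K.card_normalizer_le α
  have hpos : 0 < Nat.card (Subgroup.normalizer ((α : Subgroup G) : Set G)) := Nat.card_pos
  have h4 := Nat.le_of_dvd hpos h3
  have hne1 : Nat.card (DD α β) ≠ 1 := by
    intro h
    obtain ⟨d, hd, hd1⟩ := K.exists_ne_DD hne
    have := (Subgroup.card_eq_one.mp h)
    rw [this] at hd
    exact hd1 (Subgroup.mem_bot.mp hd)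
  have hp2 : 0 < Nat.card (DD α β) := Nat.card_pos
  obtain ⟨k, hk⟩ := hodd
  have h5 : Nat.card (DD α β) = 3 := by omega
  refine ⟨h5, ?_⟩
  rw [h5] at h3
  have := Nat.le_of_dvd hpos h3
  omega

theorem inv_DD {α β : Sylow 2 G} (hne : α ≠ β) {t : G} (ht : t * t = 1) (h1 : t • α = β)
    (h2 : t • β = α) {d : G} (hd : d ∈ DD α β) : t * d * t⁻¹ = d⁻¹ := by
  have hti : t⁻¹ = t := inv_eq_of_mul_eq_one_left ht
  apply conj_eq_inv_of_fpf_subgroup (DD α β) t ht _ _ hd
  · apply mem_normalizer_of_forall_conj_mem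
    intro y hy
    obtain ⟨hy1, hy2⟩ := (mem_DD_iff α β y).mp hy
    refine (mem_DD_iff α β _).mpr ⟨?_, ?_⟩
    · rw [mul_smul, mul_smul, hti, h1, hy2, h2]
    · rw [mul_smul, mul_smul, hti, h2, hy1, h1]
  · rw [Subgroup.eq_bot_iff_forall]
    intro y hy
    obtain ⟨hy1, hy2⟩ := Subgroup.mem_inf.mp hy
    obtain ⟨γ, hγ⟩ := exists_sylow_of_invol t ht
    have ht1 : t ≠ 1 := by
      rintro rfl
      rw [one_smul] at h1
      exact hne h1
    have hyγ : y ∈ (γ : Subgroup G) := by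
      rw [← K.hB γ t hγ ht1]
      exact hy2
    exact K.mem_DD_free hne hy1 (K.hE γ y hyγ)

/-- A subgroup `DD α β` fixes only `α` and `β`. -/
theorem fix_DD {α β γ : Sylow 2 G} (hαβ : α ≠ β) (hαγ : α ≠ γ) (hβγ : β ≠ γ)
    (hle : DD α β ≤ Subgroup.normalizer ((γ : Subgroup G) : Set G)) : False := by
  obtain ⟨d, hd, hd1⟩ := K.exists_ne_DD hαβ
  obtain ⟨a, _, _, ha, _, _, ha1, _, _, _, _, _⟩ := K.exists_three α
  obtain ⟨b, _, _, hb, _, _, hb1, _, _, _, _, _⟩ := K.exists_three β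
  obtain ⟨c, _, _, hc, _, _, hc1, _, _, _, _, _⟩ := K.exists_three γ
  obtain ⟨t₁, ht₁, -, h₁α, h₁β⟩ := K.exists_swap_of hαβ ha ha1 hb hb1
  obtain ⟨t₂, ht₂, -, h₂α, h₂γ⟩ := K.exists_swap_of hαγ ha ha1 hc hc1
  obtain ⟨t₃, ht₃, -, h₃β, h₃γ⟩ := K.exists_swap_of hβγ hb hb1 hc hc1
  have hdγ : d ∈ Subgroup.normalizer ((γ : Subgroup G) : Set G) := hle hd
  have hdα : d ∈ Subgroup.normalizer ((α : Subgroup G) : Set G) := hd.1
  have hdβ : d ∈ Subgroup.normalizer ((β : Subgroup G) : Set G) := hd.2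
  have e₁ := K.inv_DD hαβ ht₁ h₁α h₁β hd
  have e₂ := K.inv_DD hαγ ht₂ h₂α h₂γ (Subgroup.mem_inf.mpr ⟨hdα, hdγ⟩)
  have e₃ := K.inv_DD hβγ ht₃ h₃β h₃γ (Subgroup.mem_inf.mpr ⟨hdβ, hdγ⟩)
  have hd3 : d ^ 3 = 1 := by
    have h1 : (⟨d, hd⟩ : DD α β) ^ Nat.card (DD α β) = 1 := pow_card_eq_one'
    rw [(K.card_DD hαβ).1] at h1
    simpa using congrArg Subtype.val h1
  set h := t₃ * t₁ * t₂ with hh
  have hhγ : h • γ = γ := by
    rw [hh, mul_smul, mul_smul, h₂γ, h₁α, h₃β]
  have hhN : h ∈ Subgroup.normalizer ((γ : Subgroup G) : Set G) := (mem_norm_iff γ h).mpr hhγ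
  have hh12 : h ^ 12 = 1 := by
    have h1 : (⟨h, hhN⟩ : Subgroup.normalizer ((γ : Subgroup G) : Set G)) ^
        Nat.card (Subgroup.normalizer ((γ : Subgroup G) : Set G)) = 1 := pow_card_eq_one'
    rw [(K.card_DD hβγ.symm).2] at h1
    simpa using congrArg Subtype.val h1
  have hinv : h * d * h⁻¹ = d⁻¹ := by
    have h1 : h * d * h⁻¹ = t₃ * (t₁ * (t₂ * d * t₂⁻¹) * t₁⁻¹) * t₃⁻¹ := by
      rw [hh]; group
    have h2 : t₁ * d⁻¹ * t₁⁻¹ = (t₁ * d * t₁⁻¹)⁻¹ := by group
    rw [h1, e₂, h2, e₁, inv_inv, e₃]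
  set k := h ^ 3 with hk
  have hkN : k ∈ Subgroup.normalizer ((γ : Subgroup G) : Set G) := Subgroup.pow_mem _ hhN 3
  have hkγ : k ∈ (γ : Subgroup G) := by
    apply mem_of_normalizer_of_pow γ k hkN 2
    rw [hk, ← pow_mul]
    exact hh12
  have hkinv : k * d * k⁻¹ = d⁻¹ := by
    have h1 : k * d * k⁻¹ = h * (h * (h * d * h⁻¹) * h⁻¹) * h⁻¹ := by
      rw [hk, pow_succ, pow_succ, pow_one]; group
    have h2 : h * d⁻¹ * h⁻¹ = (h * d * h⁻¹)⁻¹ := by group
    rw [h1, hinv, h2, hinv, inv_inv, hinv]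
  have hmem : d * k⁻¹ * d⁻¹ ∈ (γ : Subgroup G) :=
    (Subgroup.mem_normalizer_iff.mp hdγ k⁻¹).mp (Subgroup.inv_mem _ hkγ)
  have hmem2 : k * (d * k⁻¹ * d⁻¹) ∈ (γ : Subgroup G) := Subgroup.mul_mem _ hkγ hmem
  have h5 : k * (d * k⁻¹ * d⁻¹) = d := by
    have h6 : k * (d * k⁻¹ * d⁻¹) = (k * d * k⁻¹) * d⁻¹ := by group
    rw [h6, hkinv]
    have h7 : d * d * d = 1 := by rw [← hd3, pow_succ, pow_succ, pow_one]
    calc d⁻¹ * d⁻¹ = d⁻¹ * d⁻¹ * (d * d * d) := by rw [h7, mul_one]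
      _ = d := by group
  rw [h5] at hmem2
  have h8 := K.hE γ d hmem2
  apply hd1
  have h9 : d ^ 3 = d ^ 2 * d := by group
  rw [h9, h8, one_mul] at hd3
  exact hd3

end KleinTI

/-- Two subgroups of order 3 in a group of order 12 are conjugate. -/
theorem sylow_conj_three (A D₁ D₂ : Subgroup G) (hA : Nat.card A = 12) (h1 : D₁ ≤ A) (h2 : D₂ ≤ A)
    (c1 : Nat.card D₁ = 3) (c2 : Nat.card D₂ = 3) : ∃ a ∈ A, ∀ d ∈ D₂, a * d * a⁻¹ ∈ D₁ := by
  haveI : Fact (Nat.Prime 3) := ⟨Nat.prime_three⟩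
  have key : ∀ D : Subgroup G, D ≤ A → Nat.card D = 3 →
      IsPGroup 3 (D.subgroupOf A) ∧ ¬ 3 ∣ (D.subgroupOf A).index := by
    intro D hD hc
    have hc' : Nat.card (D.subgroupOf A) = 3 := by
      rw [← hc]
      exact Nat.card_congr (Subgroup.subgroupOfEquivOfLe hD).toEquiv
    constructor
    · rw [IsPGroup.iff_card]
      exact ⟨1, by rw [hc', pow_one]⟩
    · have h3 := Subgroup.card_mul_index (D.subgroupOf A)
      rw [hc', hA] at h3
      have : (D.subgroupOf A).index = 4 := by omega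
      rw [this]
      norm_num
  have k1 := key D₁ h1 c1
  have k2 := key D₂ h2 c2
  let S₁ : Sylow 3 A := k1.1.toSylow k1.2
  let S₂ : Sylow 3 A := k2.1.toSylow k2.2
  obtain ⟨a, ha⟩ := MulAction.exists_smul_eq A S₂ S₁
  refine ⟨a, a.2, fun d hd => ?_⟩
  have hd' : (⟨d, h2 hd⟩ : A) ∈ (S₂ : Subgroup A) := by
    show (⟨d, h2 hd⟩ : A) ∈ D₂.subgroupOf A
    exact hd
  have h3 : a * (⟨d, h2 hd⟩ : A) * a⁻¹ ∈ ((a • S₂ : Sylow 3 A) : Subgroup A) := by
    rw [Sylow.coe_subgroup_smul]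
    exact Subgroup.smul_mem_pointwise_smul _ (MulAut.conj a) _ hd'
  rw [ha] at h3
  exact h3

namespace KleinTI

variable (K : KleinTI G)
include K

/-- `N(α)` is transitive on the other Sylow subgroups. -/
theorem transitive_norm {α β β' : Sylow 2 G} (h : β ≠ α) (h' : β' ≠ α) :
    ∃ a ∈ Subgroup.normalizer ((α : Subgroup G) : Set G), a • β' = β := by
  obtain ⟨a, haN, hconj⟩ := sylow_conj_three (Subgroup.normalizer ((α : Subgroup G) : Set G))
    (DD α β) (DD α β') (K.card_DD h.symm).2 inf_le_left inf_le_left (K.card_DD h.symm).1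
    (K.card_DD h'.symm).1
  refine ⟨a, haN, ?_⟩
  have hα : a • α = α := (mem_norm_iff α a).mp haN
  by_contra hne
  have hne2 : β' ≠ a⁻¹ • β := by
    intro h2
    apply hne
    rw [h2, smul_inv_smul]
  have hne3 : α ≠ a⁻¹ • β := by
    intro h2
    apply h
    have : a • α = β := by rw [h2, smul_inv_smul]
    rw [← this, hα]
  apply K.fix_DD h'.symm hne3 hne2
  intro d hd
  rw [mem_norm_iff]
  obtain ⟨-, h5⟩ := (mem_DD_iff α β _).mp (hconj d hd)
  have h6 : a * d * a⁻¹ * a = a * d := by group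
  have : d • a⁻¹ • β = a⁻¹ • (a * d * a⁻¹) • β := by
    rw [← mul_smul, ← mul_smul]
    congr 1
    group
  rw [this, h5]

/-- There are five Sylow 2-subgroups. -/
theorem card_sylow : Nat.card (Sylow 2 G) = 5 := by
  classical
  obtain ⟨α⟩ := (inferInstance : Nonempty (Sylow 2 G))
  obtain ⟨β, hβ⟩ := K.hn α
  set A := Subgroup.normalizer ((α : Subgroup G) : Set G) with hA
  haveI : Fintype A := Fintype.ofFinite _
  haveI : Fintype (MulAction.orbit A β) := Fintype.ofFinite _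
  haveI : Fintype (MulAction.stabilizer A β) := Fintype.ofFinite _
  have hcard := MulAction.card_orbit_mul_card_stabilizer_eq_card_group A β
  simp only [← Nat.card_eq_fintype_card] at hcard
  have hstab : Nat.card (MulAction.stabilizer A β) = 3 := by
    rw [← (K.card_DD hβ.symm).1]
    have : MulAction.stabilizer A β = (DD α β).subgroupOf A := by
      ext a
      rw [MulAction.mem_stabilizer_iff, Subgroup.mem_subgroupOf, mem_DD_iff]
      constructor
      · intro h
        exact ⟨(mem_norm_iff α _).mp a.2, h⟩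
      · intro h
        exact h.2
    rw [this]
    exact Nat.card_congr (Subgroup.subgroupOfEquivOfLe inf_le_left).toEquiv
  rw [hstab, (K.card_DD hβ.symm).2] at hcard
  have horb : Nat.card (MulAction.orbit A β) = 4 := by omega
  have hαo : α ∉ MulAction.orbit A β := by
    rintro ⟨a, ha⟩
    apply hβ
    have h1 : (a : G) • α = α := (mem_norm_iff α _).mp a.2
    have h2 : (a : G) • β = α := ha
    exact smul_left_cancel (a : G) (h2.trans h1.symm)
  have huniv : (Set.univ : Set (Sylow 2 G)) = insert α (MulAction.orbit A β) := by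
    ext γ
    simp only [Set.mem_univ, Set.mem_insert_iff, true_iff]
    by_cases hγ : γ = α
    · exact Or.inl hγ
    · right
      obtain ⟨a, ha, hh⟩ := K.transitive_norm hγ hβ
      exact ⟨⟨a, ha⟩, hh⟩
  rw [← Set.ncard_univ, huniv, Set.ncard_insert_of_notMem hαo, ← Nat.card_coe_set_eq, horb]

/-- The group has order 60. -/
theorem card_group : Nat.card G = 60 := by
  haveI : Fact (Nat.Prime 2) := ⟨Nat.prime_two⟩
  obtain ⟨α⟩ := (inferInstance : Nonempty (Sylow 2 G))
  obtain ⟨β, hβ⟩ := K.hn α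
  have h1 := Subgroup.card_mul_index (Subgroup.normalizer ((α : Subgroup G) : Set G))
  have h2 := Sylow.card_eq_index_normalizer α
  rw [K.card_sylow] at h2
  rw [(K.card_DD hβ.symm).2] at h1
  have h3 : (Subgroup.normalizer ((α : Subgroup G) : Set G)).index = 5 := h2.symm
  rw [h3] at h1
  omega

/-- The action on the Sylow 2-subgroups is faithful. -/
theorem faithful : Function.Injective (MulAction.toPermHom G (Sylow 2 G)) := by
  rw [injective_iff_map_eq_one]
  intro r hr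
  have hfix : ∀ P : Sylow 2 G, r • P = P := fun P => by
    have := congrArg (fun f : Equiv.Perm (Sylow 2 G) => f P) hr
    simpa using this
  obtain ⟨α⟩ := (inferInstance : Nonempty (Sylow 2 G))
  obtain ⟨β, hβ⟩ := K.hn α
  have hrD : r ∈ DD α β := (mem_DD_iff α β r).mpr ⟨hfix α, hfix β⟩
  obtain ⟨v, _, _, hv, _, _, hv1, _, _, _, _, _⟩ := K.exists_three α
  have hrN : r ∈ Subgroup.normalizer ((α : Subgroup G) : Set G) := hrD.1
  set c := v * r * v⁻¹ * r⁻¹ with hc
  have hcα : c ∈ (α : Subgroup G) := by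
    have h1 : r * v⁻¹ * r⁻¹ ∈ (α : Subgroup G) :=
      (Subgroup.mem_normalizer_iff.mp hrN v⁻¹).mp (Subgroup.inv_mem _ hv)
    have h2 := Subgroup.mul_mem _ hv h1
    have h3 : v * (r * v⁻¹ * r⁻¹) = c := by rw [hc]; group
    rwa [h3] at h2
  have hcfix : ∀ P : Sylow 2 G, c • P = P := by
    intro P
    have h1 : r⁻¹ • P = P := by rw [inv_smul_eq_iff, hfix]
    rw [hc, mul_smul, mul_smul, mul_smul, h1, hfix, smul_inv_smul]
  have hcD : c ∈ DD α β := (mem_DD_iff α β c).mpr ⟨hcfix α, hcfix β⟩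
  have hc1 := K.mem_DD_free hβ.symm hcD (K.hE α c hcα)
  have hrC : r ∈ (α : Subgroup G) := by
    rw [← K.hB α v hv hv1, Subgroup.mem_centralizer_singleton_iff]
    have h4 : v * r * v⁻¹ = r := by
      rw [hc] at hc1
      exact mul_inv_eq_one.mp hc1
    rw [mul_inv_eq_iff_eq_mul] at h4
    exact h4.symm
  exact K.mem_DD_free hβ.symm hrD (K.hE α r hrC)

/-- The conclusion. -/
theorem iso_alternating : Nonempty (G ≃* ↥(alternatingGroup (Fin 5))) := by
  classical
  have e : Sylow 2 G ≃ Fin 5 := Finite.equivFinOfCardEq K.card_sylow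
  let F : G →* Equiv.Perm (Fin 5) :=
    (Equiv.permCongrHom e).toMonoidHom.comp (MulAction.toPermHom G (Sylow 2 G))
  have hF : Function.Injective F :=
    (Equiv.permCongrHom e).injective.comp K.faithful
  have hcard : Nat.card F.range = 60 := by
    rw [← K.card_group]
    exact (Nat.card_congr (MonoidHom.ofInjective hF).toEquiv).symm
  have hidx : F.range.index = 2 := by
    have h1 := Subgroup.card_mul_index F.range
    rw [hcard] at h1
    have h2 : Nat.card (Equiv.Perm (Fin 5)) = 120 := by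
      rw [Nat.card_eq_fintype_card, Fintype.card_perm, Fintype.card_fin]
      rfl
    omega
  have hrange := Equiv.Perm.eq_alternatingGroup_of_index_eq_two hidx
  exact ⟨(MonoidHom.ofInjective hF).trans (MulEquiv.subgroupCongr hrange)⟩

end KleinTI

end Cfsg.Agent.H15.ChzFour
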