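import Mathlib

set_option autoImplicit false

namespace Cfsg.Agent.H15

/-- A nontrivial normal subgroup of a finite `p`-group contains a nontrivial central element. -/
theorem exists_central_mem_of_normal {P : Type*} [Group P] [Finite P] {p : ℕ} [Fact p.Prime]
    (hP : IsPGroup p P) (N : Subgroup P) [hN : N.Normal] (hne : N ≠ ⊥) :
    ∃ z ∈ N, z ≠ 1 ∧ ∀ g : P, g * z = z * g := by
  classical
  have hNp : IsPGroup p N := hP.to_subgroup N
  have hCp : IsPGroup p (ConjAct P) := hP.of_equiv ConjAct.toConjAct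
  have hnontriv : Nontrivial N := (Subgroup.nontrivial_iff_ne_bot N).mpr hne
  have hdvd : p ∣ Nat.card N := by
    obtain ⟨n, hn⟩ := IsPGroup.iff_card.mp hNp
    have hn0 : n ≠ 0 := by
      rintro rfl
      have h1 : Nat.card N = 1 := by simpa using hn
      have := Finite.one_lt_card (α := N)
      omega
    rw [hn]
    exact dvd_pow_self p hn0
  have hfix : (1 : N) ∈ MulAction.fixedPoints (ConjAct P) N := by
    intro g
    exact smul_one g
  obtain ⟨b, hb, hne1⟩ := hCp.exists_fixed_point_of_prime_dvd_card_of_fixed_point N hdvd hfix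
  refine ⟨b, b.2, ?_, ?_⟩
  · intro h
    apply hne1
    exact (Subtype.ext h).symm
  · intro g
    have h1 := hb (ConjAct.toConjAct g)
    have h2 : ((ConjAct.toConjAct g • b : N) : P) = g * b * g⁻¹ := rfl
    have h3 : g * (b : P) * g⁻¹ = b := by rw [← h2, h1]
    rw [mul_inv_eq_iff_eq_mul] at h3
    exact h3

/-- Membership in a normalizer from one-sided conjugation invariance for a whole subgroup. -/
theorem le_normalizer_of_conj_mem {X : Type*} [Group X] {S B : Subgroup X}
    (h : ∀ x ∈ S, ∀ b ∈ B, x * b * x⁻¹ ∈ B) : S ≤ Subgroup.normalizer (B : Set X) := by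
  intro x hx
  rw [Subgroup.mem_normalizer_iff]
  intro b
  refine ⟨fun hb => h x hx b hb, fun hb => ?_⟩
  have h1 := h x⁻¹ (S.inv_mem hx) _ hb
  have e : x⁻¹ * (x * b * x⁻¹) * x⁻¹⁻¹ = b := by group
  rw [e] at h1
  exact h1

/-- Description of the centre of a subgroup, viewed in the ambient group. -/
theorem mem_centerMap {X : Type*} [Group X] (R : Subgroup X) (a : X) :
    a ∈ (Subgroup.center ↥R).map R.subtype ↔ a ∈ R ∧ ∀ r ∈ R, r * a = a * r := by
  constructor
  · rintro ⟨⟨z, hzR⟩, hz, rfl⟩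
    refine ⟨hzR, fun r hr => ?_⟩
    have := (Subgroup.mem_center_iff.mp hz) ⟨r, hr⟩
    exact congrArg Subtype.val this
  · rintro ⟨haR, h⟩
    refine ⟨⟨a, haR⟩, ?_, rfl⟩
    rw [SetLike.mem_coe, Subgroup.mem_center_iff]
    rintro ⟨r, hr⟩
    exact Subtype.ext (h r hr)

end Cfsg.Agent.H15
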